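import Groth.Agent.Shriek.Eval
import Groth.Agent.EtFound.ExtZeroExact
import Groth.Agent.EtFound.Detect
import Mathlib

/-! extension by zero along a separated etale morphism is the direct image with proper support -/

set_option autoImplicit false

universe u

open CategoryTheory CategoryTheory.Limits AlgebraicGeometry Opposite

noncomputable section

set_option backward.isDefEq.respectTransparency false
set_option backward.isDefEq.respectTransparency.types false

namespace Groth.Agent.Shriek

open LocCohLib.ExciseSect Groth.Agent.EtFound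

variable {U X : Scheme.{u}} (j : U ⟶ X) [AlgebraicGeometry.Etale j]

/-- base change of an object over `U`, composed with `j` -/
abbrev bb (W : U.Etale) : U.Etale := (EtCoh.bc j).obj ((EtShriek.compEtale j).obj W)

/-- the graph -/
def gam (W : U.Etale) : W ⟶ bb j W :=
  MorphismProperty.Over.homMk (pullback.lift (𝟙 W.left) W.hom (Category.id_comp _)) (pullback.lift_snd _ _ _) trivial

theorem gam_prV (W : U.Etale) :
    (gam j W).left ≫ EtShriek.prV j ((EtShriek.compEtale j).obj W) = 𝟙 W.left :=
  pullback.lift_fst _ _ _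

theorem gam_natural {W W' : U.Etale} (φ : W' ⟶ W) :
    gam j W' ≫ (EtCoh.bc j).map ((EtShriek.compEtale j).map φ) = φ ≫ gam j W := by
  refine MorphismProperty.Over.Hom.ext (pullback.hom_ext ?_ ?_)
  · show ((gam j W').left ≫ ((EtCoh.bc j).map ((EtShriek.compEtale j).map φ)).left) ≫
      EtShriek.prV j ((EtShriek.compEtale j).obj W) = (φ.left ≫ (gam j W).left) ≫
      EtShriek.prV j ((EtShriek.compEtale j).obj W)
    rw [Category.assoc, (EtCoh.isPullback_bc_map j _).w, ← Category.assoc]
    refine (congrArg (· ≫ ((EtShriek.compEtale j).map φ).left) (gam_prV j W')).trans ?_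
    rw [Category.assoc, gam_prV]
    exact (Category.id_comp _).trans (Category.comp_id _).symm
  · exact (MorphismProperty.Over.w (gam j W' ≫ (EtCoh.bc j).map ((EtShriek.compEtale j).map φ))).trans
      (MorphismProperty.Over.w (φ ≫ gam j W)).symm

theorem isPullback_gam {W W' : U.Etale} (φ : W' ⟶ W) :
    IsPullback φ.left (gam j W').left (gam j W).left
      ((EtCoh.bc j).map ((EtShriek.compEtale j).map φ)).left := by
  refine IsPullback.of_bot ?_ ?_ (EtCoh.isPullback_bc_map j ((EtShriek.compEtale j).map φ))
  · rw [gam_prV, gam_prV]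
    exact IsPullback.of_vert_isIso ⟨by
      show φ.left ≫ 𝟙 W.left = 𝟙 W'.left ≫ ((EtShriek.compEtale j).map φ).left
      rw [Category.comp_id, Category.id_comp]; rfl⟩
  · exact (congrArg (fun m : W' ⟶ bb j W => m.left) (gam_natural j φ)).symm

variable [IsSeparated j]

theorem isOpenImmersion_gam (W : U.Etale) : IsOpenImmersion (gam j W).left := by
  haveI : AlgebraicGeometry.Etale (gam j W).left := etale_left _
  haveI : Mono (gam j W).left := mono_of_mono_fac (gam_prV j W)
  exact IsOpenImmersion.of_flat_of_mono _

theorem isClosedImmersion_gam (W : U.Etale) : IsClosedImmersion (gam j W).left := by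
  haveI : IsSeparated (EtShriek.prV j ((EtShriek.compEtale j).obj W)) := MorphismProperty.pullback_fst _ _ ‹_›
  haveI : IsClosedImmersion ((gam j W).left ≫ EtShriek.prV j ((EtShriek.compEtale j).obj W)) :=
    (gam_prV j W).symm ▸ inferInstance
  exact IsClosedImmersion.of_comp (gam j W).left (EtShriek.prV j ((EtShriek.compEtale j).obj W))

/-- the complement of the graph -/
def compl (W : U.Etale) : (bb j W).left.Opens :=
  ⟨(Set.range (gam j W).left.base)ᶜ,
    haveI := isClosedImmersion_gam j W
    (gam j W).left.isClosedEmbedding.isClosed_range.isOpen_compl⟩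

theorem existsUnique_graph (F : EtCoh.Ab U) {W : U.Etale} (a : EtCoh.sect F W) :
    ∃! s : EtCoh.sect F (bb j W),
      F.obj.map (gam j W).op s = a ∧ EtShriek.sectSupp F (bb j W) s ⊆ Set.range (gam j W).left.base := by
  let Zs : Bool → U.Etale := fun b => cond b W (opn (bb j W) (compl j W))
  let g : ∀ b, Zs b ⟶ bb j W := fun b => match b with
    | true => gam j W
    | false => opnι (bb j W) (compl j W)
  let x : ∀ b, EtCoh.sect F (Zs b) := fun b => match b with
    | true => a
    | false => 0
  haveI : ∀ b, Mono (g b) := fun b => match b with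
    | true =>
      haveI := isOpenImmersion_gam j W
      (Scheme.Etale.forget U ⋙ CategoryTheory.Over.forget U).mono_of_mono_map
        (inferInstanceAs (Mono (gam j W).left))
    | false =>
      (Scheme.Etale.forget U ⋙ CategoryTheory.Over.forget U).mono_of_mono_map
        (inferInstanceAs (Mono (compl j W).ι))
  have hb := bijective_sections_of_disjoint F Zs g
    (fun p => by
      by_cases hp : p ∈ Set.range (gam j W).left.base
      · obtain ⟨w, hw⟩ := hp
        exact ⟨true, w, hw⟩
      · exact ⟨false, ⟨p, hp⟩, rfl⟩)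
    (fun i k hik p q h => by
      match i, k with
      | true, true => exact hik rfl
      | false, false => exact hik rfl
      | true, false => exact (q : (compl j W).toScheme).2 ⟨p, h⟩
      | false, true => exact (p : (compl j W).toScheme).2 ⟨q, h.symm⟩)
  obtain ⟨s, hs⟩ := hb.2 x
  refine ⟨s, ⟨congrFun hs true, fun p hp => ?_⟩, fun s' ⟨h₁, h₂⟩ => hb.1 (funext fun b => ?_)⟩
  · by_contra hn
    exact hp _ (g false) ⟨⟨p, hn⟩, rfl⟩ (congrFun hs false)
  · refine Eq.trans ?_ (congrFun hs b).symm
    match b with
    | true => exact h₁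
    | false =>
      show F.obj.map (opnι (bb j W) (compl j W)).op s' = 0
      refine eq_zero_of_supp F _ ?_
      rw [sectSupp_map_eq]
      exact Set.eq_empty_iff_forall_notMem.2 fun p hp => (p : (compl j W).toScheme).2 (h₂ hp)

/-- a section extended by zero off the graph -/
def graphSect (F : EtCoh.Ab U) {W : U.Etale} (a : EtCoh.sect F W) : EtCoh.sect F (bb j W) :=
  (existsUnique_graph j F a).choose

theorem graphSect_gam (F : EtCoh.Ab U) {W : U.Etale} (a : EtCoh.sect F W) :
    F.obj.map (gam j W).op (graphSect j F a) = a := (existsUnique_graph j F a).choose_spec.1.1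

theorem graphSect_supp (F : EtCoh.Ab U) {W : U.Etale} (a : EtCoh.sect F W) :
    EtShriek.sectSupp F (bb j W) (graphSect j F a) ⊆ Set.range (gam j W).left.base :=
  (existsUnique_graph j F a).choose_spec.1.2

theorem graphSect_eq (F : EtCoh.Ab U) {W : U.Etale} {a : EtCoh.sect F W} {s : EtCoh.sect F (bb j W)}
    (h₁ : F.obj.map (gam j W).op s = a) (h₂ : EtShriek.sectSupp F (bb j W) s ⊆ Set.range (gam j W).left.base) :
    s = graphSect j F a :=
  (existsUnique_graph j F a).choose_spec.2 s ⟨h₁, h₂⟩

theorem graphSect_add (F : EtCoh.Ab U) {W : U.Etale} (a b : EtCoh.sect F W) :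
    graphSect j F (a + b) = graphSect j F a + graphSect j F b :=
  (graphSect_eq j F (by rw [map_add, graphSect_gam, graphSect_gam])
    ((sectSupp_add F _ _).trans (Set.union_subset (graphSect_supp j F a) (graphSect_supp j F b)))).symm

theorem PS_graphSect (F : EtCoh.Ab U) {W : U.Etale} (a : EtCoh.sect F W) :
    PS F j ((EtShriek.compEtale j).obj W) (graphSect j F a) := by
  haveI := isClosedImmersion_gam j W
  haveI : IsProper ((gam j W).left ≫ EtShriek.prV j ((EtShriek.compEtale j).obj W)) :=
    (gam_prV j W).symm ▸ inferInstance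
  exact QCoh.IsProperOver.subset (QCoh.isProperOver_range (gam j W).left) (isClosed_sectSupp F _)
    (graphSect_supp j F a)

theorem graphSect_map (F : EtCoh.Ab U) {W W' : U.Etale} (φ : W' ⟶ W) (a : EtCoh.sect F W) :
    F.obj.map ((EtCoh.bc j).map ((EtShriek.compEtale j).map φ)).op (graphSect j F a) =
      graphSect j F (F.obj.map φ.op a) := by
  refine graphSect_eq j F ?_ ?_
  · rw [← map_map, gam_natural, map_map, graphSect_gam]
  · rw [sectSupp_map_eq]
    refine (Set.preimage_mono (graphSect_supp j F a)).trans (le_of_eq ?_)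
    have := Scheme.image_preimage_eq_of_isPullback (isPullback_gam j φ) Set.univ
    rw [Set.preimage_univ, Set.image_univ, Set.image_univ] at this
    exact this.symm

variable [EtShriek.JCont j]

/-- the graph map -/
def psi : 𝟭 (EtCoh.Ab U) ⟶ shriek j ⋙ EtShriek.restrAlong j where
  app F := ⟨{
    app := fun W => AddCommGrpCat.ofHom
      (AddMonoidHom.mk' (fun a => mkSect j (graphSect j F a) (PS_graphSect j F a))
        fun a b => Subtype.ext (graphSect_add j F a b))
    naturality := fun W W' φ => AddCommGrpCat.ext fun a => Subtype.ext (graphSect_map j F φ.unop a).symm }⟩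
  naturality F G α := ObjectProperty.hom_ext _ (NatTrans.ext (funext fun W => AddCommGrpCat.ext fun a =>
    Subtype.ext (graphSect_eq j G (by
      show G.obj.map (gam j W.unop).op (α.hom.app _ (graphSect j F a)) = α.hom.app W a
      rw [← NatTrans.naturality_apply α.hom, graphSect_gam])
      ((sectSupp_app_subset F α _).trans (graphSect_supp j F a))).symm))

/-- extension by zero maps to the direct image with proper support -/
def tau : EtShriek.extZero j ⟶ shriek j where
  app F := ((EtShriek.extZeroAdj j).homEquiv F ((shriek j).obj F)).symm ((psi j).app F)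
  naturality F G α := by
    refine ((EtShriek.extZeroAdj j).homEquiv F ((shriek j).obj G)).injective ?_
    rw [Adjunction.homEquiv_naturality_left, Adjunction.homEquiv_naturality_right,
      Equiv.apply_symm_apply, Equiv.apply_symm_apply]
    exact (psi j).naturality α

theorem tau_unit (F : EtCoh.Ab U) (W : U.Etale) (a : EtCoh.sect F W) :
    ((tau j).app F).hom.app (op ((EtShriek.compEtale j).obj W))
      (((EtShriek.extZeroAdj j).unit.app F).hom.app (op W) a) = ((psi j).app F).hom.app (op W) a := by
  have h : (EtShriek.extZeroAdj j).homEquiv F ((shriek j).obj F) ((tau j).app F) = (psi j).app F :=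
    Equiv.apply_symm_apply _ _
  rw [Adjunction.homEquiv_unit] at h
  exact congrArg (fun ψ => ψ.hom.app (op W) a) h

variable (F : EtCoh.Ab U) {Ω : Type u} [Field Ω] [IsSepClosed Ω] (ξ : Spec (CommRingCat.of Ω) ⟶ X)

theorem evalAt_tau_germ (z z' : PtsOver j ξ) (W : U.Etale) (w : (Scheme.pointSmallEtale z.1).fiber.obj W)
    (a : EtCoh.sect F W) :
    evalAt j ξ F z' ((EtCoh.stalk ξ).map ((tau j).app F)
      (extZeroι j ξ F z ((Scheme.pointSmallEtale z.1).toPresheafFiber W w F.obj a))) =
      (Scheme.pointSmallEtale z'.1).toPresheafFiber (bb j W)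
        (bcPt j ξ z' _ (extLiftPt z W w)) F.obj (graphSect j F a) := by
  have e1 := ConcreteCategory.congr_hom (extZeroι_germ j ξ F z W w) a
  simp only [ConcreteCategory.comp_apply] at e1
  refine (congrArg (fun c => evalAt j ξ F z' ((EtCoh.stalk ξ).map ((tau j).app F) c)) e1).trans ?_
  have e2 : (EtCoh.stalk ξ).map ((tau j).app F)
      ((Scheme.pointSmallEtale ξ).toPresheafFiber ((EtShriek.compEtale j).obj W) (extLiftPt z W w)
        ((EtShriek.extZero j).obj F).obj (((EtShriek.extZeroAdj j).unit.app F).hom.app (op W) a)) = _ :=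
    (Scheme.pointSmallEtale ξ).toPresheafFiber_naturality_apply ((tau j).app F).hom _ _ _
  refine (congrArg (evalAt j ξ F z') e2).trans ?_
  refine (evalAt_germ j ξ F z' _ _ _).trans ?_
  exact congrArg (fun t => (Scheme.pointSmallEtale z'.1).toPresheafFiber (bb j W)
        (bcPt j ξ z' _ (extLiftPt z W w)) F.obj (Subtype.val t)) (tau_unit j F W a)

theorem evalAt_tau_self (z : PtsOver j ξ) (x : (EtCoh.stalk z.1).obj F) :
    evalAt j ξ F z ((EtCoh.stalk ξ).map ((tau j).app F) (extZeroι j ξ F z x)) = x := by
  obtain ⟨W, w, a, rfl⟩ := (Scheme.pointSmallEtale z.1).toPresheafFiber_jointly_surjective x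
  refine (evalAt_tau_germ j F ξ z z W w a).trans ?_
  have e : bcPt j ξ z _ (extLiftPt z W w) = (Scheme.pointSmallEtale z.1).fiber.map (gam j W) w := by
    refine CategoryTheory.Over.OverMorphism.ext (pullback.hom_ext ?_ ?_)
    · refine (pullback.lift_fst _ _ _).trans ?_
      show w.left = (w.left ≫ (gam j W).left) ≫ EtShriek.prV j ((EtShriek.compEtale j).obj W)
      rw [Category.assoc, gam_prV]
      exact (Category.comp_id _).symm
    · refine (pullback.lift_snd _ _ _).trans ?_
      exact (CategoryTheory.Over.w ((Scheme.pointSmallEtale z.1).fiber.map (gam j W) w)).symm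
  rw [e, ← (Scheme.pointSmallEtale z.1).toPresheafFiber_w_apply (gam j W) w F.obj, graphSect_gam]
  rfl

theorem evalAt_tau_ne (z z' : PtsOver j ξ) (hz : z ≠ z') (x : (EtCoh.stalk z.1).obj F) :
    evalAt j ξ F z' ((EtCoh.stalk ξ).map ((tau j).app F) (extZeroι j ξ F z x)) = 0 := by
  obtain ⟨W, w, a, rfl⟩ := (Scheme.pointSmallEtale z.1).toPresheafFiber_jointly_surjective x
  refine (evalAt_tau_germ j F ξ z z' W w a).trans ((germ_eq_zero_iff F _ _).2 fun h => hz ?_)
  obtain ⟨w₀, hw₀⟩ := graphSect_supp j F a h
  haveI := isOpenImmersion_gam j W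
  let b : Spec (CommRingCat.of Ω) ⟶ (bb j W).left := (bcPt j ξ z' _ (extLiftPt z W w)).left
  have hr : Set.range b.base ⊆ Set.range (gam j W).left.base := by
    rintro _ ⟨p, rfl⟩
    rw [Subsingleton.elim (α := Spec (CommRingCat.of Ω)) p default]
    exact ⟨w₀, hw₀⟩
  let l := IsOpenImmersion.lift (gam j W).left b hr
  have hl : l = w.left := by
    have := congrArg (· ≫ EtShriek.prV j ((EtShriek.compEtale j).obj W))
      (IsOpenImmersion.lift_fac (gam j W).left b hr)
    simp only [Category.assoc, gam_prV] at this
    exact ((Category.comp_id _).symm.trans this).trans (pullback.lift_fst _ _ _)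
  refine Subtype.ext ((CategoryTheory.Over.w w).symm.trans ?_)
  have := congrArg (· ≫ pullback.snd ((EtShriek.compEtale j).obj W).hom j)
    (IsOpenImmersion.lift_fac (gam j W).left b hr)
  simp only [Category.assoc] at this
  refine Eq.trans ?_ (this.trans (pullback.lift_snd _ _ _))
  rw [show IsOpenImmersion.lift (gam j W).left b hr = w.left from hl]
  exact congrArg (w.left ≫ ·) (pullback.lift_snd _ _ _).symm

theorem bijective_stalk_tau : Function.Bijective ((EtCoh.stalk ξ).map ((tau j).app F)) := by
  classical
  let S := fun z : PtsOver j ξ => (EtCoh.stalk z.1).obj F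
  let Φ : (Π₀ z, S z) →+ (EtCoh.stalk ξ).obj ((EtShriek.extZero j).obj F) :=
    DFinsupp.sumAddHom fun z => (extZeroι j ξ F z).hom
  have hΦ : Function.Surjective Φ := by
    rw [← AddMonoidHom.range_eq_top, AddSubgroup.eq_top_iff']
    intro c
    let q := AddCommGrpCat.ofHom (QuotientAddGroup.mk' Φ.range)
    have hq : q = 0 := (extZeroCofanIsColimit j ξ F).hom_ext fun z => AddCommGrpCat.ext fun x =>
      ((QuotientAddGroup.eq_zero_iff _).2 ⟨DFinsupp.single z.as x, DFinsupp.sumAddHom_single _ _ _⟩)
    exact (QuotientAddGroup.eq_zero_iff c).1 (ConcreteCategory.congr_hom hq c)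
  let T := (EtCoh.stalk ξ).map ((tau j).app F)
  have hET : ∀ z' (x : Π₀ z, S z), evalAt j ξ F z' (T (Φ x)) = x z' := fun z' x => by
    induction x using DFinsupp.induction with
    | h0 => simp
    | ha z b f _ _ ih =>
      rw [map_add, map_add, map_add, ih, DFinsupp.add_apply]
      congr 1
      show evalAt j ξ F z' (T (Φ (DFinsupp.single z b))) = _
      rw [show Φ (DFinsupp.single z b) = extZeroι j ξ F z b from DFinsupp.sumAddHom_single _ _ _]
      by_cases h : z = z'
      · subst h
        rw [DFinsupp.single_eq_same]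
        exact evalAt_tau_self j F ξ z b
      · rw [DFinsupp.single_eq_of_ne (Ne.symm h)]
        exact evalAt_tau_ne j F ξ z z' h b
  refine ⟨(injective_iff_map_eq_zero T.hom).2 fun c hc => ?_, fun d => ?_⟩
  · obtain ⟨x, rfl⟩ := hΦ c
    have : x = 0 := DFinsupp.ext fun z => by
      rw [← hET z x, show T (Φ x) = 0 from hc, map_zero]; rfl
    rw [this, map_zero]
  · let s := (finite_evalAt j ξ F d).toFinset
    let x : Π₀ z, S z := DFinsupp.mk s fun z => evalAt j ξ F z.1 d
    refine ⟨Φ x, sub_eq_zero.1 (eq_zero_of_evalAt j ξ F (pointsReach_of_etale j ξ) _ fun z => ?_)⟩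
    rw [map_sub, hET]
    by_cases h : z ∈ s
    · rw [DFinsupp.mk_of_mem h, sub_self]
    · rw [DFinsupp.mk_of_notMem h, zero_sub, neg_eq_zero]
      simpa [s] using h

theorem isIso_tau : IsIso (tau j) := by
  haveI : ∀ F, IsIso ((tau j).app F) := fun F =>
    isIso_of_stalks _ fun Ω _ _ ξ => bijective_stalk_tau j F ξ
  exact NatIso.isIso_of_isIso_app _

/-- extension by zero is the direct image with proper support -/
def extZeroIso : EtShriek.extZero j ≅ EtShriek.lowerShriek j :=
  haveI := isIso_tau j
  asIso (tau j) ≪≫ (shriekIso j).symm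

end Groth.Agent.Shriek
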