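import Groth.Agent.Shriek.Comp
import Groth.Agent.Shriek.Etale
import Mathlib

/-! direct image with proper support through a compactification -/

set_option autoImplicit false

universe u

open CategoryTheory CategoryTheory.Limits AlgebraicGeometry Opposite

noncomputable section

set_option backward.isDefEq.respectTransparency false
set_option backward.isDefEq.respectTransparency.types false

namespace Groth.Agent.Shriek

theorem isIso_shriekToPush {X Y : Scheme.{u}} (f : X ⟶ Y) [IsProper f] : IsIso (shriekToPush f) := by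
  haveI : ∀ F, IsIso ((shriekToPush f).app F) := fun F => by
    haveI : ∀ V, IsIso (((shriekToPush f).app F).hom.app V) := fun V =>
      (ConcreteCategory.isIso_iff_bijective _).2 ⟨Subtype.val_injective, fun s => by
        haveI : IsProper (EtShriek.prV f V.unop) := MorphismProperty.pullback_fst _ _ ‹_›
        refine ⟨mkSect f s ⟨isClosed_sectSupp F s, ?_⟩, rfl⟩
        infer_instance⟩
    haveI : IsIso ((sheafToPresheaf _ _).map ((shriekToPush f).app F)) := NatIso.isIso_of_isIso_app ((shriekToPush f).app F).hom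
    exact isIso_of_reflects_iso _ (sheafToPresheaf _ _)
  exact NatIso.isIso_of_isIso_app _

/-- `f_! = fb_* j_!` -/
def compactifyIso {X Xb Y : Scheme.{u}} (j : X ⟶ Xb) [IsOpenImmersion j] (fb : Xb ⟶ Y) [IsProper fb]
    [EtShriek.JCont j] :
    EtShriek.lowerShriek (j ≫ fb) ≅ EtShriek.extZero j ⋙ EtCoh.push fb :=
  haveI := isIso_shriekToPush fb
  shriekIso (j ≫ fb) ≪≫ (shriekComp j fb).symm ≪≫
    NatIso.hcomp ((shriekIso j).symm ≪≫ (extZeroIso j).symm) (asIso (shriekToPush fb))

end Groth.Agent.Shriek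

namespace Groth.Agent.Shriek

/-- base change of the final object -/
def bcTop {X Y : Scheme.{u}} (f : X ⟶ Y) : EtCoh.top X ≅ (EtCoh.bc f).obj (EtCoh.top Y) where
  hom := MorphismProperty.Over.homMk (pullback.lift f (𝟙 X) (by
    show f ≫ 𝟙 Y = 𝟙 X ≫ f
    rw [Category.comp_id, Category.id_comp])) (pullback.lift_snd _ _ _) trivial
  inv := MorphismProperty.Over.homMk (pullback.snd (𝟙 Y) f) (Category.comp_id _) trivial
  hom_inv_id := MorphismProperty.Over.Hom.ext (pullback.lift_snd _ _ _)
  inv_hom_id := MorphismProperty.Over.Hom.ext (by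
    show pullback.snd (𝟙 Y) f ≫ pullback.lift f (𝟙 X) _ = 𝟙 _
    refine pullback.hom_ext ?_ ?_
    · rw [Category.assoc, pullback.lift_fst, Category.id_comp, ← pullback.condition]
      exact Category.comp_id _
    · rw [Category.assoc, pullback.lift_snd, Category.id_comp]
      exact Category.comp_id _)

theorem PS_top_iff {X Y : Scheme.{u}} (f : X ⟶ Y) [LocallyOfFiniteType f] (F : EtCoh.Ab X)
    (s : EtCoh.sect F ((EtCoh.bc f).obj (EtCoh.top Y))) :
    PS F f (EtCoh.top Y) s ↔
      EtShriek.HasProperSupport F (EtCoh.top X) (F.obj.map (bcTop f).hom.op s) f := by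
  rw [hasProperSupport_iff, sectSupp_map_eq]
  have hf : (bcTop f).hom.left ≫ EtShriek.prV f (EtCoh.top Y) = f := pullback.lift_fst _ _ _
  haveI : LocallyOfFiniteType (show (EtCoh.top X).left ⟶ Y from f) := ‹LocallyOfFiniteType f›
  haveI : IsIso (bcTop f).hom.left := inferInstanceAs
    (IsIso ((Scheme.Etale.forget X ⋙ CategoryTheory.Over.forget X).map (bcTop f).hom))
  refine ⟨fun h => QCoh.IsProperOver.preimage (f := (bcTop f).hom.left) hf h, fun h => ?_⟩
  have := QCoh.IsProperOver.preimage (f := inv (bcTop f).hom.left) (p := EtShriek.prV f (EtCoh.top Y)) (q := f)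
    ((congrArg (inv (bcTop f).hom.left ≫ ·) hf.symm).trans (IsIso.inv_hom_id_assoc _ _)) h
  refine (congrArg (ClSub.IsProperOver (EtShriek.prV f (EtCoh.top Y))) ?_).mp this
  ext x
  show (bcTop f).hom.left.base ((inv (bcTop f).hom.left).base x) ∈ EtShriek.sectSupp F _ s ↔
    x ∈ EtShriek.sectSupp F _ s
  rw [← Scheme.Hom.comp_apply, IsIso.inv_hom_id]
  rfl

theorem mem_H0c_iff {k : Type u} [Field k] {X : Scheme.{u}} (p : X ⟶ Spec (CommRingCat.of k))
    [LocallyOfFiniteType p] (F : EtCoh.Ab X) (a : EtCoh.sect F (EtCoh.top X)) :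
    a ∈ EtShriek.H0c p F ↔ EtShriek.HasProperSupport F (EtCoh.top X) a p := by
  refine ⟨fun h => ?_, fun h => AddSubgroup.subset_closure h⟩
  haveI : LocallyOfFiniteType (show (EtCoh.top X).left ⟶ Spec (CommRingCat.of k) from p) := ‹LocallyOfFiniteType p›
  induction h using AddSubgroup.closure_induction with
  | mem x hx => exact hx
  | zero => exact ⟨∅, (sectSupp_zero F).le, QCoh.isProperOver_empty⟩
  | add a b _ _ ha hb =>
    obtain ⟨A, hA, hA'⟩ := ha
    obtain ⟨B, hB, hB'⟩ := hb
    exact ⟨A ∪ B, (sectSupp_add F a b).trans (Set.union_subset_union hA hB), QCoh.IsProperOver.union hA' hB'⟩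
  | neg a _ ha =>
    obtain ⟨A, hA, hA'⟩ := ha
    exact ⟨A, (sectSupp_neg F a).le.trans hA, hA'⟩

/-- compactly supported global sections are global sections over the final object -/
def H0cEquiv {k : Type u} [Field k] {X : Scheme.{u}} (p : X ⟶ Spec (CommRingCat.of k))
    [LocallyOfFiniteType p] (F : EtCoh.Ab X) :
    EtShriek.H0c p F ≃+ EtCoh.sect ((shriek p).obj F) (EtCoh.top (Spec (CommRingCat.of k))) where
  toFun a := mkSect p (F.obj.map (bcTop p).inv.op a.1) (by
    rw [PS_top_iff, ← ConcreteCategory.comp_apply, ← Functor.map_comp, ← op_comp, Iso.hom_inv_id, map_id']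
    exact (mem_H0c_iff p F a.1).1 a.2)
  invFun t := ⟨F.obj.map (bcTop p).hom.op t.1,
    (mem_H0c_iff p F _).2 ((PS_top_iff p F t.1).1 (PS_of_section p t))⟩
  left_inv a := Subtype.ext (by
    show F.obj.map (bcTop p).hom.op (F.obj.map (bcTop p).inv.op a.1) = a.1
    rw [← ConcreteCategory.comp_apply, ← Functor.map_comp, ← op_comp, Iso.hom_inv_id, map_id'])
  right_inv t := Subtype.ext (by
    show F.obj.map (bcTop p).inv.op (F.obj.map (bcTop p).hom.op t.1) = t.1
    rw [← ConcreteCategory.comp_apply, ← Functor.map_comp, ← op_comp, Iso.inv_hom_id, map_id'])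
  map_add' a b := Subtype.ext (map_add _ _ _)

theorem H0c_compactification {k : Type u} [Field k] {X Xb : Scheme.{u}} (j : X ⟶ Xb)
    [IsOpenImmersion j] (pb : Xb ⟶ Spec (CommRingCat.of k)) [IsProper pb]
    [EtShriek.JCont j] (F : EtCoh.Ab X) :
    Nonempty (EtShriek.H0c (j ≫ pb) F ≃+ EtCoh.sect ((EtShriek.extZero j).obj F) (EtCoh.top Xb)) := by
  let e := ((sheafToPresheaf _ _).mapIso (((shriekIso (j ≫ pb)).symm ≪≫ compactifyIso j pb).app F)).app
    (op (EtCoh.top (Spec (CommRingCat.of k))))
  let e' := ((EtShriek.extZero j).obj F).obj.mapIso (bcTop pb).op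
  exact ⟨((H0cEquiv (j ≫ pb) F).trans e.addCommGroupIsoToAddEquiv).trans e'.addCommGroupIsoToAddEquiv⟩

end Groth.Agent.Shriek
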