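import Groth.Agent.Shriek.Etale
import Groth.Agent.Shriek.Compactify
import Groth.Agent.EtFound.CounitEpi
import Groth.Agent.EtFound.JContGen
import Mathlib

/-! sections with proper support push forward along separated etale maps -/

set_option autoImplicit false

universe u

open CategoryTheory CategoryTheory.Limits AlgebraicGeometry Opposite

noncomputable section

set_option backward.isDefEq.respectTransparency false
set_option backward.isDefEq.respectTransparency.types false

namespace Groth.Agent.Shriek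

open LocCohLib.ExciseSect Groth.Agent.EtFound

theorem sectSupp_restrAlong {U X : Scheme.{u}} (j : U ⟶ X) [AlgebraicGeometry.Etale j] [EtShriek.JCont j]
    (F : EtCoh.Ab X) (W : U.Etale) (s : EtCoh.sect F ((EtShriek.compEtale j).obj W)) :
    EtShriek.sectSupp ((EtShriek.restrAlong j).obj F) W s =
      EtShriek.sectSupp F ((EtShriek.compEtale j).obj W) s := by
  ext x
  refine ⟨fun h => ?_, fun h V g hv => h _ ((EtShriek.compEtale j).map g) hv⟩
  intro V g hv hg
  obtain ⟨w, hw⟩ := hv
  let W₁ : U.Etale :=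
    haveI : AlgebraicGeometry.Etale g.left := etale_left g
    haveI : AlgebraicGeometry.Etale W.hom := W.prop
    Scheme.Etale.mk (show V.left ⟶ U from g.left ≫ W.hom)
  let g' : W₁ ⟶ W := MorphismProperty.Over.homMk (show V.left ⟶ W.left from g.left) rfl trivial
  let e : (EtShriek.compEtale j).obj W₁ ⟶ V := MorphismProperty.Over.homMk (𝟙 V.left) (by
    show 𝟙 V.left ≫ V.hom = (g.left ≫ W.hom) ≫ j
    rw [Category.id_comp, Category.assoc]
    exact (MorphismProperty.Over.w g).symm) trivial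
  have he : (EtShriek.compEtale j).map g' = e ≫ g :=
    MorphismProperty.Over.Hom.ext (Category.id_comp g.left).symm
  refine h W₁ g' ⟨w, hw⟩ ?_
  show F.obj.map ((EtShriek.compEtale j).map g').op s = 0
  rw [he, op_comp, Functor.map_comp, ConcreteCategory.comp_apply, hg, map_zero]

theorem restrStalkMap_germ_apply {U X : Scheme.{u}} (j : U ⟶ X) [AlgebraicGeometry.Etale j] [EtShriek.JCont j]
    {Ω : Type u} [Field Ω] [IsSepClosed Ω] (z : Spec (CommRingCat.of Ω) ⟶ U) (F : EtCoh.Ab X) (W : U.Etale)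
    (w : (Scheme.pointSmallEtale z).fiber.obj W) (s : EtCoh.sect F ((EtShriek.compEtale j).obj W)) :
    restrStalkMap j z F ((Scheme.pointSmallEtale z).toPresheafFiber W w ((EtShriek.restrAlong j).obj F).obj s) =
      (Scheme.pointSmallEtale (z ≫ j)).toPresheafFiber ((EtShriek.compEtale j).obj W)
        (extLiftPt (ξ := z ≫ j) ⟨z, rfl⟩ W w) F.obj s := by
  have h := ConcreteCategory.congr_hom (restrStalkMap_germ (A := AddCommGrpCat.{u + 1}) j z F W w) s
  exact h

section Top

variable {W M : Scheme.{u}} (k : W ⟶ M) [AlgebraicGeometry.Etale k] [IsSeparated k] [EtShriek.JCont k]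
  (F : EtCoh.Ab M) (S : EtCoh.sect ((EtShriek.restrAlong k).obj F) (EtCoh.top W))
  (hS : EtShriek.HasProperSupport ((EtShriek.restrAlong k).obj F) (EtCoh.top W) S k)

/-- a section with proper support as a section of the direct image -/
def upSect : EtCoh.sect ((shriek k).obj ((EtShriek.restrAlong k).obj F)) (EtCoh.top M) :=
  mkSect k (((EtShriek.restrAlong k).obj F).obj.map (bcTop k).inv.op S) (by
    rw [PS_top_iff, ← ConcreteCategory.comp_apply, ← Functor.map_comp, ← op_comp, Iso.hom_inv_id, map_id']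
    exact hS)

/-- the sum over the fibres -/
def traceTop : EtCoh.sect F (EtCoh.top M) :=
  haveI := isIso_tau k
  ((inv ((tau k).app ((EtShriek.restrAlong k).obj F))) ≫ (EtShriek.extZeroAdj k).counit.app F).hom.app
    (op (EtCoh.top M)) (upSect k F S hS)

theorem evalAt_upSect {Ω : Type u} [Field Ω] [IsSepClosed Ω] {r : Spec (CommRingCat.of Ω) ⟶ M}
    (v : (Scheme.pointSmallEtale r).fiber.obj (EtCoh.top M)) (z : PtsOver k r) :
    evalAt k r ((EtShriek.restrAlong k).obj F) z
      ((Scheme.pointSmallEtale r).toPresheafFiber (EtCoh.top M) v ((shriek k).obj ((EtShriek.restrAlong k).obj F)).obj (upSect k F S hS)) =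
    (Scheme.pointSmallEtale z.1).toPresheafFiber (EtCoh.top W)
      (CategoryTheory.Over.homMk z.1 (Category.comp_id _)) ((EtShriek.restrAlong k).obj F).obj S := by
  refine (evalAt_germ k r _ z _ v _).trans ?_
  refine ((Scheme.pointSmallEtale z.1).toPresheafFiber_w_apply (bcTop k).inv (bcPt k r z _ v)
    ((EtShriek.restrAlong k).obj F).obj S).trans ?_
  refine congrArg (fun w => (Scheme.pointSmallEtale z.1).toPresheafFiber (EtCoh.top W) w
    ((EtShriek.restrAlong k).obj F).obj S) (CategoryTheory.Over.OverMorphism.ext ?_)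
  exact pullback.lift_snd _ _ _

theorem traceTop_germ {Ω : Type u} [Field Ω] [IsSepClosed Ω] {r : Spec (CommRingCat.of Ω) ⟶ M}
    (v : (Scheme.pointSmallEtale r).fiber.obj (EtCoh.top M)) :
    haveI := isIso_tau k
    (Scheme.pointSmallEtale r).toPresheafFiber (EtCoh.top M) v F.obj (traceTop k F S hS) =
    (EtCoh.stalk r).map ((EtShriek.extZeroAdj k).counit.app F)
      ((EtCoh.stalk r).map (inv ((tau k).app ((EtShriek.restrAlong k).obj F)))
        ((Scheme.pointSmallEtale r).toPresheafFiber (EtCoh.top M) v ((shriek k).obj ((EtShriek.restrAlong k).obj F)).obj (upSect k F S hS))) := by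
  haveI := isIso_tau k
  refine Eq.trans ?_ ((ConcreteCategory.congr_hom ((EtCoh.stalk r).map_comp
    (inv ((tau k).app ((EtShriek.restrAlong k).obj F))) ((EtShriek.extZeroAdj k).counit.app F)) _).trans
      (ConcreteCategory.comp_apply _ _ _))
  exact ((Scheme.pointSmallEtale r).toPresheafFiber_naturality_apply
    (inv ((tau k).app ((EtShriek.restrAlong k).obj F)) ≫ (EtShriek.extZeroAdj k).counit.app F).hom
    (EtCoh.top M) v (upSect k F S hS)).symm

theorem traceTop_germ_zero {Ω : Type u} [Field Ω] [IsSepClosed Ω] {r : Spec (CommRingCat.of Ω) ⟶ M}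
    (v : (Scheme.pointSmallEtale r).fiber.obj (EtCoh.top M))
    (h0 : ∀ z : PtsOver k r, pt₀ z.1 ∉ EtShriek.sectSupp ((EtShriek.restrAlong k).obj F) (EtCoh.top W) S) :
    (Scheme.pointSmallEtale r).toPresheafFiber (EtCoh.top M) v F.obj (traceTop k F S hS) = 0 := by
  have hd : (Scheme.pointSmallEtale r).toPresheafFiber (EtCoh.top M) v ((shriek k).obj ((EtShriek.restrAlong k).obj F)).obj (upSect k F S hS) = 0 :=
    eq_zero_of_evalAt k r _ (pointsReach_of_etale k r) _ fun z => by
      refine (evalAt_upSect k F S hS v z).trans ?_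
      exact (germ_eq_zero_iff _ _ _).2 (h0 z)
  rw [traceTop_germ, hd, map_zero, map_zero]

theorem traceTop_germ_single {Ω : Type u} [Field Ω] [IsSepClosed Ω] (z₀ : Spec (CommRingCat.of Ω) ⟶ W)
    (v : (Scheme.pointSmallEtale (z₀ ≫ k)).fiber.obj (EtCoh.top M))
    (h0 : ∀ z : PtsOver k (z₀ ≫ k), z.1 ≠ z₀ →
      pt₀ z.1 ∉ EtShriek.sectSupp ((EtShriek.restrAlong k).obj F) (EtCoh.top W) S) :
    (Scheme.pointSmallEtale (z₀ ≫ k)).toPresheafFiber (EtCoh.top M) v F.obj (traceTop k F S hS) =
      restrStalkMap k z₀ F ((Scheme.pointSmallEtale z₀).toPresheafFiber (EtCoh.top W)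
        (CategoryTheory.Over.homMk z₀ (Category.comp_id _)) ((EtShriek.restrAlong k).obj F).obj S) := by
  haveI := isIso_tau k
  let G := (EtShriek.restrAlong k).obj F
  let ξ := z₀ ≫ k
  let x := (Scheme.pointSmallEtale z₀).toPresheafFiber (EtCoh.top W)
        (CategoryTheory.Over.homMk z₀ (Category.comp_id _)) G.obj S
  have hd : (Scheme.pointSmallEtale ξ).toPresheafFiber (EtCoh.top M) v ((shriek k).obj ((EtShriek.restrAlong k).obj F)).obj (upSect k F S hS) =
      (EtCoh.stalk ξ).map ((tau k).app G) (extZeroι k ξ G ⟨z₀, rfl⟩ x) := by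
    refine sub_eq_zero.1 (eq_zero_of_evalAt k ξ _ (pointsReach_of_etale k ξ) _ fun z => ?_)
    rw [map_sub, sub_eq_zero]
    refine (evalAt_upSect k F S hS v z).trans ?_
    by_cases hz : z.1 = z₀
    · obtain rfl : z = ⟨z₀, rfl⟩ := Subtype.ext hz
      exact (evalAt_tau_self k G ξ ⟨z₀, rfl⟩ x).symm
    · refine ((germ_eq_zero_iff _ _ _).2 (h0 z hz)).trans ?_
      exact (evalAt_tau_ne k G ξ ⟨z₀, rfl⟩ z (fun e => hz (congrArg Subtype.val e).symm) x).symm
  rw [traceTop_germ, hd]
  rw [← ConcreteCategory.comp_apply ((EtCoh.stalk ξ).map ((tau k).app G)), ← Functor.map_comp, IsIso.hom_inv_id,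
    CategoryTheory.Functor.map_id]
  exact (ConcreteCategory.comp_apply _ _ x).symm.trans (ConcreteCategory.congr_hom (extZeroι_counit k z₀ F) x)

end Top

variable {X : Scheme.{u}} (F : EtCoh.Ab X) {W M : X.Etale} (m : W ⟶ M) [IsSeparated m.left]
  (S : EtCoh.sect F W) (hS : ClSub.IsProperOver m.left (EtShriek.sectSupp F W S))

include hS in
theorem exists_trace :
    ∃ t : EtCoh.sect F M, EtShriek.sectSupp F M t ⊆ m.left.base '' EtShriek.sectSupp F W S ∧
      ∀ (Ω : Type u) (_ : Field Ω) (_ : IsSepClosed Ω) (ζ : Spec (CommRingCat.of Ω) ⟶ X)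
        (w₀ : (Scheme.pointSmallEtale ζ).fiber.obj W),
        (∀ w : (Scheme.pointSmallEtale ζ).fiber.obj W,
          (Scheme.pointSmallEtale ζ).fiber.map m w = (Scheme.pointSmallEtale ζ).fiber.map m w₀ → w ≠ w₀ →
          pt₀ w.left ∉ EtShriek.sectSupp F W S) →
        (Scheme.pointSmallEtale ζ).toPresheafFiber M ((Scheme.pointSmallEtale ζ).fiber.map m w₀) F.obj t =
          (Scheme.pointSmallEtale ζ).toPresheafFiber W w₀ F.obj S := by
  haveI : AlgebraicGeometry.Etale M.hom := M.prop
  haveI : AlgebraicGeometry.Etale W.hom := W.prop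
  haveI := etale_left m
  haveI := EtFound.jCont M.hom
  haveI := EtFound.jCont m.left
  let k : W.left ⟶ M.left := m.left
  let FM : EtCoh.Ab M.left := (EtShriek.restrAlong M.hom).obj F
  let GW : EtCoh.Ab W.left := (EtShriek.restrAlong k).obj FM
  let eM : (EtShriek.compEtale M.hom).obj (EtCoh.top M.left) ≅ M :=
    MorphismProperty.Over.isoMk (Iso.refl M.left) rfl
  let eW : (EtShriek.compEtale M.hom).obj ((EtShriek.compEtale k).obj (EtCoh.top W.left)) ≅ W :=
    MorphismProperty.Over.isoMk (Iso.refl W.left) (by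
      show 𝟙 W.left ≫ W.hom = (𝟙 W.left ≫ k) ≫ M.hom
      rw [Category.id_comp, Category.id_comp]
      exact (MorphismProperty.Over.w m).symm)
  let S' : EtCoh.sect GW (EtCoh.top W.left) := F.obj.map eW.hom.op S
  have hsupp : EtShriek.sectSupp GW (EtCoh.top W.left) S' = EtShriek.sectSupp F W S := by
    rw [sectSupp_restrAlong, sectSupp_restrAlong, sectSupp_map_eq]
    rfl
  have hS' : EtShriek.HasProperSupport GW (EtCoh.top W.left) S' k := ⟨_, hsupp.le, hS⟩
  let t₀ := traceTop k FM S' hS'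
  let t : EtCoh.sect F M := F.obj.map eM.inv.op t₀
  have ht : F.obj.map eM.hom.op t = t₀ := by
    show F.obj.map eM.hom.op (F.obj.map eM.inv.op t₀) = t₀
    rw [← ConcreteCategory.comp_apply, ← Functor.map_comp, ← op_comp, Iso.hom_inv_id, map_id']
  have hgerm : ∀ {Ω : Type u} [Field Ω] [IsSepClosed Ω] (r : Spec (CommRingCat.of Ω) ⟶ M.left),
      (Scheme.pointSmallEtale (r ≫ M.hom)).toPresheafFiber M (CategoryTheory.Over.homMk r rfl) F.obj t =
        restrStalkMap M.hom r F ((Scheme.pointSmallEtale r).toPresheafFiber (EtCoh.top M.left)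
          (CategoryTheory.Over.homMk r (Category.comp_id _)) FM.obj t₀) := fun r => by
    refine Eq.trans ?_ (restrStalkMap_germ_apply M.hom r F _ _ t₀).symm
    rw [← ht, (Scheme.pointSmallEtale (r ≫ M.hom)).toPresheafFiber_w_apply eM.hom]
    refine congrArg (fun w => (Scheme.pointSmallEtale (r ≫ M.hom)).toPresheafFiber M w F.obj t) ?_
    exact CategoryTheory.Over.OverMorphism.ext (Category.comp_id r).symm
  refine ⟨t, fun p hp => ?_, fun Ω _ _ ζ w₀ h0 => ?_⟩
  · by_contra hn
    obtain ⟨Ω, _, _, r, u, hu⟩ := exists_point_through (EtCoh.top M.left) p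
    obtain ⟨rl, hr⟩ : ∃ rl : Spec (CommRingCat.of Ω) ⟶ M.left, rl = u.left := ⟨_, rfl⟩
    have hrp : pt₀ rl = p := hr ▸ hu _
    have := hgerm rl
    rw [traceTop_germ_zero k FM S' hS' _ (fun z hz => hn ⟨pt₀ z.1, hsupp ▸ hz, ?_⟩), map_zero] at this
    · exact ((germ_eq_zero_iff F _ t).1 this) (hrp.symm ▸ hp)
    · show k.base (pt₀ z.1) = p
      rw [← Scheme.Hom.comp_apply, z.2]
      exact hrp
  · obtain ⟨z₀, hz₀, rfl⟩ : ∃ (z₀ : Spec (CommRingCat.of Ω) ⟶ W.left) (hz₀ : z₀ ≫ W.hom = ζ),
        w₀ = CategoryTheory.Over.homMk z₀ hz₀ := ⟨w₀.left, CategoryTheory.Over.w w₀, rfl⟩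
    have hζ : ζ = (z₀ ≫ k) ≫ M.hom := hz₀.symm.trans ((congrArg (z₀ ≫ ·) (MorphismProperty.Over.w m).symm).trans
      (Category.assoc _ _ _).symm)
    subst hζ
    have e1 : (Scheme.pointSmallEtale ((z₀ ≫ k) ≫ M.hom)).fiber.map m (CategoryTheory.Over.homMk z₀ hz₀) =
        CategoryTheory.Over.homMk (z₀ ≫ k) rfl := CategoryTheory.Over.OverMorphism.ext rfl
    rw [e1, hgerm (z₀ ≫ k), traceTop_germ_single k FM S' hS' z₀]
    · rw [restrStalkMap_germ_apply k z₀ FM]
      refine (restrStalkMap_germ_apply M.hom (z₀ ≫ k) F _ _ S').trans ?_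
      refine ((Scheme.pointSmallEtale ((z₀ ≫ k) ≫ M.hom)).toPresheafFiber_w_apply eW.hom _ F.obj S).trans ?_
      exact congrArg (fun w => (Scheme.pointSmallEtale ((z₀ ≫ k) ≫ M.hom)).toPresheafFiber W w F.obj S)
        (CategoryTheory.Over.OverMorphism.ext (Category.comp_id z₀))
    · intro z hz
      rw [hsupp]
      have hzW : z.1 ≫ W.hom = (z₀ ≫ k) ≫ M.hom := by
        rw [← MorphismProperty.Over.w m, ← Category.assoc]
        exact congrArg (· ≫ M.hom) z.2
      refine h0 (CategoryTheory.Over.homMk z.1 hzW) ?_ fun e => hz (congrArg (fun w => w.left) e)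
      exact CategoryTheory.Over.OverMorphism.ext z.2

end Groth.Agent.Shriek
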