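import Groth.Agent.QCoh.ProperOver2
import Mathlib

/-! properness over the base is etale local on the base -/

set_option autoImplicit false

universe u

open CategoryTheory CategoryTheory.Limits AlgebraicGeometry Opposite

noncomputable section

set_option backward.isDefEq.respectTransparency false

namespace Groth.Agent.Shriek

theorem isClosed_of_jointly {T : Scheme.{u}} {ι : Type*} {T' : ι → Scheme.{u}} (π : ∀ i, T' i ⟶ T)
    (ho : ∀ i, IsOpenMap (π i).base) (hs : ∀ x, ∃ i, x ∈ Set.range (π i).base) {C : Set T}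
    (hC : ∀ i, IsClosed ((π i).base ⁻¹' C)) : IsClosed C := by
  refine isOpen_compl_iff.1 ?_
  have h : Cᶜ = ⋃ i, (π i).base '' ((π i).base ⁻¹' C)ᶜ := by
    ext x
    refine ⟨fun hx => ?_, fun hx => ?_⟩
    · obtain ⟨i, y, rfl⟩ := hs x
      exact Set.mem_iUnion.2 ⟨i, y, hx, rfl⟩
    · obtain ⟨i, y, hy, rfl⟩ := Set.mem_iUnion.1 hx
      exact hy
  rw [h]
  exact isOpen_iUnion fun i => ho i _ (hC i).isOpen_compl

theorem isPullback_map_self {T S T₁ S₁ : Scheme.{u}} {g : T ⟶ S} {c : S₁ ⟶ S} {c' : T₁ ⟶ T} {g' : T₁ ⟶ S₁}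
    (sq : IsPullback c' g' g c) :
    IsPullback (pullback.map g' g' g g c' c' c sq.w.symm sq.w.symm) (pullback.fst g' g') (pullback.fst g g) c' := by
  have h1 : IsPullback (pullback.snd g' g' ≫ c') (pullback.fst g' g') g (c' ≫ g) :=
    sq.w ▸ (IsPullback.of_hasPullback g' g').flip.paste_horiz sq
  refine IsPullback.of_right ?_ (pullback.lift_fst _ _ _) (IsPullback.of_hasPullback g g).flip
  rw [show _ ≫ pullback.snd g g = pullback.snd g' g' ≫ c' from pullback.lift_snd _ _ _]
  exact h1

variable {T S : Scheme.{u}} (g : T ⟶ S) {ι : Type*} {S' T' : ι → Scheme.{u}} (c : ∀ i, S' i ⟶ S)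
  (c' : ∀ i, T' i ⟶ T) (g' : ∀ i, T' i ⟶ S' i) (sq : ∀ i, IsPullback (c' i) (g' i) g (c i))
  [∀ i, AlgebraicGeometry.Etale (c i)] (hc : ∀ x, ∃ i, x ∈ Set.range (c i).base)

include sq hc in
theorem universallyClosed_of_jointly [∀ i, UniversallyClosed (g' i)] : UniversallyClosed g := by
  refine ⟨MorphismProperty.universally_mk' _ _ fun {Y} f _ s hs => ?_⟩
  let q := pullback.snd g f
  show IsClosed ((pullback.fst f g).base '' s)
  refine isClosed_of_jointly (fun i => pullback.fst f (c i)) (fun i => ?_) (fun y => ?_) fun i => ?_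
  · haveI : AlgebraicGeometry.Etale (pullback.fst f (c i)) := MorphismProperty.pullback_fst _ _ inferInstance
    exact (pullback.fst f (c i)).isOpenMap
  · obtain ⟨i, z, hz⟩ := hc (f.base y)
    obtain ⟨w, hw, -⟩ := Scheme.Pullback.exists_preimage_pullback (f := f) (g := c i) y z hz.symm
    exact ⟨i, w, hw⟩
  · let π := pullback.fst f (c i)
    let h := pullback.snd f (c i)
    let a := pullback.fst π (pullback.fst f g)
    let b := pullback.snd π (pullback.fst f g)
    have big : IsPullback (b ≫ pullback.snd f g) a g (π ≫ f) :=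
      (IsPullback.of_hasPullback π (pullback.fst f g)).flip.paste_horiz (IsPullback.of_hasPullback f g).flip
    have hh : (b ≫ pullback.snd f g) ≫ g = (a ≫ h) ≫ c i := by
      rw [big.w, Category.assoc]
      simp only [π, h, pullback.condition]
    let l := (sq i).lift (b ≫ pullback.snd f g) (a ≫ h) hh
    have sqA : IsPullback l a (g' i) h := by
      refine IsPullback.of_right ?_ ((sq i).lift_snd _ _ _) (sq i)
      have e : h ≫ c i = π ≫ f := pullback.condition.symm
      rw [e, show l ≫ c' i = b ≫ pullback.snd f g from (sq i).lift_fst _ _ _]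
      exact big
    haveI : UniversallyClosed a := MorphismProperty.of_isPullback sqA inferInstance
    show IsClosed (π.base ⁻¹' ((pullback.fst f g).base '' s))
    rw [← Scheme.image_preimage_eq_of_isPullback (IsPullback.of_hasPullback π (pullback.fst f g)).flip s]
    exact a.isClosedMap _ (hs.preimage b.continuous)

include sq hc in
theorem isSeparated_of_jointly [∀ i, IsSeparated (g' i)] : IsSeparated g := by
  refine ⟨IsClosedImmersion.of_isPreimmersion _ ?_⟩
  refine isClosed_of_jointly (fun i => pullback.map (g' i) (g' i) g g (c' i) (c' i) (c i) (sq i).w.symm (sq i).w.symm)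
    (fun i => ?_) (fun z => ?_) fun i => ?_
  · haveI : AlgebraicGeometry.Etale (c' i) := MorphismProperty.of_isPullback (sq i).flip inferInstance
    let p := pullback.map (g' i) (g' i) g g (c' i) (c' i) (c i) (sq i).w.symm (sq i).w.symm
    have sqD : IsPullback p (pullback.fst (g' i) (g' i) ≫ g' i) (pullback.fst g g ≫ g) (c i) :=
      (isPullback_map_self (sq i)).paste_vert (sq i)
    haveI : AlgebraicGeometry.Etale p := MorphismProperty.of_isPullback sqD.flip inferInstance
    exact p.isOpenMap
  · obtain ⟨i, y, hy⟩ := hc ((pullback.fst g g ≫ g).base z)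
    refine ⟨i, ?_⟩
    obtain ⟨t₁, ht₁, -⟩ : ∃ t, (c' i).base t = (pullback.fst g g).base z ∧ (g' i).base t = y := by
      obtain ⟨t, ht, ht'⟩ := Scheme.Pullback.exists_preimage_pullback (f := g) (g := c i)
        ((pullback.fst g g).base z) y ((Scheme.Hom.comp_apply _ _ _).symm.trans hy.symm)
      refine ⟨(sq i).isoPullback.inv.base t, ?_, ?_⟩
      · rw [← Scheme.Hom.comp_apply, IsPullback.isoPullback_inv_fst]; exact ht
      · rw [← Scheme.Hom.comp_apply, IsPullback.isoPullback_inv_snd]; exact ht'
    have h2 := isPullback_map_self (sq i)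
    obtain ⟨w, hw, -⟩ := Scheme.Pullback.exists_preimage_pullback (f := pullback.fst g g) (g := c' i) z t₁ ht₁.symm
    refine ⟨h2.isoPullback.inv.base w, ?_⟩
    rw [← Scheme.Hom.comp_apply, IsPullback.isoPullback_inv_fst]
    exact hw
  · have key : Set.range (pullback.diagonal (g' i)).base =
        (pullback.map (g' i) (g' i) g g (c' i) (c' i) (c i) (sq i).w.symm (sq i).w.symm).base ⁻¹'
          Set.range (pullback.diagonal g).base := by
      have sqd : IsPullback (c' i) (pullback.diagonal (g' i)) (pullback.diagonal g)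
          (pullback.map (g' i) (g' i) g g (c' i) (c' i) (c i) (sq i).w.symm (sq i).w.symm) := by
        refine IsPullback.of_bot ?_ (by ext <;> simp) (isPullback_map_self (sq i))
        rw [pullback.diagonal_fst, pullback.diagonal_fst]
        exact IsPullback.of_vert_isIso ⟨by rw [Category.comp_id, Category.id_comp]⟩
      have := Scheme.image_preimage_eq_of_isPullback sqd Set.univ
      rwa [Set.preimage_univ, Set.image_univ, Set.image_univ] at this
    rw [← key]
    exact (pullback.diagonal (g' i)).isClosedEmbedding.isClosed_range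

include hc in
/-- properness over the base is local for the etale topology -/
theorem isProperOver_of_local {P : Scheme.{u}} (p : P ⟶ S) [LocallyOfFiniteType p]
    {P' : ι → Scheme.{u}} (d : ∀ i, P' i ⟶ P) (p' : ∀ i, P' i ⟶ S' i)
    (hsq : ∀ i, IsPullback (d i) (p' i) p (c i)) {Z : Set P} (hZ : IsClosed Z)
    (h : ∀ i, ClSub.IsProperOver (p' i) ((d i).base ⁻¹' Z)) : ClSub.IsProperOver p Z := by
  let k := (Scheme.IdealSheafData.vanishingIdeal ⟨Z, hZ⟩).subschemeι
  have sqk : ∀ i, IsPullback (pullback.snd (d i) k) (pullback.fst (d i) k ≫ p' i) (k ≫ p) (c i) := fun i =>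
    IsPullback.paste_vert (IsPullback.of_hasPullback (d i) k).flip (hsq i)
  haveI hp : ∀ i, IsProper (pullback.fst (d i) k ≫ p' i) := fun i => by
    haveI : LocallyOfFiniteType (p' i) := MorphismProperty.of_isPullback (hsq i) inferInstance
    exact QCoh.isProper_comp_of_isProperOver _ (h i)
      (le_of_eq (by rw [Scheme.Pullback.range_fst, QCoh.range_vanishing]))
  haveI := universallyClosed_of_jointly (k ≫ p) c _ _ sqk hc
  haveI := isSeparated_of_jointly (k ≫ p) c _ _ sqk hc
  exact ⟨hZ, { }⟩

end Groth.Agent.Shriek
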