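import Groth.Agent.LocCohLib.ExciseSect
import Groth.Agent.Shriek.ProperLocal
import Groth.Agent.EtFound.CoprodSections
import Mathlib

/-! sections with proper support form a sheaf -/

set_option autoImplicit false

universe u

open CategoryTheory CategoryTheory.Limits AlgebraicGeometry Opposite

noncomputable section

set_option backward.isDefEq.respectTransparency false
set_option backward.isDefEq.respectTransparency.types false

namespace Groth.Agent.Shriek

open LocCohLib.ExciseSect Groth.Agent.EtFound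

variable {X : Scheme.{u}} (F : EtCoh.Ab X) {U V : X.Etale}

theorem isClosed_sectSupp (s : EtCoh.sect F U) : IsClosed (EtShriek.sectSupp F U s) := by
  refine isOpen_compl_iff.1 (isOpen_iff_forall_mem_open.2 fun x hx => ?_)
  obtain ⟨W, g, hw, h0⟩ := exists_kill F s x hx
  haveI := etale_left g
  refine ⟨Set.range g.left.base, ?_, g.left.isOpenMap.isOpen_range, hw⟩
  rintro _ ⟨w, rfl⟩ h
  exact h W g ⟨w, rfl⟩ h0

theorem map_id' (s : EtCoh.sect F U) : F.obj.map (𝟙 U : U ⟶ U).op s = s := by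
  rw [op_id, CategoryTheory.Functor.map_id]; rfl

theorem sectSupp_zero : EtShriek.sectSupp F U (0 : EtCoh.sect F U) = ∅ :=
  Set.eq_empty_iff_forall_notMem.2 fun x hx => hx U (𝟙 U) ⟨x, rfl⟩ (map_zero _)

theorem sectSupp_neg (s : EtCoh.sect F U) : EtShriek.sectSupp F U (-s) = EtShriek.sectSupp F U s := by
  ext x
  simp only [EtShriek.sectSupp, Set.mem_setOf_eq, map_neg, ne_eq, neg_eq_zero]

theorem sectSupp_add (s t : EtCoh.sect F U) :
    EtShriek.sectSupp F U (s + t) ⊆ EtShriek.sectSupp F U s ∪ EtShriek.sectSupp F U t := by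
  intro x hx
  by_contra h
  obtain ⟨hs, ht⟩ := not_or.1 h
  obtain ⟨W₁, g₁, ⟨w₁, e₁⟩, h₁⟩ := exists_kill F s x hs
  obtain ⟨W₂, g₂, ⟨w₂, e₂⟩, h₂⟩ := exists_kill F t x ht
  obtain ⟨W, a, b, w, hab, ha, -⟩ := exists_refine g₁ g₂ w₁ w₂ (e₁.trans e₂.symm)
  refine hx W (a ≫ g₁) ⟨w, by rw [comp_base, ha, e₁]⟩ ?_
  rw [map_add, map_map, h₁, map_zero, zero_add, hab, map_map, h₂, map_zero]

/-- supports commute with restriction -/
theorem sectSupp_map_eq (a : V ⟶ U) (s : EtCoh.sect F U) :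
    EtShriek.sectSupp F V (F.obj.map a.op s) = a.left.base ⁻¹' EtShriek.sectSupp F U s := by
  refine (sectSupp_map F a s).antisymm fun v hv => ?_
  by_contra h
  obtain ⟨W, g, ⟨w, hw⟩, h0⟩ := exists_kill F _ v h
  exact hv W (g ≫ a) ⟨w, by rw [comp_base, hw]⟩ ((map_map F g a s).trans h0)

theorem eq_zero_of_supp (s : EtCoh.sect F U) (h : EtShriek.sectSupp F U s = ∅) : s = 0 := by
  refine eq_of_locally F s 0 fun x => ?_
  obtain ⟨W, g, hw, h0⟩ := exists_kill F s x (h ▸ Set.notMem_empty x)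
  exact ⟨W, g, hw, h0.trans (map_zero _).symm⟩

theorem sectSupp_app_subset {G : EtCoh.Ab X} (α : F ⟶ G) (s : EtCoh.sect F U) :
    EtShriek.sectSupp G U (α.hom.app (op U) s) ⊆ EtShriek.sectSupp F U s :=
  EtShriek.sectSupp_map_subset α U s

theorem sectSupp_app_eq {G : EtCoh.Ab X} (α : F ⟶ G) (hα : ∀ W, Function.Injective (α.hom.app (op W)))
    (s : EtCoh.sect F U) : EtShriek.sectSupp G U (α.hom.app (op U) s) = EtShriek.sectSupp F U s := by
  refine (sectSupp_app_subset F α s).antisymm fun x hx W g hw h => hx W g hw (hα W ?_)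
  rw [map_zero, NatTrans.naturality_apply α.hom, h]

section Rel

variable {Y : Scheme.{u}} (f : X ⟶ Y) [LocallyOfFiniteType f]

instance lft_prV (V : Y.Etale) : LocallyOfFiniteType (EtShriek.prV f V) :=
  MorphismProperty.pullback_fst _ _ ‹_›

/-- support proper over the base -/
def PS (V : Y.Etale) (s : EtCoh.sect F ((EtCoh.bc f).obj V)) : Prop :=
  ClSub.IsProperOver (EtShriek.prV f V) (EtShriek.sectSupp F ((EtCoh.bc f).obj V) s)

omit [LocallyOfFiniteType f] in
theorem hasProperSupport_iff {U : X.Etale} {S : Scheme.{u}} (g : U.left ⟶ S) (s : EtCoh.sect F U) :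
    EtShriek.HasProperSupport F U s g ↔ ClSub.IsProperOver g (EtShriek.sectSupp F U s) :=
  ⟨fun ⟨_, hZ, hp⟩ => QCoh.IsProperOver.subset hp (isClosed_sectSupp F s) hZ, fun h => ⟨_, le_rfl, h⟩⟩

theorem PS.map {V V' : Y.Etale} (φ : V' ⟶ V) {s : EtCoh.sect F ((EtCoh.bc f).obj V)} (hs : PS F f V s) :
    PS F f V' (F.obj.map ((EtCoh.bc f).map φ).op s) := by
  rw [PS, sectSupp_map_eq]
  exact QCoh.IsProperOver.baseChange (EtCoh.isPullback_bc_map f φ) hs

theorem shriekPred_iff {V : Y.Etale} (s : EtCoh.sect F ((EtCoh.bc f).obj V)) :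
    EtShriek.ShriekPred f F V s ↔ PS F f V s := by
  refine ⟨fun h => ?_, fun h V' φ => (hasProperSupport_iff F _ _).2 (h.map F f φ)⟩
  have := (hasProperSupport_iff F _ _).1 (h V (𝟙 V))
  rwa [CategoryTheory.Functor.map_id, map_id'] at this

theorem mem_shriekSubgroup_iff {V : Y.Etale} (s : EtCoh.sect F ((EtCoh.bc f).obj V)) :
    s ∈ EtShriek.shriekSubgroup f F V ↔ PS F f V s := by
  refine ⟨fun h => ?_, fun h => AddSubgroup.subset_closure ((shriekPred_iff F f s).2 h)⟩
  induction h using AddSubgroup.closure_induction with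
  | mem x hx => exact (shriekPred_iff F f x).1 hx
  | zero => rw [PS, sectSupp_zero]; exact QCoh.isProperOver_empty
  | add a b _ _ ha hb =>
    exact QCoh.IsProperOver.subset (QCoh.IsProperOver.union ha hb) (isClosed_sectSupp F _) (sectSupp_add F a b)
  | neg a _ ha => rw [PS, sectSupp_neg]; exact ha

/-- proper support is local on the base -/
theorem PS.of_local {V : Y.Etale} (s : EtCoh.sect F ((EtCoh.bc f).obj V)) {ι : Type*} (W : ι → Y.Etale)
    (g : ∀ i, W i ⟶ V) (hg : ∀ x, ∃ i, x ∈ Set.range (g i).left.base)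
    (h : ∀ i, PS F f (W i) (F.obj.map ((EtCoh.bc f).map (g i)).op s)) : PS F f V s := by
  haveI := fun i => etale_left (g i)
  refine isProperOver_of_local (fun i => (g i).left) hg (EtShriek.prV f V) (fun i => ((EtCoh.bc f).map (g i)).left)
    (fun i => EtShriek.prV f (W i)) (fun i => EtCoh.isPullback_bc_map f (g i)) (isClosed_sectSupp F s) fun i => ?_
  have := h i
  rwa [PS, sectSupp_map_eq] at this

theorem isSheaf_lowerShriekPre : Presheaf.IsSheaf Y.smallEtaleTopology (EtShriek.lowerShriekPre f F) := by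
  rw [Presheaf.isSheaf_iff_isSheaf_forget _ _ (forget AddCommGrpCat.{u + 1}), isSheaf_iff_isSheaf_of_type]
  intro V R hR x hx
  let G := (EtCoh.push f).obj F
  let ι := EtShriek.lowerShriekPreι f F
  have hG := (isSheaf_iff_isSheaf_of_type _ _).1
    ((Presheaf.isSheaf_iff_isSheaf_forget Y.smallEtaleTopology G.obj (forget AddCommGrpCat.{u + 1})).1 G.2) R hR
  obtain ⟨t, ht, huniq⟩ := hG (fun W g hg => (x g hg).1) fun Y₁ Y₂ Z g₁ g₂ f₁ f₂ h₁ h₂ he =>
    congrArg Subtype.val (hx g₁ g₂ h₁ h₂ he)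
  have htP : PS F f V t := by
    let κ := Σ W : Y.Etale, {g : W ⟶ V // R.arrows g}
    refine PS.of_local F f t (ι := κ) (fun k => k.1) (fun k => k.2.1) (fun p => ?_) fun k => ?_
    · obtain ⟨W, g, w, hg, hw⟩ := (mem_topology_iff R).1 hR p
      exact ⟨⟨W, g, hg⟩, w, hw⟩
    · have := ht k.2.1 k.2.2
      exact this.symm ▸ (mem_shriekSubgroup_iff F f _).1 (x k.2.1 k.2.2).2
  refine ⟨⟨t, (mem_shriekSubgroup_iff F f t).2 htP⟩, fun W g hg => Subtype.ext (ht g hg), fun t' ht' => ?_⟩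
  exact Subtype.ext (huniq t'.1 fun W g hg => congrArg Subtype.val (ht' g hg))

end Rel

end Groth.Agent.Shriek
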