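import Groth.Agent.Shriek.Lqf
import Groth.Agent.EtFound.FieldExt
import Mathlib

/-! direct images with proper support along locally quasi-finite separated morphisms are exact -/

set_option autoImplicit false

universe u

open CategoryTheory CategoryTheory.Limits AlgebraicGeometry Opposite

noncomputable section

set_option backward.isDefEq.respectTransparency false
set_option backward.isDefEq.respectTransparency.types false

namespace Groth.Agent.Shriek

open LocCohLib.ExciseSect Groth.Agent.EtFound

variable {X Y : Scheme.{u}} (f : X ⟶ Y)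

section stalks

variable [LocallyOfFiniteType f] {Ω : Type u} [Field Ω] [IsSepClosed Ω] (η : Spec (CommRingCat.of Ω) ⟶ Y)

theorem evalAt_natural {F G : EtCoh.Ab X} (α : F ⟶ G) (z : PtsOver f η)
    (d : (EtCoh.stalk η).obj ((shriek f).obj F)) :
    evalAt f η G z ((EtCoh.stalk η).map ((shriek f).map α) d) = (EtCoh.stalk z.1).map α (evalAt f η F z d) := by
  obtain ⟨V, v, t, rfl⟩ := (Scheme.pointSmallEtale η).toPresheafFiber_jointly_surjective d
  have e : (EtCoh.stalk η).map ((shriek f).map α)
      ((Scheme.pointSmallEtale η).toPresheafFiber V v ((shriek f).obj F).obj t) = _ :=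
    (Scheme.pointSmallEtale η).toPresheafFiber_naturality_apply ((shriek f).map α).hom _ _ _
  refine (congrArg (evalAt f η G z) e).trans ((evalAt_germ f η G z V v _).trans ?_)
  refine Eq.trans ?_ (congrArg ((EtCoh.stalk z.1).map α) (evalAt_germ f η F z V v t)).symm
  exact ((Scheme.pointSmallEtale z.1).toPresheafFiber_naturality_apply α.hom _ _ _).symm

end stalks

section ext

variable {S : Scheme.{u}} {Ω : Type u} [Field Ω] [IsSepClosed Ω] (ξ : Spec (CommRingCat.of Ω) ⟶ S)

/-- the extension to an algebraically closed field -/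
abbrev algPt : Spec (CommRingCat.of (AlgebraicClosure Ω)) ⟶ S :=
  Spec.map (CommRingCat.ofHom (algebraMap Ω (AlgebraicClosure Ω))) ≫ ξ

/-- stalks at a geometric point and at its extension -/
def algStalkIso : EtCoh.stalk ξ ≅ EtCoh.stalk (algPt ξ) :=
  stalkExtIso AddCommGrpCat.{u + 1} ξ (Spec.map (CommRingCat.ofHom (algebraMap Ω (AlgebraicClosure Ω))))

theorem bijective_stalk_of_alg {A B : EtCoh.Ab S} (a : A ⟶ B)
    (h : Function.Bijective ((EtCoh.stalk (algPt ξ)).map a)) : Function.Bijective ((EtCoh.stalk ξ).map a) := by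
  haveI : IsIso ((EtCoh.stalk (algPt ξ)).map a) := (ConcreteCategory.isIso_iff_bijective _).2 h
  haveI : IsIso ((EtCoh.stalk ξ).map a) := (NatIso.isIso_map_iff (algStalkIso ξ) a).2 inferInstance
  exact ConcreteCategory.bijective_of_isIso ((EtCoh.stalk ξ).map a)

end ext

variable [IsSeparated f] [LocallyOfFiniteType f] [LocallyQuasiFinite f]

section alg

variable {Ω : Type u} [Field Ω] [IsAlgClosed Ω] (η : Spec (CommRingCat.of Ω) ⟶ Y)

theorem exists_evalAt_eq (F : EtCoh.Ab X) (g : ∀ z : PtsOver f η, (EtCoh.stalk z.1).obj F)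
    (hg : {z | g z ≠ 0}.Finite) : ∃ d, ∀ z, evalAt f η F z d = g z := by
  classical
  choose d hd hd' using fun z => exists_evalAt_single f η F z (g z)
  refine ⟨∑ z ∈ hg.toFinset, d z, fun z => ?_⟩
  rw [map_sum, Finset.sum_eq_single z (fun b _ hb => hd' b z (Ne.symm hb))
    (fun hz => by rw [hd z]; simpa using hz), hd z]

/-- the components of a stalk of `shriek f F` -/
def components (F : EtCoh.Ab X) :
    (EtCoh.stalk η).obj ((shriek f).obj F) →+ (Π₀ z : PtsOver f η, (EtCoh.stalk z.1).obj F) := by
  classical
  exact AddMonoidHom.mk' (fun d => DFinsupp.mk (finite_evalAt_lqf f η F d).toFinset fun z => evalAt f η F z.1 d)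
    fun a b => DFinsupp.ext fun z => by
      have hT : ∀ d, (DFinsupp.mk (finite_evalAt_lqf f η F d).toFinset fun z => evalAt f η F z.1 d :
          Π₀ z : PtsOver f η, (EtCoh.stalk z.1).obj F) z = evalAt f η F z d := fun d => by
        by_cases h : z ∈ (finite_evalAt_lqf f η F d).toFinset
        · exact DFinsupp.mk_of_mem h
        · refine (DFinsupp.mk_of_notMem h).trans ?_
          simp only [Set.Finite.mem_toFinset, Set.mem_setOf_eq, not_not] at h
          exact h.symm
      rw [DFinsupp.add_apply, hT, hT, hT, map_add]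

theorem components_apply (F : EtCoh.Ab X) (d) (z : PtsOver f η) : components f η F d z = evalAt f η F z d := by
  classical
  show (DFinsupp.mk (finite_evalAt_lqf f η F d).toFinset fun z => evalAt f η F z.1 d :
          Π₀ z : PtsOver f η, (EtCoh.stalk z.1).obj F) z = _
  by_cases h : z ∈ (finite_evalAt_lqf f η F d).toFinset
  · exact DFinsupp.mk_of_mem h
  · refine (DFinsupp.mk_of_notMem h).trans ?_
    simp only [Set.Finite.mem_toFinset, Set.mem_setOf_eq, not_not] at h
    exact h.symm

/-- stalks as sums over the fibre -/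
def stalkEquiv (F : EtCoh.Ab X) :
    (EtCoh.stalk η).obj ((shriek f).obj F) ≃+ (Π₀ z : PtsOver f η, (EtCoh.stalk z.1).obj F) := by
  classical
  refine AddEquiv.ofBijective (components f η F) ⟨(injective_iff_map_eq_zero _).2 fun d hd => ?_, fun g => ?_⟩
  · exact eq_zero_of_evalAt_lqf f η F d fun z => (components_apply f η F d z).symm.trans (DFunLike.congr_fun hd z)
  · obtain ⟨d, hd⟩ := exists_evalAt_eq f η F (fun z => g z) (g.support.finite_toSet.subset fun z hz => by
      simpa [DFinsupp.mem_support_toFun] using hz)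
    exact ⟨d, DFinsupp.ext fun z => (components_apply f η F d z).trans (hd z)⟩

theorem stalkEquiv_apply (F : EtCoh.Ab X) (d) (z : PtsOver f η) : stalkEquiv f η F d z = evalAt f η F z d :=
  components_apply f η F d z

theorem exact_stalk_shriek {S : ShortComplex (EtCoh.Ab X)} (hS : S.Exact)
    (d : (EtCoh.stalk η).obj ((shriek f).obj S.X₂))
    (hd : (EtCoh.stalk η).map ((shriek f).map S.g) d = 0) :
    ∃ c, (EtCoh.stalk η).map ((shriek f).map S.f) c = d := by
  classical
  have hz : ∀ z, ∃ c, (EtCoh.stalk z.1).map S.f c = evalAt f η S.X₂ z d := fun z =>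
    (ShortComplex.ab_exact_iff _).1 ((exact_iff_stalks S).1 hS Ω z.1) _
      ((evalAt_natural f η S.g z d).symm.trans (by rw [hd, map_zero]))
  choose c hc using hz
  let g : ∀ z : PtsOver f η, (EtCoh.stalk z.1).obj S.X₁ := fun z => if evalAt f η S.X₂ z d = 0 then 0 else c z
  obtain ⟨e, he⟩ := exists_evalAt_eq f η S.X₁ g ((finite_evalAt_lqf f η S.X₂ d).subset fun z hz h => hz (if_pos h))
  refine ⟨e, sub_eq_zero.1 (eq_zero_of_evalAt_lqf f η _ _ fun z => ?_)⟩
  rw [map_sub, evalAt_natural, he, sub_eq_zero]
  by_cases h : evalAt f η S.X₂ z d = 0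
  · rw [show g z = 0 from if_pos h, map_zero, h]
  · rw [show g z = c z from if_neg h, hc]

theorem surjective_stalk_shriek {F G : EtCoh.Ab X} (α : F ⟶ G) [Epi α] :
    Function.Surjective ((EtCoh.stalk η).map ((shriek f).map α)) := by
  classical
  intro d
  have hz : ∀ z : PtsOver f η, ∃ c, (EtCoh.stalk z.1).map α c = evalAt f η G z d := fun z =>
    (epi_iff_stalks α).1 inferInstance Ω z.1 _
  choose c hc using hz
  let g : ∀ z : PtsOver f η, (EtCoh.stalk z.1).obj F := fun z => if evalAt f η G z d = 0 then 0 else c z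
  obtain ⟨e, he⟩ := exists_evalAt_eq f η F g ((finite_evalAt_lqf f η G d).subset fun z hz h => hz (if_pos h))
  refine ⟨e, sub_eq_zero.1 (eq_zero_of_evalAt_lqf f η _ _ fun z => ?_)⟩
  rw [map_sub, evalAt_natural, he, sub_eq_zero]
  by_cases h : evalAt f η G z d = 0
  · rw [show g z = 0 from if_pos h, map_zero, h]
  · rw [show g z = c z from if_neg h, hc]

end alg

theorem stalk_coprod {Ω : Type u} [Field Ω] [IsAlgClosed Ω] (η : Spec (CommRingCat.of Ω) ⟶ Y) (F : EtCoh.Ab X) :
    Nonempty ((EtCoh.stalk η).obj ((EtShriek.lowerShriek f).obj F) ≅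
      ∐ fun ξ : {ξ : Spec (CommRingCat.of Ω) ⟶ X // ξ ≫ f = η} => (EtCoh.stalk ξ.1).obj F) := by
  classical
  let A := fun ξ : PtsOver f η => (EtCoh.stalk ξ.1).obj F
  let c : Cofan A := Cofan.mk (AddCommGrpCat.of (Π₀ z, A z)) fun z =>
    AddCommGrpCat.ofHom (DFinsupp.singleAddHom (fun z => A z) z)
  have hc : IsColimit c := Cofan.IsColimit.mk _
    (fun s => AddCommGrpCat.ofHom (DFinsupp.sumAddHom fun z => (s.inj z).hom))
    (fun s z => AddCommGrpCat.ext fun x => by
      show DFinsupp.sumAddHom (fun z => (s.inj z).hom) (DFinsupp.single z x) = _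
      exact DFinsupp.sumAddHom_single _ _ _)
    (fun s m hm => AddCommGrpCat.hom_ext (DFinsupp.addHom_ext fun z x => by
      exact (ConcreteCategory.congr_hom (hm z) x).trans (DFinsupp.sumAddHom_single (fun z => (s.inj z).hom) z x).symm))
  exact ⟨(EtCoh.stalk η).mapIso ((shriekIso f).app F) ≪≫ (stalkEquiv f η F).toAddCommGrpIso ≪≫
    hc.coconePointUniqueUpToIso (colimit.isColimit _)⟩

omit [IsSeparated f] [LocallyQuasiFinite f] in
theorem shriek_additive : (shriek f).Additive where
  map_add {F G} {a b} := ObjectProperty.hom_ext _ (by ext V ⟨s, hs⟩; rfl)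

omit [IsSeparated f] [LocallyQuasiFinite f] in
theorem mono_shriek_map {F G : EtCoh.Ab X} (α : F ⟶ G) [Mono α] : Mono ((shriek f).map α) := by
  haveI : ∀ V, Mono (((shriek f).map α).hom.app V) := fun V => (AddCommGrpCat.mono_iff_injective _).2 fun a b h => by
    haveI : Mono ((sheafToPresheaf _ _).map α) := inferInstance
    haveI : Mono (α.hom.app (op ((EtCoh.bc f).obj V.unop))) := (NatTrans.mono_iff_mono_app α.hom).1 this _
    exact Subtype.ext ((AddCommGrpCat.mono_iff_injective (α.hom.app (op ((EtCoh.bc f).obj V.unop)))).1 inferInstance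
      (congrArg Subtype.val h))
  haveI : Mono ((shriek f).map α).hom := NatTrans.mono_of_mono_app _
  exact (sheafToPresheaf _ _).mono_of_mono_map this

theorem shriek_exact : PreservesFiniteLimits (shriek f) ∧ PreservesFiniteColimits (shriek f) := by
  haveI := shriek_additive f
  have hex : ∀ (S : ShortComplex (EtCoh.Ab X)), S.ShortExact → (S.map (shriek f)).Exact := fun S hS => by
    refine (exact_iff_stalks _).2 fun Ω _ _ ξ => ?_
    refine (ShortComplex.exact_iff_of_iso ((S.map (shriek f)).mapNatIso (algStalkIso ξ))).2 ?_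
    exact (ShortComplex.ab_exact_iff _).2 fun d hd => exact_stalk_shriek f (algPt ξ) hS.exact d hd
  refine ⟨?_, ?_⟩
  · rw [Functor.preservesFiniteLimits_iff_forall_exact_map_and_mono]
    intro S hS
    haveI := hS.mono_f
    exact ⟨hex S hS, mono_shriek_map f S.f⟩
  · rw [Functor.preservesFiniteColimits_iff_forall_exact_map_and_epi]
    intro S hS
    haveI := hS.epi_g
    refine ⟨hex S hS, (epi_iff_stalks _).2 fun Ω _ _ ξ => ?_⟩
    haveI : Epi ((EtCoh.stalk (algPt ξ)).map ((shriek f).map S.g)) :=
      (AddCommGrpCat.epi_iff_surjective _).2 (surjective_stalk_shriek f (algPt ξ) S.g)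
    refine (AddCommGrpCat.epi_iff_surjective _).1 ?_
    rw [← NatIso.naturality_2 (algStalkIso ξ) ((shriek f).map S.g)]
    infer_instance

theorem lowerShriek_exact :
    PreservesFiniteLimits (EtShriek.lowerShriek f) ∧ PreservesFiniteColimits (EtShriek.lowerShriek f) := by
  haveI := (shriek_exact f).1
  haveI := (shriek_exact f).2
  exact ⟨preservesFiniteLimits_of_natIso (shriekIso f).symm, preservesFiniteColimits_of_natIso (shriekIso f).symm⟩

theorem sum_surjective {J : Type (u + 1)} {A : J → AddCommGrpCat.{u + 1}} [DecidableEq J] {c : Cofan A}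
    (hc : IsColimit c) : Function.Surjective (DFinsupp.sumAddHom fun i => (c.inj i).hom) := by
  let Φ : (Π₀ i, A i) →+ c.pt := DFinsupp.sumAddHom fun i => (c.inj i).hom
  show Function.Surjective Φ
  rw [← AddMonoidHom.range_eq_top, AddSubgroup.eq_top_iff']
  intro x
  let q := AddCommGrpCat.ofHom (QuotientAddGroup.mk' Φ.range)
  have hq : q = 0 := hc.hom_ext fun i => AddCommGrpCat.ext fun y =>
    ((QuotientAddGroup.eq_zero_iff _).2 ⟨DFinsupp.single i.as y, DFinsupp.sumAddHom_single _ _ _⟩)
  exact (QuotientAddGroup.eq_zero_iff x).1 (ConcreteCategory.congr_hom hq x)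

theorem shriek_preservesCoproducts (J : Type (u + 1)) : PreservesColimitsOfShape (Discrete J) (shriek f) := by
  classical
  haveI := shriek_additive f
  haveI : HasColimitsOfSize.{u + 1, u + 1} (EtCoh.Ab X) := inferInstance
  haveI : HasColimitsOfSize.{u + 1, u + 1} (EtCoh.Ab Y) := inferInstance
  suffices ∀ G : J → EtCoh.Ab X, IsIso (sigmaComparison (shriek f) G) by
    haveI : ∀ G : J → EtCoh.Ab X, PreservesColimit (Discrete.functor G) (shriek f) := fun G => by
      haveI := this G
      exact PreservesCoproduct.of_iso_comparison (shriek f) G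
    exact preservesColimitsOfShape_of_discrete _
  intro G
  refine (isIso_iff_stalks _).2 fun Ω _ _ ξ => ?_
  haveI : IsIso ((EtCoh.stalk (algPt ξ)).map (sigmaComparison (shriek f) G)) := by
    let η := algPt ξ
    let φ := (EtCoh.stalk η).map (sigmaComparison (shriek f) G)
    have hφ : ∀ i (y : (EtCoh.stalk η).obj ((shriek f).obj (G i))),
        φ ((EtCoh.stalk η).map (Sigma.ι (fun b => (shriek f).obj (G b)) i) y) =
          (EtCoh.stalk η).map ((shriek f).map (Sigma.ι G i)) y := fun i y => by
      rw [← ConcreteCategory.comp_apply, ← Functor.map_comp, ι_comp_sigmaComparison]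
    have hc : ∀ {Ω' : Type u} [Field Ω'] [IsSepClosed Ω'] {S : Scheme.{u}} (ζ : Spec (CommRingCat.of Ω') ⟶ S)
        (A : J → EtCoh.Ab S), Function.Surjective (DFinsupp.sumAddHom fun i =>
          ((EtCoh.stalk ζ).map (Sigma.ι A i)).hom) := fun ζ A => by
      haveI : (EtCoh.stalk ζ).IsLeftAdjoint := (Scheme.pointSmallEtale ζ).skyscraperSheafAdjunction.isLeftAdjoint
      exact sum_surjective (isColimitCofanMkObjOfIsColimit (EtCoh.stalk ζ) _ _ (coproductIsCoproduct A))
    refine (ConcreteCategory.isIso_iff_bijective _).2 ⟨(injective_iff_map_eq_zero φ.hom).2 fun x hx => ?_, fun y => ?_⟩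
    · obtain ⟨a, rfl⟩ := hc η (fun b => (shriek f).obj (G b)) x
      suffices a = 0 by rw [this, map_zero]
      ext i
      refine eq_zero_of_evalAt_lqf f η _ _ fun z => ?_
      let π : ∐ G ⟶ G i := Sigma.desc fun b => if h : b = i then eqToHom (by rw [h]) else 0
      have hπ : ∀ (b : J) (w : (EtCoh.stalk η).obj ((shriek f).obj (G b))),
          (EtCoh.stalk η).map ((shriek f).map (Sigma.ι G b ≫ π)) w = if h : b = i then h ▸ w else 0 := fun b w => by
        simp only [π, Sigma.ι_desc]
        split_ifs with h
        · subst h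
          rw [eqToHom_refl, CategoryTheory.Functor.map_id, CategoryTheory.Functor.map_id]
          rfl
        · rw [Functor.map_zero, Functor.map_zero]
          rfl
      have key : ∀ a : (Π₀ b, (EtCoh.stalk η).obj ((shriek f).obj (G b))),
          (EtCoh.stalk η).map ((shriek f).map π) (φ (DFinsupp.sumAddHom (fun b =>
            ((EtCoh.stalk η).map (Sigma.ι (fun b => (shriek f).obj (G b)) b)).hom) a)) = a i := fun a => by
        induction a using DFinsupp.induction with
        | h0 => simp
        | ha b w g _ _ ih =>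
          rw [map_add, map_add, map_add, ih, DFinsupp.add_apply, DFinsupp.sumAddHom_single]
          congr 1
          refine ((congrArg ((EtCoh.stalk η).map ((shriek f).map π)) (hφ b w)).trans ?_)
          rw [← ConcreteCategory.comp_apply, ← Functor.map_comp, ← Functor.map_comp, hπ]
          split_ifs with h
          · subst h; rw [DFinsupp.single_eq_same]
          · rw [DFinsupp.single_eq_of_ne (Ne.symm h)]
      rw [← key a, show φ _ = 0 from hx, map_zero, map_zero]
    · obtain ⟨g, hg⟩ : ∃ g : (Π₀ z : PtsOver f η, (EtCoh.stalk z.1).obj (∐ G)),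
          stalkEquiv f η (∐ G) y = g := ⟨_, rfl⟩
      have hy : y = (stalkEquiv f η (∐ G)).symm g := by rw [← hg, AddEquiv.symm_apply_apply]
      subst hy
      clear hg
      suffices g ∈ (((stalkEquiv f η (∐ G)).toAddMonoidHom.comp φ.hom).range) by
        obtain ⟨x, hx⟩ := this
        exact ⟨x, (stalkEquiv f η (∐ G)).injective (hx.trans (AddEquiv.apply_symm_apply _ g).symm)⟩
      induction g using DFinsupp.induction with
      | h0 => exact zero_mem _
      | ha z x g _ hx ih =>
        clear hx
        refine add_mem ?_ ih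
        obtain ⟨b, rfl⟩ := hc z.1 G x
        induction b using DFinsupp.induction with
        | h0 => rw [map_zero, DFinsupp.single_zero]; exact zero_mem _
        | ha i w b hb hw ih =>
          rw [map_add, DFinsupp.single_add]
          refine add_mem ?_ ih
          rw [DFinsupp.sumAddHom_single]
          obtain ⟨d, hd, hd'⟩ := exists_evalAt_single f η (G i) z w
          refine ⟨(EtCoh.stalk η).map (Sigma.ι (fun b => (shriek f).obj (G b)) i) d, DFinsupp.ext fun z' => ?_⟩
          show stalkEquiv f η (∐ G) (φ _) z' = _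
          rw [hφ]
          rw [stalkEquiv_apply, evalAt_natural]
          by_cases h : z = z'
          · subst h
            rw [DFinsupp.single_eq_same, hd]
          · rw [DFinsupp.single_eq_of_ne (Ne.symm h), hd' z' (Ne.symm h), map_zero]
  exact (ConcreteCategory.isIso_iff_bijective _).2 (bijective_stalk_of_alg ξ _ (ConcreteCategory.bijective_of_isIso _))

theorem lowerShriek_isLeftAdjoint : (EtShriek.lowerShriek f).IsLeftAdjoint := by
  haveI := shriek_additive f
  haveI := (shriek_exact f).2
  haveI := fun J => shriek_preservesCoproducts f J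
  haveI : PreservesColimitsOfSize.{u + 1, u + 1} (shriek f) :=
    preservesColimits_of_preservesCoequalizers_and_coproducts _
  haveI : PreservesColimitsOfSize.{u + 1, u + 1} (EtShriek.lowerShriek f) :=
    preservesColimits_of_natIso (shriekIso f).symm
  exact isLeftAdjoint_of_preservesColimits_of_isSeparating
    (P := ObjectProperty.singleton (separator (EtCoh.Ab X))) (isSeparator_separator _) _

end Groth.Agent.Shriek
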