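import Groth.Agent.Shriek.Realise
import Groth.Agent.Shriek.LqfExact
import Groth.Agent.Shriek.Compactify
import Groth.Agent.H0PBC.BaseChange
import Groth.Agent.EtFound.SepClosedField
import Groth.Agent.EtFound.PullStalk
import Mathlib

/-! direct images with proper support commute with base change -/

set_option autoImplicit false

universe u

open CategoryTheory CategoryTheory.Limits AlgebraicGeometry Opposite

noncomputable section

set_option backward.isDefEq.respectTransparency false
set_option backward.isDefEq.respectTransparency.types false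

namespace Groth.Agent.Shriek

open Groth.Agent.EtFound Groth.Agent.H0PBC

theorem sectSupp_pullSect {P X : Scheme.{u}} (π : P ⟶ X) (F : EtCoh.Ab X) {U : X.Etale} (s : EtCoh.sect F U) :
    EtShriek.sectSupp ((EtCoh.pull π).obj F) ((EtCoh.bc π).obj U) (pullSect π F s) ⊆
      (EtShriek.prV π U).base ⁻¹' EtShriek.sectSupp F U s := by
  intro q hq
  obtain ⟨Ω, _, _, a, ha⟩ := exists_geom_point (X := ((EtCoh.bc π).obj U).left) q
  let ξ : Spec (CommRingCat.of Ω) ⟶ P := a ≫ ((EtCoh.bc π).obj U).hom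
  have hb : (a ≫ EtShriek.prV π U) ≫ U.hom = ξ ≫ π :=
    (Category.assoc _ _ _).trans ((congrArg (a ≫ ·) pullback.condition).trans (Category.assoc _ _ _).symm)
  by_contra hn
  refine (germ_eq_zero_iff' ((EtCoh.pull π).obj F) (pullSect π F s) ξ a rfl).1 ?_ (by
    show a default ∈ _
    rw [ha]; exact hq)
  refine (germ_pullSect π F ξ (ξ ≫ π) rfl s a rfl _ hb rfl).trans ?_
  have h0 : germ F s (ξ ≫ π) (a ≫ EtShriek.prV π U) hb = 0 := (germ_eq_zero_iff' F s _ _ hb).2 (by
    show (a ≫ EtShriek.prV π U).base default ∉ _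
    rw [Scheme.Hom.comp_apply, ha]; exact hn)
  rw [h0]
  exact toPullStalk_zero π F ξ _ rfl

variable {X Y : Scheme.{u}} (f : X ⟶ Y) [LocallyOfFiniteType f]

theorem evalAt_eq_pushStalkAt {Ω : Type u} [Field Ω] [IsSepClosed Ω] (η : Spec (CommRingCat.of Ω) ⟶ Y)
    (F : EtCoh.Ab X) (z : PtsOver f η) (d : (EtCoh.stalk η).obj ((shriek f).obj F)) :
    evalAt f η F z d = (pushStalkAt f z.2).app F ((EtCoh.stalk η).map ((shriekToPush f).app F) d) := by
  obtain ⟨V, v, t, rfl⟩ := (Scheme.pointSmallEtale η).toPresheafFiber_jointly_surjective d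
  refine (evalAt_germ f η F z V v t).trans ?_
  have e : (EtCoh.stalk η).map ((shriekToPush f).app F)
      ((Scheme.pointSmallEtale η).toPresheafFiber V v ((shriek f).obj F).obj t) = _ :=
    (Scheme.pointSmallEtale η).toPresheafFiber_naturality_apply ((shriekToPush f).app F).hom _ _ _
  exact ((congrArg _ e).trans (pushStalkAt_germ_apply f z.2 F v _)).symm

variable {X' Y' : Scheme.{u}} {g : Y' ⟶ Y} {f' : X' ⟶ Y'} {g' : X' ⟶ X} (h : IsPullback g' f' f g)

/-- the projection of a base change to the original one -/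
abbrev bcProjMap (V : Y.Etale) : ((EtCoh.bc f').obj ((EtCoh.bc g).obj V)).left ⟶ ((EtCoh.bc f).obj V).left :=
  (bcSquare h.w V).left ≫ pullback.fst (pullback.snd V.hom f) g'

omit [LocallyOfFiniteType f] in
theorem isPullback_bcProjMap (V : Y.Etale) :
    IsPullback (bcProjMap f h V) (EtShriek.prV f' ((EtCoh.bc g).obj V)) (EtShriek.prV f V) (EtShriek.prV g V) := by
  refine IsPullback.of_right ?_ ((Category.assoc _ _ _).trans (bcSquare_fst h.w V))
    (IsPullback.of_hasPullback V.hom f).flip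
  have e : bcProjMap f h V ≫ pullback.snd V.hom f = pullback.snd ((EtCoh.bc g).obj V).hom f' ≫ g' := by
    refine (Category.assoc _ _ _).trans ((congrArg (_ ≫ ·) pullback.condition).trans ?_)
    refine (Category.assoc _ _ _).symm.trans (congrArg (· ≫ g') ?_)
    exact MorphismProperty.Over.w (bcSquare h.w V)
  rw [e, show EtShriek.prV g V ≫ V.hom = pullback.snd V.hom g ≫ g from pullback.condition]
  exact (IsPullback.of_hasPullback (pullback.snd V.hom g) f').flip.paste_horiz h

omit [LocallyOfFiniteType f] in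
theorem bcSquare_natural {V V' : Y.Etale} (k : V' ⟶ V) :
    (EtCoh.bc f').map ((EtCoh.bc g).map k) ≫ bcSquare h.w V =
      bcSquare h.w V' ≫ (EtCoh.bc g').map ((EtCoh.bc f).map k) :=
  ((MorphismProperty.Over.pullbackComp (P := EtCoh.etaleMP) (Q := ⊤) f' g).inv ≫
    (MorphismProperty.Over.pullbackCongr (P := EtCoh.etaleMP) (Q := ⊤) h.w).inv ≫
      (MorphismProperty.Over.pullbackComp (P := EtCoh.etaleMP) (Q := ⊤) g' f).hom).naturality k

variable [LocallyOfFiniteType f'] (F : EtCoh.Ab X)

theorem PS_pullSect {V : Y.Etale} (t : EtCoh.sect ((shriek f).obj F) V) :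
    PS ((EtCoh.pull g').obj F) f' ((EtCoh.bc g).obj V)
      (((EtCoh.pull g').obj F).obj.map (bcSquare h.w V).op (pullSect g' F t.1)) := by
  refine QCoh.IsProperOver.subset (QCoh.IsProperOver.baseChange (isPullback_bcProjMap f h V) (PS_of_section f t))
    (isClosed_sectSupp _ _) ?_
  rw [sectSupp_map_eq]
  intro q hq
  show (bcProjMap f h V).base q ∈ EtShriek.sectSupp F ((EtCoh.bc f).obj V) t.1
  rw [Scheme.Hom.comp_apply]
  exact sectSupp_pullSect g' F t.1 hq

/-- the base change map, before adjunction -/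
def bcAdjMap : (shriek f).obj F ⟶ (EtCoh.push g).obj ((shriek f').obj ((EtCoh.pull g').obj F)) :=
  ⟨{ app := fun V => AddCommGrpCat.ofHom (AddMonoidHom.mk'
      (fun t => mkSect f' (((EtCoh.pull g').obj F).obj.map (bcSquare h.w V.unop).op (pullSect g' F t.1))
        (PS_pullSect f h F t))
      fun a b => Subtype.ext (by
        show ((EtCoh.pull g').obj F).obj.map (bcSquare h.w V.unop).op (pullSect g' F (a + b).1) = _
        rw [show pullSect g' F (a + b).1 = pullSect g' F a.1 + pullSect g' F b.1 from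
          map_add ((((EtCoh.bc g').sheafAdjunctionContinuous AddCommGrpCat.{u + 1}
            X.smallEtaleTopology X'.smallEtaleTopology).unit.app F).hom.app (op ((EtCoh.bc f).obj V.unop))).hom a.1 b.1,
          map_add]
        rfl))
     naturality := fun V V' k => AddCommGrpCat.ext fun t => Subtype.ext (by
      show ((EtCoh.pull g').obj F).obj.map (bcSquare h.w V'.unop).op
          (pullSect g' F (F.obj.map ((EtCoh.bc f).map k.unop).op t.1)) =
        ((EtCoh.pull g').obj F).obj.map ((EtCoh.bc f').map ((EtCoh.bc g).map k.unop)).op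
          (((EtCoh.pull g').obj F).obj.map (bcSquare h.w V.unop).op (pullSect g' F t.1))
      rw [pullSect_res, ← ConcreteCategory.comp_apply, ← ConcreteCategory.comp_apply, ← Functor.map_comp,
        ← Functor.map_comp, ← op_comp, ← op_comp, bcSquare_natural f h k.unop]) }⟩

variable [EtCoh.BCCont g]

/-- the base change map -/
def bcShriek : (EtCoh.pull g).obj ((shriek f).obj F) ⟶ (shriek f').obj ((EtCoh.pull g').obj F) :=
  ((EtCoh.pullPushAdj g).homEquiv _ _).symm (bcAdjMap f h F)

theorem bcShriek_pullSect {V : Y.Etale} (t : EtCoh.sect ((shriek f).obj F) V) :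
    (bcShriek f h F).hom.app (op ((EtCoh.bc g).obj V)) (pullSect g ((shriek f).obj F) t) =
      mkSect f' (((EtCoh.pull g').obj F).obj.map (bcSquare h.w V).op (pullSect g' F t.1))
        (PS_pullSect f h F t) := by
  have e : (EtCoh.pullPushAdj g).unit.app ((shriek f).obj F) ≫ (EtCoh.push g).map (bcShriek f h F) =
      bcAdjMap f h F :=
    ((EtCoh.pullPushAdj g).homEquiv_unit _ _ (bcShriek f h F)).symm.trans
      (((EtCoh.pullPushAdj g).homEquiv _ _).apply_symm_apply (bcAdjMap f h F))
  exact congr(($e).hom.app (op V) t)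

omit [LocallyOfFiniteType f] [LocallyOfFiniteType f'] [EtCoh.BCCont g] in
theorem pointsEquiv_val {S : Scheme.{u}} (η' : S ⟶ Y') (ξ' : {ξ : S ⟶ X' // ξ ≫ f' = η'}) :
    ξ'.1 ≫ g' = (pointsEquiv h η' ξ').1 := rfl

theorem evalAt_bcShriek {Ω : Type u} [Field Ω] [IsAlgClosed Ω] (η' : Spec (CommRingCat.of Ω) ⟶ Y')
    (ξ' : PtsOver f' η') (d : (EtCoh.stalk (η' ≫ g)).obj ((shriek f).obj F)) :
    evalAt f' η' ((EtCoh.pull g').obj F) ξ'
        ((EtCoh.stalk η').map (bcShriek f h F) (toPullStalk g ((shriek f).obj F) η' (η' ≫ g) rfl d)) =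
      toPullStalk g' F ξ'.1 (pointsEquiv h η' ξ').1 (pointsEquiv_val f h η' ξ') (evalAt f (η' ≫ g) F (pointsEquiv h η' ξ') d) := by
  obtain ⟨V, v, t, rfl⟩ := (Scheme.pointSmallEtale (η' ≫ g)).toPresheafFiber_jointly_surjective d
  let c := (bcFiberEquiv g η' V).symm v
  let vl : Spec (CommRingCat.of Ω) ⟶ V.left := v.left
  have hc : toPullStalk g ((shriek f).obj F) η' (η' ≫ g) rfl
      ((Scheme.pointSmallEtale (η' ≫ g)).toPresheafFiber V v ((shriek f).obj F).obj t) =
      germ ((EtCoh.pull g).obj ((shriek f).obj F)) (pullSect g ((shriek f).obj F) t) η' c.left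
        (CategoryTheory.Over.w c) :=
    (germ_pullSect g ((shriek f).obj F) η' (η' ≫ g) rfl t c.left (CategoryTheory.Over.w c) vl
      (CategoryTheory.Over.w v) (pullback.lift_fst _ _ _)).symm
  refine (congrArg (fun x => evalAt f' η' ((EtCoh.pull g').obj F) ξ' ((EtCoh.stalk η').map (bcShriek f h F) x)) hc).trans ?_
  have hn : (EtCoh.stalk η').map (bcShriek f h F)
      (germ ((EtCoh.pull g).obj ((shriek f).obj F)) (pullSect g ((shriek f).obj F) t) η' c.left (CategoryTheory.Over.w c)) =
      germ ((shriek f').obj ((EtCoh.pull g').obj F))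
        ((bcShriek f h F).hom.app (op ((EtCoh.bc g).obj V)) (pullSect g ((shriek f).obj F) t)) η' c.left
        (CategoryTheory.Over.w c) :=
    (Scheme.pointSmallEtale η').toPresheafFiber_naturality_apply (bcShriek f h F).hom _ _ _
  rw [hn, bcShriek_pullSect]
  refine (evalAt_germ' f' η' _ ξ' ((EtCoh.bc g).obj V) c _).trans ?_
  refine ((germ_map ((EtCoh.pull g').obj F) (bcSquare h.w V) (pullSect g' F t.1) ξ'.1 _ _
    ((bcFiberEquiv g' ξ'.1 _).symm (bcPt f (η' ≫ g) (pointsEquiv h η' ξ') V v)).left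
    (CategoryTheory.Over.w ((bcFiberEquiv g' ξ'.1 _).symm (bcPt f (η' ≫ g) (pointsEquiv h η' ξ') V v)))
    (congrArg CommaMorphism.left (bcSquare_fiber h.w ξ'.2 (pointsEquiv h η' ξ').2 v))).trans ?_)
  refine Eq.trans ?_ (congrArg (toPullStalk g' F ξ'.1 (pointsEquiv h η' ξ').1 (pointsEquiv_val f h η' ξ'))
    (evalAt_germ' f (η' ≫ g) F (pointsEquiv h η' ξ') V v t)).symm
  exact germ_pullSect g' F ξ'.1 (pointsEquiv h η' ξ').1 (pointsEquiv_val f h η' ξ') t.1 _ _ _ _ (pullback.lift_fst _ _ _)

variable [IsSeparated f]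

theorem bijective_stalk_bcShriek {Ω : Type u} [Field Ω] [IsAlgClosed Ω] (η' : Spec (CommRingCat.of Ω) ⟶ Y') :
    Function.Bijective ((EtCoh.stalk η').map (bcShriek f h F)) := by
  classical
  let E := pointsEquiv h η'
  let G' := (EtCoh.pull g').obj F
  refine ⟨(injective_iff_map_eq_zero ((EtCoh.stalk η').map (bcShriek f h F)).hom).2 fun x hx => ?_, fun d' => ?_⟩
  · obtain ⟨d, rfl⟩ := toPullStalk_surjective g ((shriek f).obj F) η' (η' ≫ g) rfl x
    suffices d = 0 by subst this; exact toPullStalk_zero g ((shriek f).obj F) η' (η' ≫ g) rfl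
    refine eq_zero_of_evalAt_lft f (η' ≫ g) F d fun z => ?_
    obtain ⟨ξ', rfl⟩ := E.surjective z
    refine toPullStalk_injective g' F ξ'.1 (pointsEquiv h η' ξ').1 (pointsEquiv_val f h η' ξ') ((evalAt_bcShriek f h F η' ξ' d).symm.trans ?_)
    refine (congrArg _ hx).trans ((map_zero _).trans ?_)
    exact (toPullStalk_zero g' F ξ'.1 (pointsEquiv h η' ξ').1 (pointsEquiv_val f h η' ξ')).symm
  · have hE : ∀ z, (E.symm z).1 ≫ g' = z.1 := fun z => congrArg Subtype.val (E.apply_symm_apply z)
    have hex : ∀ z : PtsOver f (η' ≫ g), ∃ p : (EtCoh.stalk z.1).obj F,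
        toPullStalk g' F (E.symm z).1 z.1 (hE z) p = evalAt f' η' G' (E.symm z) d' := fun z =>
      toPullStalk_surjective g' F (E.symm z).1 z.1 (hE z) (evalAt f' η' G' (E.symm z) d')
    choose c hc using hex
    have hc' : ∀ ξ', toPullStalk g' F ξ'.1 (pointsEquiv h η' ξ').1 (pointsEquiv_val f h η' ξ') (c (pointsEquiv h η' ξ')) = evalAt f' η' G' ξ' d' := by
      intro ξ'
      have key : ∀ z (ζ : PtsOver f' η') (hz : ζ.1 ≫ g' = z.1), ζ = E.symm z →
          toPullStalk g' F ζ.1 z.1 hz (c z) = evalAt f' η' G' ζ d' := by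
        rintro z _ hz rfl
        exact hc z
      exact key (E ξ') ξ' rfl (E.symm_apply_apply ξ').symm
    obtain ⟨V', v', t', rfl⟩ := (Scheme.pointSmallEtale η').toPresheafFiber_jointly_surjective d'
    have hloc : LocGiven f (η' ≫ g) F c := by
      intro z₀
      obtain ⟨ξ₀', rfl⟩ := E.surjective z₀
      obtain ⟨U, s, a₀, ha₀, Et, hmem, hEt⟩ := exists_local_germ h η' F ξ₀'
        ((EtCoh.stalk η').map ((shriekToPush f').app G')
          ((Scheme.pointSmallEtale η').toPresheafFiber V' v' ((shriek f').obj G').obj t'))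
      refine ⟨U, a₀, ha₀, s, Et, hmem, fun z a ha hm => ?_⟩
      obtain ⟨ξ', rfl⟩ := E.surjective z
      refine toPullStalk_injective g' F ξ'.1 (pointsEquiv h η' ξ').1 (pointsEquiv_val f h η' ξ') ?_
      exact (hEt ξ' a ha hm).trans ((evalAt_eq_pushStalkAt f' η' G' ξ' _).symm.trans (hc' ξ').symm)
    have hsupp : ProperlySupported f (η' ≫ g) F c := by
      let vl : Spec (CommRingCat.of Ω) ⟶ V'.left := v'.left
      have hvl : vl ≫ V'.hom = η' := CategoryTheory.Over.w v'
      let a := h.lift (pullback.fst f (η' ≫ g)) (pullback.snd f (η' ≫ g) ≫ η')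
        (pullback.condition.trans (Category.assoc _ _ _).symm)
      have sqA : IsPullback a (pullback.snd f (η' ≫ g)) f' η' := IsPullback.of_right
        (by rw [h.lift_fst]; exact IsPullback.of_hasPullback f (η' ≫ g)) (h.lift_snd _ _ _) h
      let M : pullback f (η' ≫ g) ⟶ ((EtCoh.bc f').obj V').left :=
        pullback.lift (pullback.snd f (η' ≫ g) ≫ vl) a (by rw [Category.assoc, hvl]; exact sqA.w.symm)
      have sqM : IsPullback M (pullback.snd f (η' ≫ g)) (EtShriek.prV f' V') vl := by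
        refine IsPullback.of_right ?_ (pullback.lift_fst _ _ _) (IsPullback.of_hasPullback V'.hom f').flip
        rw [pullback.lift_snd, hvl]
        exact sqA
      refine ⟨_, QCoh.IsProperOver.baseChange sqM (PS_of_section f' t'), fun z hz => ?_⟩
      obtain ⟨ξ', rfl⟩ := E.surjective z
      have hne : evalAt f' η' G' ξ' ((Scheme.pointSmallEtale η').toPresheafFiber V' v' ((shriek f').obj G').obj t') ≠ 0 :=
        fun e => hz (toPullStalk_injective g' F ξ'.1 (pointsEquiv h η' ξ').1 (pointsEquiv_val f h η' ξ')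
          ((hc' ξ').trans (e.trans (toPullStalk_zero g' F ξ'.1 (pointsEquiv h η' ξ').1 (pointsEquiv_val f h η' ξ')).symm)))
      rw [evalAt_germ'] at hne
      have hm := not_not.1 (mt (germ_eq_zero_iff' G' t'.1 ξ'.1 _ _).2 hne)
      show M.base (fibrePt f (pointsEquiv h η' ξ').2) ∈ EtShriek.sectSupp G' ((EtCoh.bc f').obj V') t'.1
      refine Set.mem_of_eq_of_mem ?_ hm
      refine (Scheme.Hom.comp_apply _ _ _).symm.trans (congrArg pt₀ (pullback.hom_ext ?_ ?_))
      · rw [Category.assoc, pullback.lift_fst, pullback.lift_snd_assoc, Category.id_comp]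
        exact (pullback.lift_fst _ _ _).symm
      · rw [Category.assoc, pullback.lift_snd]
        refine Eq.trans ?_ (pullback.lift_snd _ _ _).symm
        refine h.hom_ext ?_ ?_
        · rw [Category.assoc, h.lift_fst, pullback.lift_fst]
          rfl
        · rw [Category.assoc, h.lift_snd, pullback.lift_snd_assoc, Category.id_comp]
          exact ξ'.2.symm
    obtain ⟨d, hd⟩ := exists_evalAt_of_locGiven f (η' ≫ g) F c hloc hsupp
    refine ⟨toPullStalk g ((shriek f).obj F) η' (η' ≫ g) rfl d, sub_eq_zero.1 (eq_zero_of_evalAt_lft f' η' G' _ fun ξ' => ?_)⟩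
    rw [map_sub, sub_eq_zero, evalAt_bcShriek, hd]
    exact hc' ξ'

theorem isIso_bcShriek : IsIso (bcShriek f h F) :=
  (isIso_iff_stalks _).2 fun Ω _ _ ξ =>
    (ConcreteCategory.isIso_iff_bijective _).2 (bijective_stalk_of_alg ξ _ (bijective_stalk_bcShriek f h F (algPt ξ)))

include h in
omit [LocallyOfFiniteType f'] in
theorem lowerShriek_baseChange :
    Nonempty ((EtShriek.lowerShriek f').obj ((EtCoh.pull g').obj F) ≅
      (EtCoh.pull g).obj ((EtShriek.lowerShriek f).obj F)) := by
  haveI : LocallyOfFiniteType f' := MorphismProperty.of_isPullback h ‹LocallyOfFiniteType f›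
  haveI := isIso_bcShriek f h F
  exact ⟨(shriekIso f').app _ ≪≫ (asIso (bcShriek f h F)).symm ≪≫ (EtCoh.pull g).mapIso ((shriekIso f).app F).symm⟩

theorem stalk_lowerShriek_H0c {X Y : Scheme.{u}} (f : X ⟶ Y) [IsSeparated f] [LocallyOfFiniteType f] (F : EtCoh.Ab X)
    {Ω : Type u} [Field Ω] [IsAlgClosed Ω] (η : Spec (CommRingCat.of Ω) ⟶ Y) :
    Nonempty ((EtCoh.stalk η).obj ((EtShriek.lowerShriek f).obj F) ≅
      AddCommGrpCat.of (EtShriek.H0c (pullback.snd f η) ((EtCoh.pull (pullback.fst f η)).obj F))) := by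
  haveI := isIso_bcShriek f (IsPullback.of_hasPullback f η) F
  exact ⟨(EtCoh.stalk η).mapIso ((shriekIso f).app F) ≪≫
    (eqToIso (by rw [Category.id_comp])).app ((shriek f).obj F) ≪≫
    ((stalkPullIso η (𝟙 (Spec (CommRingCat.of Ω)))).app ((shriek f).obj F)).symm ≪≫
    (EtCoh.stalk (𝟙 (Spec (CommRingCat.of Ω)))).mapIso (asIso (bcShriek f (IsPullback.of_hasPullback f η) F)) ≪≫
    ((sectTopIso Ω AddCommGrpCat.{u + 1}).app _).symm ≪≫
    (H0cEquiv (pullback.snd f η) ((EtCoh.pull (pullback.fst f η)).obj F)).symm.toAddCommGrpIso⟩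

end Groth.Agent.Shriek
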