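import Groth.Agent.Shriek.FibreInj
import Groth.Agent.Shriek.LqfExact
import Groth.Agent.H0PBC.Lifts
import Mathlib

/-! direct images with proper support commute with direct sums -/

set_option autoImplicit false

universe u

open CategoryTheory CategoryTheory.Limits AlgebraicGeometry Opposite

noncomputable section

set_option backward.isDefEq.respectTransparency false
set_option backward.isDefEq.respectTransparency.types false

namespace Groth.Agent.Shriek

open Groth.Agent.EtFound Groth.Agent.H0PBC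

theorem sum_surjective' {J : Type u} {A : J → AddCommGrpCat.{u + 1}} [DecidableEq J] {c : Cofan A}
    (hc : IsColimit c) : Function.Surjective (DFinsupp.sumAddHom fun i => (c.inj i).hom) := by
  let Φ : (Π₀ i, A i) →+ c.pt := DFinsupp.sumAddHom fun i => (c.inj i).hom
  show Function.Surjective Φ
  rw [← AddMonoidHom.range_eq_top, AddSubgroup.eq_top_iff']
  intro x
  let q := AddCommGrpCat.ofHom (QuotientAddGroup.mk' Φ.range)
  have hq : q = 0 := hc.hom_ext fun i => AddCommGrpCat.ext fun y =>
    ((QuotientAddGroup.eq_zero_iff _).2 ⟨DFinsupp.single i.as y, DFinsupp.sumAddHom_single _ _ _⟩)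
  exact (QuotientAddGroup.eq_zero_iff x).1 (ConcreteCategory.congr_hom hq x)

theorem sum_hom_apply {ι : Type*} (s : Finset ι) {A B : AddCommGrpCat.{u + 1}} (g : ι → (A ⟶ B)) (x : A) :
    (∑ i ∈ s, g i) x = ∑ i ∈ s, g i x := by
  classical
  induction s using Finset.induction with
  | empty => simp
  | insert a t ha ih =>
    rw [Finset.sum_insert ha, Finset.sum_insert ha, ← ih]
    rfl

variable {S : Scheme.{u}} {J : Type u} (G : J → EtCoh.Ab S)

/-- projection of a direct sum -/
def sumProj (i : J) : ∐ G ⟶ G i :=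
  haveI := Classical.decEq J
  Sigma.desc fun b => if h : b = i then eqToHom (by rw [h]) else 0

theorem ι_sumProj_self (i : J) : Sigma.ι G i ≫ sumProj G i = 𝟙 _ := by
  classical
  simp [sumProj]

theorem ι_sumProj_ne {b i : J} (h : b ≠ i) : Sigma.ι G b ≫ sumProj G i = 0 := by
  classical
  simp [sumProj, h]

/-- truncation of a direct sum to finitely many summands -/
def trunc (T : Finset J) : ∐ G ⟶ ∐ G := ∑ i ∈ T, sumProj G i ≫ Sigma.ι G i

theorem ι_trunc_mem {T : Finset J} {b : J} (h : b ∈ T) : Sigma.ι G b ≫ trunc G T = Sigma.ι G b := by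
  rw [trunc, Preadditive.comp_sum, Finset.sum_eq_single b
    (fun i _ hi => by rw [← Category.assoc, ι_sumProj_ne G (Ne.symm hi), zero_comp]) (fun hb => absurd h hb),
    ← Category.assoc, ι_sumProj_self, Category.id_comp]

theorem ι_trunc_notMem {T : Finset J} {b : J} (h : b ∉ T) : Sigma.ι G b ≫ trunc G T = 0 := by
  rw [trunc, Preadditive.comp_sum]
  refine Finset.sum_eq_zero fun i hi => ?_
  rw [← Category.assoc, ι_sumProj_ne G (fun e => h (by rw [e]; exact hi)), zero_comp]

theorem trunc_trunc {T T' : Finset J} (h : T ⊆ T') : trunc G T ≫ trunc G T' = trunc G T := by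
  refine Sigma.hom_ext _ _ fun b => ?_
  rw [← Category.assoc]
  by_cases hb : b ∈ T
  · rw [ι_trunc_mem G hb, ι_trunc_mem G (h hb)]
  · rw [ι_trunc_notMem G hb, zero_comp]

theorem exists_trunc_eq {Ω : Type u} [Field Ω] [IsSepClosed Ω] (ζ : Spec (CommRingCat.of Ω) ⟶ S)
    (a : (EtCoh.stalk ζ).obj (∐ G)) : ∃ T : Finset J, (EtCoh.stalk ζ).map (trunc G T) a = a := by
  classical
  haveI : (EtCoh.stalk ζ).IsLeftAdjoint := (Scheme.pointSmallEtale ζ).skyscraperSheafAdjunction.isLeftAdjoint
  obtain ⟨b, rfl⟩ := sum_surjective' (isColimitCofanMkObjOfIsColimit (EtCoh.stalk ζ) _ _ (coproductIsCoproduct G)) a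
  refine ⟨b.support, ?_⟩
  rw [DFinsupp.sumAddHom_apply, DFinsupp.sum, map_sum]
  refine Finset.sum_congr rfl fun i hi => ?_
  show (EtCoh.stalk ζ).map (trunc G b.support) ((EtCoh.stalk ζ).map (Sigma.ι G i) (b i)) =
    (EtCoh.stalk ζ).map (Sigma.ι G i) (b i)
  rw [← ConcreteCategory.comp_apply, ← Functor.map_comp, ι_trunc_mem G hi]

variable {X Y : Scheme.{u}} (f : X ⟶ Y) [LocallyOfFiniteType f]

theorem exists_trunc_stalk (F : J → EtCoh.Ab X) {Ω : Type u} [Field Ω] [IsAlgClosed Ω]
    (η : Spec (CommRingCat.of Ω) ⟶ Y) (d : (EtCoh.stalk η).obj ((shriek f).obj (∐ F))) :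
    ∃ T : Finset J, (EtCoh.stalk η).map ((shriek f).map (trunc F T)) d = d := by
  classical
  obtain ⟨V, v, t, rfl⟩ := (Scheme.pointSmallEtale η).toPresheafFiber_jointly_surjective d
  obtain ⟨hcl, hp⟩ := PS_of_section f t
  let W := (EtCoh.bc f).obj V
  let vl : Spec (CommRingCat.of Ω) ⟶ V.left := v.left
  let pr := EtShriek.prV f V
  let k := (Scheme.IdealSheafData.vanishingIdeal ⟨_, hcl⟩).subschemeι
  haveI : IsProper (k ≫ pr) := hp
  have hK : IsCompact (k.base '' ((k ≫ pr).base ⁻¹' {pt₀ vl})) :=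
    ((k ≫ pr).isProperMap.isCompact_preimage isCompact_singleton).image k.continuous
  let O : Finset J → W.left.Opens := fun T => eqLocus (∐ F) (W := W) ((trunc F T).hom.app (op W) t.1) t.1
  have hcov : ∀ q : W.left, ∃ T, q ∈ O T := by
    intro q
    obtain ⟨Ω', _, _, a, ha⟩ := exists_geom_point (X := W.left) q
    let ζ : Spec (CommRingCat.of Ω') ⟶ X := a ≫ W.hom
    obtain ⟨T, hT⟩ := exists_trunc_eq F ζ (germ (∐ F) t.1 ζ a rfl)
    refine ⟨T, ?_⟩
    rw [← ha]
    refine (mem_eqLocus_iff (∐ F) _ _ ζ a rfl).2 (Eq.trans ?_ hT)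
    exact ((Scheme.pointSmallEtale ζ).toPresheafFiber_naturality_apply (trunc F T).hom _ _ _).symm
  obtain ⟨s, hs⟩ := hK.elim_finite_subcover (fun T : Finset J => (O T : Set W.left)) (fun T => (O T).2)
    (fun q _ => Set.mem_iUnion.2 (hcov q))
  let U := s.biUnion id
  refine ⟨U, sub_eq_zero.1 (eq_zero_of_evalAt_lft f η (∐ F) _ fun z => ?_)⟩
  rw [map_sub, sub_eq_zero, evalAt_natural]
  show (EtCoh.stalk z.1).map (trunc F U)
      (evalAt f η (∐ F) z ((Scheme.pointSmallEtale η).toPresheafFiber V v ((shriek f).obj (∐ F)).obj t)) =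
    evalAt f η (∐ F) z ((Scheme.pointSmallEtale η).toPresheafFiber V v ((shriek f).obj (∐ F)).obj t)
  rw [evalAt_germ']
  let b := (bcPt f η z V v).left
  by_cases hb : pt₀ b ∈ EtShriek.sectSupp (∐ F) W t.1
  · have hbK : pt₀ b ∈ k.base '' ((k ≫ pr).base ⁻¹' {pt₀ vl}) := by
      obtain ⟨y, hy⟩ := (QCoh.range_vanishing hcl).ge hb
      refine ⟨y, ?_, hy⟩
      show (k ≫ pr).base y = pt₀ vl
      rw [Scheme.Hom.comp_apply]
      exact (congrArg pr.base hy).trans (prV_bcPt f η z V v)
    obtain ⟨T, hT, hbT⟩ := Set.mem_iUnion₂.1 (hs hbK)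
    let g := germ (∐ F) t.1 z.1 b (CategoryTheory.Over.w (bcPt f η z V v))
    have e : (EtCoh.stalk z.1).map (trunc F T) g = g :=
      ((Scheme.pointSmallEtale z.1).toPresheafFiber_naturality_apply (trunc F T).hom _ _ _).trans
        ((mem_eqLocus_iff (∐ F) _ _ z.1 b (CategoryTheory.Over.w (bcPt f η z V v))).1 hbT)
    show (EtCoh.stalk z.1).map (trunc F U) g = g
    conv_lhs => rw [← e]
    rw [← ConcreteCategory.comp_apply, ← Functor.map_comp,
      trunc_trunc F (show T ⊆ U from Finset.subset_biUnion_of_mem id hT), e]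
  · rw [(germ_eq_zero_iff' (∐ F) t.1 z.1 b (CategoryTheory.Over.w (bcPt f η z V v))).2 hb, map_zero]

theorem shriek_preservesCoproducts' (J : Type u) : PreservesColimitsOfShape (Discrete J) (shriek f) := by
  classical
  haveI := shriek_additive f
  haveI : HasColimitsOfSize.{u + 1, u + 1} (EtCoh.Ab X) := inferInstance
  haveI : HasColimitsOfSize.{u + 1, u + 1} (EtCoh.Ab Y) := inferInstance
  suffices ∀ G : J → EtCoh.Ab X, IsIso (sigmaComparison (shriek f) G) by
    haveI : ∀ G : J → EtCoh.Ab X, PreservesColimit (Discrete.functor G) (shriek f) := fun G => by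
      haveI := this G
      exact PreservesCoproduct.of_iso_comparison (shriek f) G
    exact preservesColimitsOfShape_of_discrete _
  intro G
  refine (isIso_iff_stalks _).2 fun Ω _ _ ξ => ?_
  refine (ConcreteCategory.isIso_iff_bijective _).2 (bijective_stalk_of_alg ξ _ ?_)
  let η := algPt ξ
  let H := fun b => (shriek f).obj (G b)
  let φ := (EtCoh.stalk η).map (sigmaComparison (shriek f) G)
  have hφ : ∀ i (y : (EtCoh.stalk η).obj (H i)),
      φ ((EtCoh.stalk η).map (Sigma.ι H i) y) = (EtCoh.stalk η).map ((shriek f).map (Sigma.ι G i)) y := fun i y => by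
    rw [← ConcreteCategory.comp_apply, ← Functor.map_comp, ι_comp_sigmaComparison]
  have hproj : ∀ i (x : (EtCoh.stalk η).obj (∐ H)),
      (EtCoh.stalk η).map ((shriek f).map (sumProj G i)) (φ x) = (EtCoh.stalk η).map (sumProj H i) x := by
    intro i x
    rw [← ConcreteCategory.comp_apply, ← Functor.map_comp]
    congr 3
    refine Sigma.hom_ext _ _ fun b => ?_
    rw [ι_comp_sigmaComparison_assoc, ← Functor.map_comp]
    by_cases h : b = i
    · subst h
      rw [ι_sumProj_self, ι_sumProj_self, CategoryTheory.Functor.map_id]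
    · rw [ι_sumProj_ne G h, ι_sumProj_ne H h, Functor.map_zero]
  haveI : (EtCoh.stalk η).IsLeftAdjoint := (Scheme.pointSmallEtale η).skyscraperSheafAdjunction.isLeftAdjoint
  haveI : PreservesBinaryBiproducts (EtCoh.stalk η) := preservesBinaryBiproducts_of_preservesBinaryCoproducts _
  haveI : (EtCoh.stalk η).Additive := Functor.additive_of_preservesBinaryBiproducts _
  refine ⟨(injective_iff_map_eq_zero φ.hom).2 fun x hx => ?_, fun y => ?_⟩
  · obtain ⟨T, hT⟩ := exists_trunc_eq H η x
    rw [← hT, trunc, Functor.map_sum]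
    rw [sum_hom_apply]
    refine Finset.sum_eq_zero fun i _ => ?_
    rw [Functor.map_comp]
    show (EtCoh.stalk η).map (Sigma.ι H i) ((EtCoh.stalk η).map (sumProj H i) x) = 0
    rw [← hproj i x, show φ x = 0 from hx, map_zero, map_zero]
  · obtain ⟨T, hT⟩ := exists_trunc_stalk f G η y
    rw [← hT, trunc, Functor.map_sum, Functor.map_sum]
    rw [sum_hom_apply]
    refine ⟨∑ i ∈ T, (EtCoh.stalk η).map (Sigma.ι H i) ((EtCoh.stalk η).map ((shriek f).map (sumProj G i)) y), ?_⟩
    show φ _ = _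
    rw [map_sum]
    refine Finset.sum_congr rfl fun i _ => ?_
    rw [hφ, ← ConcreteCategory.comp_apply, ← Functor.map_comp, ← Functor.map_comp]

theorem lowerShriek_preservesCoproducts (ι : Type u) :
    PreservesColimitsOfShape (Discrete ι) (EtShriek.lowerShriek f) := by
  haveI := shriek_preservesCoproducts' f ι
  exact preservesColimitsOfShape_of_natIso (shriekIso f).symm

end Groth.Agent.Shriek
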