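import Groth.Agent.Shriek.Sheaf
import Mathlib

/-! direct images with proper support compose -/

set_option autoImplicit false

universe u

open CategoryTheory CategoryTheory.Limits AlgebraicGeometry Opposite

noncomputable section

set_option backward.isDefEq.respectTransparency false
set_option backward.isDefEq.respectTransparency.types false

namespace Groth.Agent.Shriek

section Scheme

variable {P V W : Scheme.{u}} (p : P ⟶ V) (q : V ⟶ W) [LocallyOfFiniteType p] [LocallyOfFiniteType q]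

theorem isProperOver_comp {Z : Set P} (h₁ : ClSub.IsProperOver p Z) (h₂ : ClSub.IsProperOver q (p.base '' Z)) :
    ClSub.IsProperOver (p ≫ q) Z := by
  obtain ⟨hc₁, hp₁⟩ := h₁
  obtain ⟨hc₂, hp₂⟩ := h₂
  let k := (Scheme.IdealSheafData.vanishingIdeal ⟨Z, hc₁⟩).subschemeι
  let l := (Scheme.IdealSheafData.vanishingIdeal ⟨_, hc₂⟩).subschemeι
  haveI : IsProper (k ≫ p) := hp₁
  haveI : IsProper (l ≫ q) := hp₂
  let j := pullback.fst (k ≫ p) l
  haveI : Surjective j := ⟨fun z => by
    have : (k ≫ p).base z ∈ Set.range l.base := by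
      rw [QCoh.range_vanishing, Scheme.Hom.comp_apply]
      exact ⟨_, (QCoh.range_vanishing hc₁).le ⟨z, rfl⟩, rfl⟩
    obtain ⟨y, hy⟩ := this
    obtain ⟨t, ht, -⟩ := Scheme.Pullback.exists_preimage_pullback (f := k ≫ p) (g := l) z y hy.symm
    exact ⟨t, ht⟩⟩
  haveI : IsProper (j ≫ k ≫ p ≫ q) := by
    rw [show j ≫ k ≫ p ≫ q = pullback.snd (k ≫ p) l ≫ l ≫ q by
      simp only [j]; rw [← Category.assoc k p q, pullback.condition_assoc]]
    infer_instance
  exact ⟨hc₁, QCoh.isProper_of_comp_surjective j (k ≫ p ≫ q)⟩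

theorem isProperOver_of_comp [IsSeparated q] {Z : Set P} (h : ClSub.IsProperOver (p ≫ q) Z) :
    ClSub.IsProperOver p Z ∧ ClSub.IsProperOver q (p.base '' Z) := by
  refine ⟨?_, QCoh.IsProperOver.image rfl h fun i _ hi => ?_⟩
  · obtain ⟨hc, hp⟩ := h
    refine ⟨hc, ?_⟩
    haveI : IsProper (((Scheme.IdealSheafData.vanishingIdeal ⟨Z, hc⟩).subschemeι ≫ p) ≫ q) := by
      rw [Category.assoc]; exact hp
    exact IsProper.of_comp _ q
  · haveI : IsProper ((i ≫ p) ≫ q) := by rw [Category.assoc]; exact hi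
    haveI := IsProper.of_comp (i ≫ p) q
    infer_instance

end Scheme

variable {X Y Z : Scheme.{u}} (f : X ⟶ Y) (g : Y ⟶ Z) [LocallyOfFiniteType f] [LocallyOfFiniteType g]

/-- iterated base change -/
abbrev bcC (W : Z.Etale) : (EtCoh.bc (f ≫ g)).obj W ≅ (EtCoh.bc f).obj ((EtCoh.bc g).obj W) :=
  (MorphismProperty.Over.pullbackComp f g).app W

omit [LocallyOfFiniteType f] [LocallyOfFiniteType g] in
theorem bcC_natural {W W' : Z.Etale} (φ : W' ⟶ W) :
    (EtCoh.bc (f ≫ g)).map φ ≫ (bcC f g W).hom = (bcC f g W').hom ≫ (EtCoh.bc f).map ((EtCoh.bc g).map φ) :=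
  (MorphismProperty.Over.pullbackComp (P := EtCoh.etaleMP) (Q := ⊤) f g).hom.naturality φ

omit [LocallyOfFiniteType f] [LocallyOfFiniteType g] in
theorem bcC_prV (W : Z.Etale) :
    (bcC f g W).hom.left ≫ EtShriek.prV f ((EtCoh.bc g).obj W) ≫ EtShriek.prV g W = EtShriek.prV (f ≫ g) W :=
  MorphismProperty.Over.pullbackComp_left_fst_fst (P := EtCoh.etaleMP) (Q := ⊤) f g W

variable (F : EtCoh.Ab X)

theorem PS_comp_iff [IsSeparated g] (W : Z.Etale) (s : EtCoh.sect F ((EtCoh.bc f).obj ((EtCoh.bc g).obj W))) :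
    PS F (f ≫ g) W (F.obj.map (bcC f g W).hom.op s) ↔
      ∃ h : PS F f ((EtCoh.bc g).obj W) s,
        ClSub.IsProperOver (EtShriek.prV g W)
          ((EtShriek.prV f ((EtCoh.bc g).obj W)).base '' EtShriek.sectSupp F _ s) := by
  let c := (bcC f g W).hom.left
  haveI : IsIso c := inferInstanceAs (IsIso ((MorphismProperty.Over.forget _ _ _ ⋙ CategoryTheory.Over.forget _).map (bcC f g W).hom))
  haveI : IsSeparated (EtShriek.prV g W) := MorphismProperty.pullback_fst _ _ ‹_›
  let p := EtShriek.prV f ((EtCoh.bc g).obj W)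
  let q := EtShriek.prV g W
  have hpq : c ≫ p ≫ q = EtShriek.prV (f ≫ g) W := bcC_prV f g W
  rw [PS, sectSupp_map_eq]
  constructor
  · intro h
    have h' : ClSub.IsProperOver (p ≫ q) (EtShriek.sectSupp F _ s) := by
      have := QCoh.IsProperOver.preimage (f := inv c) (p := p ≫ q) (q := EtShriek.prV (f ≫ g) W)
        (by rw [← hpq, IsIso.inv_hom_id_assoc]) h
      refine (congrArg (ClSub.IsProperOver (p ≫ q)) ?_).mp this
      ext x
      show c.base ((inv c).base x) ∈ EtShriek.sectSupp F _ s ↔ x ∈ EtShriek.sectSupp F _ s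
      rw [← Scheme.Hom.comp_apply, IsIso.inv_hom_id]
      rfl
    exact ⟨(isProperOver_of_comp p q h').1, (isProperOver_of_comp p q h').2⟩
  · rintro ⟨h₁, h₂⟩
    exact QCoh.IsProperOver.preimage (f := c) hpq (isProperOver_comp p q h₁ h₂)

theorem isProperOver_supp [IsSeparated g] {W : Z.Etale}
    (t : EtCoh.sect ((shriek g).obj ((shriek f).obj F)) W) :
    PS F (f ≫ g) W (F.obj.map (bcC f g W).hom.op t.1.1) := by
  refine (PS_comp_iff f g F W t.1.1).2 ⟨PS_of_section f t.1, ?_⟩
  have h := PS_of_section g t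
  rwa [PS, supp_shriek] at h

/-- sections of the composite -/
def compEquiv [IsSeparated g] (W : Z.Etale) :
    EtCoh.sect ((shriek g).obj ((shriek f).obj F)) W ≃+ EtCoh.sect ((shriek (f ≫ g)).obj F) W where
  toFun t := mkSect (f ≫ g) (F.obj.map (bcC f g W).hom.op t.1.1) (isProperOver_supp f g F t)
  invFun a :=
    have h : PS F (f ≫ g) W (F.obj.map (bcC f g W).hom.op (F.obj.map (bcC f g W).inv.op a.1)) := by
      rw [← ConcreteCategory.comp_apply, ← Functor.map_comp, ← op_comp, Iso.hom_inv_id, map_id']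
      exact PS_of_section (f ≫ g) a
    mkSect g (mkSect f (F.obj.map (bcC f g W).inv.op a.1) ((PS_comp_iff f g F W _).1 h).choose) (by
      show ClSub.IsProperOver _ _
      rw [supp_shriek]
      exact ((PS_comp_iff f g F W _).1 h).choose_spec)
  left_inv t := Subtype.ext (Subtype.ext (by
    show F.obj.map (bcC f g W).inv.op (F.obj.map (bcC f g W).hom.op t.1.1) = t.1.1
    rw [← ConcreteCategory.comp_apply, ← Functor.map_comp, ← op_comp, Iso.inv_hom_id, map_id']))
  right_inv a := Subtype.ext (by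
    show F.obj.map (bcC f g W).hom.op (F.obj.map (bcC f g W).inv.op a.1) = a.1
    rw [← ConcreteCategory.comp_apply, ← Functor.map_comp, ← op_comp, Iso.hom_inv_id, map_id'])
  map_add' s t := Subtype.ext (map_add _ _ _)

/-- direct images with proper support compose -/
def shriekComp [IsSeparated g] : shriek f ⋙ shriek g ≅ shriek (f ≫ g) :=
  NatIso.ofComponents
    (fun F => (fullyFaithfulSheafToPresheaf _ _).preimageIso
      (NatIso.ofComponents (fun W => (compEquiv f g F W.unop).toAddCommGrpIso) fun {W W'} φ => by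
        refine AddCommGrpCat.ext fun t => Subtype.ext ?_
        show F.obj.map (bcC f g W'.unop).hom.op (F.obj.map ((EtCoh.bc f).map ((EtCoh.bc g).map φ.unop)).op t.1.1) =
          F.obj.map ((EtCoh.bc (f ≫ g)).map φ.unop).op (F.obj.map (bcC f g W.unop).hom.op t.1.1)
        rw [← ConcreteCategory.comp_apply, ← ConcreteCategory.comp_apply, ← Functor.map_comp, ← Functor.map_comp,
          ← op_comp, ← op_comp, bcC_natural]))
    fun {F G} α => by
      refine ObjectProperty.hom_ext _ (NatTrans.ext (funext fun W => AddCommGrpCat.ext fun t => Subtype.ext ?_))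
      exact (NatTrans.naturality_apply α.hom (bcC f g W.unop).hom.op t.1.1).symm

theorem lowerShriek_comp [IsSeparated g] :
    Nonempty (EtShriek.lowerShriek (f ≫ g) ≅ EtShriek.lowerShriek f ⋙ EtShriek.lowerShriek g) :=
  ⟨shriekIso (f ≫ g) ≪≫ (shriekComp f g).symm ≪≫ (NatIso.hcomp (shriekIso f) (shriekIso g)).symm⟩

end Groth.Agent.Shriek
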