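import Groth.Agent.Shriek.BaseChange
import Groth.Agent.EtFound.FiniteBaseChange
import Mathlib

/-! compatibility of direct images with proper support with the inclusions into direct images -/

set_option autoImplicit false

universe u

open CategoryTheory CategoryTheory.Limits AlgebraicGeometry Opposite

noncomputable section

set_option backward.isDefEq.respectTransparency false
set_option backward.isDefEq.respectTransparency.types false

namespace Groth.Agent.Shriek

open Groth.Agent.EtFound Groth.Agent.H0PBC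

variable {X Y : Scheme.{u}} (f : X ⟶ Y) [LocallyOfFiniteType f]

theorem shriekIso_toPush (F : EtCoh.Ab X) :
    (shriekIso f).hom.app F ≫ (shriekToPush f).app F = EtShriek.lowerShriekToPush f F := by
  show _ = ((sheafificationAdjunction Y.smallEtaleTopology AddCommGrpCat.{u + 1}).homEquiv
    (EtShriek.lowerShriekPre f F) ((EtCoh.push f).obj F)).symm (EtShriek.lowerShriekPreι f F)
  rw [Adjunction.homEquiv_counit]
  refine Eq.trans ?_ ((sheafificationAdjunction Y.smallEtaleTopology AddCommGrpCat.{u + 1}).counit.naturality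
    ((shriekToPush f).app F)).symm
  exact congrArg (· ≫ (shriekToPush f).app F) (Category.comp_id _)

theorem shriekIso_inv_toPush (F : EtCoh.Ab X) :
    (shriekIso f).inv.app F ≫ EtShriek.lowerShriekToPush f F = (shriekToPush f).app F := by
  rw [← shriekIso_toPush, Iso.inv_hom_id_app_assoc]

variable [IsSeparated f] {X' Y' : Scheme.{u}} {g : Y' ⟶ Y} {f' : X' ⟶ Y'} {g' : X' ⟶ X}
  (h : IsPullback g' f' f g) [EtCoh.BCCont g] [EtCoh.BCCont g']

omit [IsSeparated f] in
theorem bcShriek_toPush [LocallyOfFiniteType f'] (F : EtCoh.Ab X) :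
    bcShriek f h F ≫ (shriekToPush f').app ((EtCoh.pull g').obj F) =
      (EtCoh.pull g).map ((shriekToPush f).app F) ≫ EtCoh.baseChange0 f g f' g' h.w F := by
  refine ((EtCoh.pullPushAdj g).homEquiv _ _).injective ?_
  rw [Adjunction.homEquiv_naturality_right, Adjunction.homEquiv_naturality_left]
  refine ObjectProperty.hom_ext _ (NatTrans.ext (funext fun V => AddCommGrpCat.ext fun t => ?_))
  have e1 : ((EtCoh.pullPushAdj g).homEquiv _ _) (bcShriek f h F) = bcAdjMap f h F :=
    ((EtCoh.pullPushAdj g).homEquiv _ _).apply_symm_apply _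
  have e2 := ConcreteCategory.congr_hom (baseChange0_unit f g f' g' h.w F V.unop)
    (((shriekToPush f).app F).hom.app V t)
  rw [e1, Adjunction.homEquiv_unit]
  exact e2.symm

include h in
theorem exists_baseChange_compat (F : EtCoh.Ab X) :
    ∃ φ : (EtCoh.pull g).obj ((EtShriek.lowerShriek f).obj F) ≅ (EtShriek.lowerShriek f').obj ((EtCoh.pull g').obj F),
      φ.hom ≫ EtShriek.lowerShriekToPush f' ((EtCoh.pull g').obj F) =
        (EtCoh.pull g).map (EtShriek.lowerShriekToPush f F) ≫ EtCoh.baseChange0 f g f' g' h.w F := by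
  haveI : LocallyOfFiniteType f' := MorphismProperty.of_isPullback h ‹LocallyOfFiniteType f›
  haveI := isIso_bcShriek f h F
  refine ⟨(EtCoh.pull g).mapIso ((shriekIso f).app F) ≪≫ asIso (bcShriek f h F) ≪≫ ((shriekIso f').app _).symm, ?_⟩
  simp only [Iso.trans_hom, Functor.mapIso_hom, asIso_hom, Iso.symm_hom, Iso.app_hom, Iso.app_inv, Category.assoc]
  rw [shriekIso_inv_toPush, bcShriek_toPush, ← Category.assoc, ← Functor.map_comp, shriekIso_toPush]

section comp

variable {Z : Scheme.{u}} (g₀ : Y ⟶ Z) [LocallyOfFiniteType g₀] [IsSeparated g₀]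

theorem mono_lowerShriekToPush (F : EtCoh.Ab X) : Mono (EtShriek.lowerShriekToPush f F) := by
  haveI := mono_shriekToPush_app f F
  rw [← shriekIso_toPush]
  infer_instance

omit [IsSeparated g₀] in
theorem inv_map_toPush {A B : EtCoh.Ab Y} (α : A ⟶ B) :
    (shriekIso g₀).inv.app A ≫ (EtShriek.lowerShriek g₀).map α ≫ EtShriek.lowerShriekToPush g₀ B =
      (shriekToPush g₀).app A ≫ (EtCoh.push g₀).map α := by
  refine (Category.assoc _ _ _).symm.trans ?_
  refine (congrArg (· ≫ EtShriek.lowerShriekToPush g₀ B) ((shriekIso g₀).inv.naturality α).symm).trans ?_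
  refine (Category.assoc _ _ _).trans ((congrArg ((shriek g₀).map α ≫ ·) (shriekIso_inv_toPush g₀ B)).trans ?_)
  exact (shriekToPush g₀).naturality α

omit [IsSeparated f] in
theorem shriekComp_toPush (F : EtCoh.Ab X) :
    (shriekComp f g₀).inv.app F ≫ (shriekToPush g₀).app ((shriek f).obj F) ≫
        (EtCoh.push g₀).map ((shriekToPush f).app F) =
      (shriekToPush (f ≫ g₀)).app F ≫ (EtCoh.pushComp g₀ f).inv.app F := by
  refine ObjectProperty.hom_ext _ (NatTrans.ext (funext fun V => AddCommGrpCat.ext fun t => ?_))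
  show F.obj.map (bcC f g₀ V.unop).inv.op t.1 = _
  simp [EtCoh.pushComp]
  rfl

theorem existsUnique_comp_compat :
    ∃! φ : EtShriek.lowerShriek (f ≫ g₀) ≅ EtShriek.lowerShriek f ⋙ EtShriek.lowerShriek g₀,
      ∀ F : EtCoh.Ab X,
        φ.hom.app F ≫ (EtShriek.lowerShriek g₀).map (EtShriek.lowerShriekToPush f F) ≫
            EtShriek.lowerShriekToPush g₀ ((EtCoh.push f).obj F) =
          EtShriek.lowerShriekToPush (f ≫ g₀) F ≫ (EtCoh.pushComp g₀ f).inv.app F := by
  refine ⟨shriekIso (f ≫ g₀) ≪≫ (shriekComp f g₀).symm ≪≫ (NatIso.hcomp (shriekIso f) (shriekIso g₀)).symm,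
    fun F => ?_, fun φ hφ => ?_⟩
  · have e : (NatIso.hcomp (shriekIso f) (shriekIso g₀)).inv.app F =
        (shriekIso g₀).inv.app ((shriek f).obj F) ≫ (EtShriek.lowerShriek g₀).map ((shriekIso f).inv.app F) := rfl
    simp only [Iso.trans_hom, Iso.symm_hom, NatTrans.comp_app, Category.assoc, e]
    rw [← (EtShriek.lowerShriek g₀).map_comp_assoc, shriekIso_inv_toPush]
    rw [inv_map_toPush, shriekComp_toPush, ← Category.assoc, shriekIso_toPush]
  · refine Iso.ext (NatTrans.ext (funext fun F => ?_))
    haveI := mono_lowerShriekToPush f F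
    haveI := mono_shriekToPush_app g₀ ((EtCoh.push f).obj F)
    haveI : Mono ((EtShriek.lowerShriek g₀).map (EtShriek.lowerShriekToPush f F) ≫
        EtShriek.lowerShriekToPush g₀ ((EtCoh.push f).obj F)) := by
      haveI : Mono ((shriek g₀).map (EtShriek.lowerShriekToPush f F)) :=
        mono_shriek_map g₀ (EtShriek.lowerShriekToPush f F)
      have hn := (shriekIso g₀).hom.naturality (EtShriek.lowerShriekToPush f F)
      rw [← shriekIso_toPush g₀, ← Category.assoc, hn]
      infer_instance
    rw [← cancel_mono ((EtShriek.lowerShriek g₀).map (EtShriek.lowerShriekToPush f F) ≫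
        EtShriek.lowerShriekToPush g₀ ((EtCoh.push f).obj F)), hφ F]
    have e : (NatIso.hcomp (shriekIso f) (shriekIso g₀)).inv.app F =
        (shriekIso g₀).inv.app ((shriek f).obj F) ≫ (EtShriek.lowerShriek g₀).map ((shriekIso f).inv.app F) := rfl
    simp only [Iso.trans_hom, Iso.symm_hom, NatTrans.comp_app, Category.assoc, e]
    rw [← (EtShriek.lowerShriek g₀).map_comp_assoc, shriekIso_inv_toPush]
    rw [inv_map_toPush, shriekComp_toPush, ← Category.assoc, shriekIso_toPush]

end comp

end Groth.Agent.Shriek
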