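import Groth.Agent.Shriek.Realise
import Groth.Agent.Shriek.LqfExact
import Groth.Agent.EtFound.PushExact
import Mathlib

/-! direct images with proper support are left exact and commute with filtered colimits -/

set_option autoImplicit false

universe u

open CategoryTheory CategoryTheory.Limits AlgebraicGeometry Opposite TopologicalSpace

noncomputable section

set_option backward.isDefEq.respectTransparency false
set_option backward.isDefEq.respectTransparency.types false

namespace Groth.Agent.Shriek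

open LocCohLib.ExciseSect Groth.Agent.EtFound Groth.Agent.H0PBC

variable {X Y : Scheme.{u}} (f : X ⟶ Y) [LocallyOfFiniteType f]

theorem shriek_preservesFiniteLimits : PreservesFiniteLimits (shriek f) := by
  haveI := shriek_additive f
  rw [Functor.preservesFiniteLimits_iff_forall_exact_map_and_mono]
  intro S hS
  haveI := hS.mono_f
  refine ⟨(exact_iff_stalks _).2 fun Ω _ _ ξ => ?_, mono_shriek_map f S.f⟩
  refine (ShortComplex.ab_exact_iff _).2 fun d hd => ?_
  obtain ⟨V, v, t, rfl⟩ := (Scheme.pointSmallEtale ξ).toPresheafFiber_jointly_surjective d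
  have hd' : (Scheme.pointSmallEtale ξ).toPresheafFiber V v ((shriek f).obj S.X₃).obj
      (((shriek f).map S.g).hom.app (op V) t) = 0 :=
    ((Scheme.pointSmallEtale ξ).toPresheafFiber_naturality_apply ((shriek f).map S.g).hom V v t).symm.trans hd
  obtain ⟨V', a, v', hv', ha⟩ := ((Scheme.pointSmallEtale ξ).toPresheafFiber_eq_iff' V v _ 0).1
    (hd'.trans (map_zero _).symm)
  rw [map_zero] at ha
  let t' := ((shriek f).obj S.X₂).obj.map a.op t
  have ht' : S.g.hom.app (op ((EtCoh.bc f).obj V')) t'.1 = 0 :=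
    (NatTrans.naturality_apply S.g.hom ((EtCoh.bc f).map a).op t.1).trans (congrArg Subtype.val ha)
  haveI : PreservesFiniteLimits (sheafToPresheaf X.smallEtaleTopology AddCommGrpCat.{u + 1}) := inferInstance
  let ev := sheafToPresheaf X.smallEtaleTopology AddCommGrpCat.{u + 1} ⋙
    (evaluation _ _).obj (op ((EtCoh.bc f).obj V'))
  haveI : PreservesFiniteLimits ev := comp_preservesFiniteLimits _ _
  haveI : ev.PreservesZeroMorphisms := ⟨fun _ _ => rfl⟩
  obtain ⟨s, hs⟩ := (ShortComplex.ab_exact_iff _).1 (hS.exact.map_of_mono_of_preservesKernel ev hS.mono_f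
    inferInstance) t'.1 ht'
  have hinj : ∀ W, Function.Injective (S.f.hom.app (op W)) := fun W => by
    haveI : Mono ((sheafToPresheaf _ _).map S.f) := inferInstance
    exact (AddCommGrpCat.mono_iff_injective _).1 ((NatTrans.mono_iff_mono_app S.f.hom).1 this (op W))
  have hPS : PS S.X₁ f V' s := by
    have h := PS_of_section f t'
    rw [PS] at h ⊢
    rw [← sectSupp_app_eq S.X₁ S.f hinj s]
    exact (congrArg (fun q => ClSub.IsProperOver (EtShriek.prV f V')
      (EtShriek.sectSupp S.X₂ ((EtCoh.bc f).obj V') q)) hs).mpr h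
  refine ⟨(Scheme.pointSmallEtale ξ).toPresheafFiber V' v' ((shriek f).obj S.X₁).obj (mkSect f s hPS), ?_⟩
  refine ((Scheme.pointSmallEtale ξ).toPresheafFiber_naturality_apply ((shriek f).map S.f).hom V' v' _).trans ?_
  refine (congrArg _ (Subtype.ext hs)).trans ?_
  refine ((Scheme.pointSmallEtale ξ).toPresheafFiber_w_apply a v' ((shriek f).obj S.X₂).obj t).trans ?_
  rw [hv']
  rfl

theorem lowerShriek_preservesFiniteLimits : PreservesFiniteLimits (EtShriek.lowerShriek f) := by
  haveI := shriek_preservesFiniteLimits f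
  exact preservesFiniteLimits_of_natIso (shriekIso f).symm

section filtered

theorem exists_stage_of_closedPoints {P : Type u} [TopologicalSpace P] [JacobsonSpace P] {K : Set P}
    (hK : IsCompact K) (hKl : IsLocallyClosed K) {J : Type u} [SmallCategory J] [IsFiltered J]
    (L : J → Opens P) (hL : ∀ {i j : J}, (i ⟶ j) → L i ≤ L j) (h : ∀ p ∈ K, IsClosed {p} → ∃ j, p ∈ L j) :
    ∃ j, K ⊆ L j := by
  classical
  have hall : K ⊆ ⋃ j, (L j : Set P) := by
    intro p hp
    by_contra hn
    obtain ⟨q, ⟨hqK, hqn⟩, hq⟩ := nonempty_inter_closedPoints (Z := K ∩ (⋃ j, (L j : Set P))ᶜ) ⟨p, hp, hn⟩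
      (hKl.inter (isOpen_iUnion fun j => (L j).2).isClosed_compl.isLocallyClosed)
    obtain ⟨j, hj⟩ := h q hqK hq
    exact hqn (Set.mem_iUnion.2 ⟨j, hj⟩)
  obtain ⟨s, hs⟩ := hK.elim_finite_subcover (fun j => (L j : Set P)) (fun j => (L j).2) hall
  haveI : Nonempty J := IsFiltered.nonempty
  obtain ⟨m, hm⟩ := IsFiltered.sup_objs_exists s
  refine ⟨m, hs.trans (Set.iUnion₂_subset fun j hj => ?_)⟩
  obtain ⟨a⟩ := hm hj
  exact hL a

variable {J : Type u} [SmallCategory J] [IsFiltered J] (D : J ⥤ EtCoh.Ab X)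

theorem stalk_exists_stage {Ω : Type u} [Field Ω] [IsSepClosed Ω] (ζ : Spec (CommRingCat.of Ω) ⟶ X)
    (a : (EtCoh.stalk ζ).obj (colimit D)) :
    ∃ (j : J) (b : (EtCoh.stalk ζ).obj (D.obj j)), (EtCoh.stalk ζ).map (colimit.ι D j) b = a := by
  haveI : (EtCoh.stalk ζ).IsLeftAdjoint := (Scheme.pointSmallEtale ζ).skyscraperSheafAdjunction.isLeftAdjoint
  exact Concrete.isColimit_exists_rep (D ⋙ EtCoh.stalk ζ)
    (isColimitOfPreserves (EtCoh.stalk ζ) (colimit.isColimit D)) a

theorem stalk_exists_eq_stage {Ω : Type u} [Field Ω] [IsSepClosed Ω] (ζ : Spec (CommRingCat.of Ω) ⟶ X)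
    {i j : J} (a : (EtCoh.stalk ζ).obj (D.obj i)) (b : (EtCoh.stalk ζ).obj (D.obj j))
    (h : (EtCoh.stalk ζ).map (colimit.ι D i) a = (EtCoh.stalk ζ).map (colimit.ι D j) b) :
    ∃ (k : J) (p : i ⟶ k) (q : j ⟶ k), (EtCoh.stalk ζ).map (D.map p) a = (EtCoh.stalk ζ).map (D.map q) b := by
  haveI : (EtCoh.stalk ζ).IsLeftAdjoint := (Scheme.pointSmallEtale ζ).skyscraperSheafAdjunction.isLeftAdjoint
  exact Concrete.isColimit_exists_of_rep_eq (D ⋙ EtCoh.stalk ζ)
    (isColimitOfPreserves (EtCoh.stalk ζ) (colimit.isColimit D)) a b h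

theorem germ_app {S : Scheme.{u}} {F G : EtCoh.Ab S} (α : F ⟶ G) {U : S.Etale} (s : EtCoh.sect F U)
    {Ω : Type u} [Field Ω] [IsSepClosed Ω] (ζ : Spec (CommRingCat.of Ω) ⟶ S)
    (a : Spec (CommRingCat.of Ω) ⟶ U.left) (ha : a ≫ U.hom = ζ) :
    (EtCoh.stalk ζ).map α (germ F s ζ a ha) = germ G (α.hom.app (op U) s) ζ a ha :=
  (Scheme.pointSmallEtale ζ).toPresheafFiber_naturality_apply α.hom _ _ _

/-- the rational point through a closed point of a scheme over the geometric fibre -/
theorem exists_rational {Ω : Type u} [Field Ω] [IsAlgClosed Ω] {η : Spec (CommRingCat.of Ω) ⟶ Y}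
    {P : Scheme.{u}} (str : P ⟶ pullback f η) [LocallyOfFiniteType str] (p : P) (hp : IsClosed {p}) :
    ∃ (l : Spec (CommRingCat.of Ω) ⟶ P) (z : PtsOver f η), l default = p ∧ l ≫ str = fibreSect f z := by
  let l := pointOfClosedPoint (str ≫ pullback.snd f η) p hp
  have hl : (l ≫ str) ≫ pullback.snd f η = 𝟙 _ := by
    rw [Category.assoc]; exact pointOfClosedPoint_comp _ _ _
  have hz : (l ≫ str ≫ pullback.fst f η) ≫ f = η := by
    rw [Category.assoc, Category.assoc, pullback.condition, ← Category.assoc str, ← Category.assoc l,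
      ← Category.assoc l, hl, Category.id_comp]
  refine ⟨l, ⟨_, hz⟩, pointOfClosedPoint_apply _ _ _ _, pullback.hom_ext ?_ ?_⟩
  · rw [pullback.lift_fst, Category.assoc]
  · rw [pullback.lift_snd, hl]

variable [IsSeparated f]

/-- surjectivity at a geometric point -/
theorem exists_stage_preimage {Ω : Type u} [Field Ω] [IsAlgClosed Ω] (η : Spec (CommRingCat.of Ω) ⟶ Y)
    (y : (EtCoh.stalk η).obj ((shriek f).obj (colimit D))) :
    ∃ (j : J) (x : (EtCoh.stalk η).obj ((shriek f).obj (D.obj j))),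
      (EtCoh.stalk η).map ((shriek f).map (colimit.ι D j)) x = y := by
  classical
  obtain ⟨V, v, t, rfl⟩ := (Scheme.pointSmallEtale η).toPresheafFiber_jointly_surjective y
  let F := colimit D
  let vl : Spec (CommRingCat.of Ω) ⟶ V.left := v.left
  have hvl : vl ≫ V.hom = η := CategoryTheory.Over.w v
  let Φ := fibreTo f v
  let C : Set ↥(pullback f η) := Φ.base ⁻¹' EtShriek.sectSupp F ((EtCoh.bc f).obj V) t.1
  have hΦ₁ : Φ ≫ EtShriek.prV f V = pullback.snd f η ≫ vl := pullback.lift_fst _ _ _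
  have hΦ₂ : Φ ≫ pullback.snd V.hom f = pullback.fst f η := pullback.lift_snd _ _ _
  have sqΦ : IsPullback Φ (pullback.snd f η) (EtShriek.prV f V) vl := by
    refine IsPullback.of_right ?_ hΦ₁ (IsPullback.of_hasPullback V.hom f).flip
    rw [hΦ₂, hvl]
    exact IsPullback.of_hasPullback f η
  have hC : ClSub.IsProperOver (pullback.snd f η) C := QCoh.IsProperOver.baseChange sqΦ (PS_of_section f t)
  let val : ∀ z : PtsOver f η, (EtCoh.stalk z.1).obj F := fun z =>
    germ F t.1 z.1 (bcPt f η z V v).left (CategoryTheory.Over.w (bcPt f η z V v))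
  have hΦ : ∀ z : PtsOver f η, fibreSect f z ≫ Φ = (bcPt f η z V v).left := fun z => by
    refine pullback.hom_ext ?_ ?_
    · refine (Category.assoc _ _ _).trans ((congrArg (fibreSect f z ≫ ·) hΦ₁).trans ?_)
      rw [pullback.lift_snd_assoc, Category.id_comp]
      exact (pullback.lift_fst _ _ _).symm
    · refine (Category.assoc _ _ _).trans ((congrArg (fibreSect f z ≫ ·) hΦ₂).trans ?_)
      exact (pullback.lift_fst _ _ _).trans (pullback.lift_snd _ _ _).symm
  have hval : ∀ z : PtsOver f η, fibrePt f z.2 ∉ C → val z = 0 := fun z hz => by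
    refine (germ_eq_zero_iff' F t.1 z.1 _ _).2 fun hm => hz ?_
    show Φ.base _ ∈ EtShriek.sectSupp F ((EtCoh.bc f).obj V) t.1
    refine Set.mem_of_eq_of_mem ?_ hm
    exact (Scheme.Hom.comp_apply _ _ _).symm.trans (congrArg pt₀ (hΦ z))
  haveI : JacobsonSpace ↥(pullback f η) := LocallyOfFiniteType.jacobsonSpace (pullback.snd f η)
  -- local representatives
  have hlocal : ∀ q ∈ C, IsClosed {q} → ∃ (j : J) (U : X.Etale) (s : EtCoh.sect (D.obj j) U)
      (Et : (pullback U.hom (pullback.fst f η)).Opens), IsAffineOpen Et ∧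
      (q ∈ (pullback.snd U.hom (pullback.fst f η)).base '' Et) ∧
      (∀ (z : PtsOver f η) (a : Spec (CommRingCat.of Ω) ⟶ U.left) (ha : a ≫ U.hom = z.1),
        pullback.lift a (fibreSect f z) (ha.trans (pullback.lift_fst _ _ _).symm) default ∈ Et →
          (EtCoh.stalk z.1).map (colimit.ι D j) (germ (D.obj j) s z.1 a ha) = val z) ∧
      (∀ (z : PtsOver f η) (a : Spec (CommRingCat.of Ω) ⟶ U.left) (ha : a ≫ U.hom = z.1),
        pullback.lift a (fibreSect f z) (ha.trans (pullback.lift_fst _ _ _).symm) default ∈ Et →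
          fibrePt f z.2 ∉ C → germ (D.obj j) s z.1 a ha = 0) := by
    intro q hq hqc
    obtain ⟨ξ, hξ, hξq⟩ := exists_fibre_point f q hqc
    let z₀ : PtsOver f η := ⟨ξ, hξ⟩
    obtain ⟨i, b, hb⟩ := stalk_exists_stage D z₀.1 (val z₀)
    obtain ⟨U, u₀, s, rfl⟩ := (Scheme.pointSmallEtale z₀.1).toPresheafFiber_jointly_surjective b
    let a₀ : Spec (CommRingCat.of Ω) ⟶ U.left := u₀.left
    have ha₀ : a₀ ≫ U.hom = z₀.1 := CategoryTheory.Over.w u₀
    let PU := pullback U.hom (pullback.fst f η)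
    haveI : AlgebraicGeometry.Etale U.hom := U.prop
    haveI : LocallyOfFiniteType (pullback.snd U.hom (pullback.fst f η) ≫ pullback.snd f η) := inferInstance
    let W := (EtCoh.bc f).obj V
    have hm : pullback.fst U.hom (pullback.fst f η) ≫ U.hom =
        (pullback.snd U.hom (pullback.fst f η) ≫ Φ) ≫ W.hom := by
      refine pullback.condition.trans ((congrArg (_ ≫ ·) ?_).trans (Category.assoc _ _ _).symm)
      exact (pullback.lift_snd _ _ _).symm
    let m : PU ⟶ (prodEt U W).left :=
      pullback.lift (pullback.fst U.hom (pullback.fst f η)) (pullback.snd U.hom (pullback.fst f η) ≫ Φ) hm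
    have hmpt : ∀ (z : PtsOver f η) (a : Spec (CommRingCat.of Ω) ⟶ U.left) (ha : a ≫ U.hom = z.1),
        pullback.lift a (fibreSect f z) (ha.trans (pullback.lift_fst _ _ _).symm) ≫ m =
          pullback.lift a (bcPt f η z V v).left (ha.trans (CategoryTheory.Over.w (bcPt f η z V v)).symm) := by
      intro z a ha
      refine pullback.hom_ext ?_ ?_
      · exact (Category.assoc _ _ _).trans ((congrArg (_ ≫ ·) (pullback.lift_fst _ _ _)).trans
          ((pullback.lift_fst _ _ _).trans (pullback.lift_fst _ _ _).symm))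
      · refine (Category.assoc _ _ _).trans ((congrArg (_ ≫ ·) (pullback.lift_snd _ _ _)).trans ?_)
        refine ((Category.assoc _ _ _).symm.trans (congrArg (· ≫ Φ) (pullback.lift_snd _ _ _))).trans ?_
        exact (hΦ z).trans (pullback.lift_snd _ _ _).symm
    let O₁ : PU.Opens := m ⁻¹ᵁ agree F ((colimit.ι D i).hom.app (op U) s) t.1
    have hO₁ : ∀ (z : PtsOver f η) (a : Spec (CommRingCat.of Ω) ⟶ U.left) (ha : a ≫ U.hom = z.1),
        pullback.lift a (fibreSect f z) (ha.trans (pullback.lift_fst _ _ _).symm) default ∈ O₁ ↔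
          (EtCoh.stalk z.1).map (colimit.ι D i) (germ (D.obj i) s z.1 a ha) = val z := by
      intro z a ha
      rw [germ_app]
      refine Iff.trans (iff_of_eq ?_) (mem_agree_iff F ((colimit.ι D i).hom.app (op U) s) t.1 z.1 a ha
        (bcPt f η z V v).left (CategoryTheory.Over.w (bcPt f η z V v)))
      refine congrArg (· ∈ agree F ((colimit.ι D i).hom.app (op U) s) t.1) ?_
      exact (Scheme.Hom.comp_apply _ _ _).symm.trans (congrArg pt₀ (hmpt z a ha))
    let x₀ : Spec (CommRingCat.of Ω) ⟶ PU := pullback.lift a₀ (fibreSect f z₀) (ha₀.trans (pullback.lift_fst _ _ _).symm)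
    have hx₀ : pt₀ x₀ ∈ O₁ := (hO₁ z₀ a₀ ha₀).2 hb
    obtain ⟨Et, hEt, hxEt, hle⟩ := exists_isAffineOpen_mem_and_subset hx₀
    haveI : IsAffine Et.toScheme := hEt
    haveI : IsLocallyNoetherian Et.toScheme := LocallyOfFiniteType.isLocallyNoetherian
      (Et.ι ≫ pullback.snd U.hom (pullback.fst f η) ≫ pullback.snd f η)
    haveI : IsNoetherian Et.toScheme := {}
    haveI : NoetherianSpace Et.toScheme := inferInstance
    haveI : JacobsonSpace Et.toScheme :=
      LocallyOfFiniteType.jacobsonSpace (Et.ι ≫ pullback.snd U.hom (pullback.fst f η) ≫ pullback.snd f η)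
    let pr := Et.ι ≫ pullback.snd U.hom (pullback.fst f η)
    let pU := Et.ι ≫ pullback.fst U.hom (pullback.fst f η)
    let K : Set Et.toScheme := (pr.base ⁻¹' C)ᶜ
    let L : Under i → Et.toScheme.Opens := fun k =>
      pU ⁻¹ᵁ eqLocus (D.obj k.right) (W := U) ((D.map k.hom).hom.app (op U) s) 0
    have hptE : ∀ (z : PtsOver f η) (l : Spec (CommRingCat.of Ω) ⟶ Et.toScheme), l ≫ pr = fibreSect f z →
        (l ≫ pU) ≫ U.hom = z.1 := fun z l hl => by
      have e : pU ≫ U.hom = pr ≫ pullback.fst f η := by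
        simp only [pU, pr, Category.assoc, pullback.condition]
      rw [Category.assoc, e, ← Category.assoc, hl, pullback.lift_fst]
    obtain ⟨k, hk⟩ := exists_stage_of_closedPoints (NoetherianSpace.isCompact K)
      (hC.1.preimage pr.continuous).isOpen_compl.isLocallyClosed (J := Under i) L (fun {k k'} a => by
        intro p hp
        obtain ⟨Ω', _, _, w, hw⟩ := exists_geom_point (X := U.left) (pU.base p)
        show pU.base p ∈ eqLocus (D.obj k'.right) (W := U) ((D.map k'.hom).hom.app (op U) s) 0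
        have hp' : pU.base p ∈ eqLocus (D.obj k.right) (W := U) ((D.map k.hom).hom.app (op U) s) 0 := hp
        rw [← hw] at hp' ⊢
        rw [mem_eqLocus_iff _ _ _ (w ≫ U.hom) w rfl] at hp' ⊢
        have e : D.map k'.hom = D.map k.hom ≫ D.map a.right := by
          rw [← D.map_comp]; exact congrArg D.map (Under.w a).symm
        rw [← germ_app, e, Functor.map_comp, ConcreteCategory.comp_apply, germ_app (D.map k.hom) s, hp']
        exact ((congrArg _ (map_zero _)).trans (map_zero _)).trans (map_zero _).symm)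
      (fun p hp hpc => by
        obtain ⟨l, z, hlp, hl⟩ := exists_rational f pr p hpc
        have hz : fibrePt f z.2 ∉ C := by
          intro hzC
          refine hp ?_
          show pr.base p ∈ C
          rw [← hlp, ← Scheme.Hom.comp_apply, hl]
          exact hzC
        have ha := hptE z l hl
        have hcol : (EtCoh.stalk z.1).map (colimit.ι D i) (germ (D.obj i) s z.1 (l ≫ pU) ha) =
            (EtCoh.stalk z.1).map (colimit.ι D i) 0 := by
          rw [map_zero, ← hval z hz]
          refine (hO₁ z (l ≫ pU) ha).1 (Set.mem_of_eq_of_mem ?_ (hle p.2))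
          refine Eq.trans ?_ ((Scheme.Hom.comp_apply l Et.ι default).trans (congrArg Et.ι.base hlp))
          refine congrArg pt₀ (pullback.hom_ext ?_ ?_)
          · rw [pullback.lift_fst, Category.assoc]
          · rw [pullback.lift_snd, Category.assoc, hl]
        obtain ⟨k, p₁, p₂, hp12⟩ := stalk_exists_eq_stage D z.1 _ _ hcol
        refine ⟨Under.mk p₁, ?_⟩
        show pU.base p ∈ eqLocus (D.obj k) (W := U) ((D.map p₁).hom.app (op U) s) 0
        rw [← hlp, ← Scheme.Hom.comp_apply]
        refine (mem_eqLocus_iff _ _ _ z.1 (l ≫ pU) ha).2 ?_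
        rw [← germ_app, hp12, map_zero]
        exact (map_zero _).symm)
    refine ⟨k.right, U, (D.map k.hom).hom.app (op U) s, Et, hEt, ⟨pt₀ x₀, hxEt, ?_⟩, fun z a ha hm => ?_,
      fun z a ha hm hz => ?_⟩
    · refine (Scheme.Hom.comp_apply _ _ _).symm.trans ?_
      rw [pullback.lift_snd]
      exact hξq
    · rw [← germ_app, ← ConcreteCategory.comp_apply, ← Functor.map_comp, colimit.w]
      exact (hO₁ z a ha).1 (hle hm)
    · let p : Et.toScheme := ⟨_, hm⟩
      have hpK : p ∈ K := fun hpC => hz (by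
        refine Set.mem_of_eq_of_mem ?_ hpC
        show fibrePt f z.2 = pr.base p
        refine Eq.trans ?_ (Scheme.Hom.comp_apply _ _ _).symm
        exact ((congrArg pt₀ (pullback.lift_snd a (fibreSect f z) _)).symm.trans (Scheme.Hom.comp_apply _ _ _)))
      refine ((mem_eqLocus_iff _ _ _ z.1 a ha).1 (Set.mem_of_eq_of_mem ?_ (hk hpK))).trans (map_zero _)
      refine Eq.trans ?_ (Scheme.Hom.comp_apply _ _ _).symm
      exact (congrArg pt₀ (pullback.lift_fst a (fibreSect f z) _)).symm.trans (Scheme.Hom.comp_apply _ _ _)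
  -- finitely many pieces
  choose jq Uq sq Etq haff hmemq hvalq hzeroq using hlocal
  let ι₀ := {q : ↥(pullback f η) // q ∈ C ∧ IsClosed {q}}
  have hopen : ∀ q : ι₀, IsOpen ((pullback.snd (Uq q.1 q.2.1 q.2.2).hom (pullback.fst f η)).base ''
      (Etq q.1 q.2.1 q.2.2 : Set _)) := fun q => by
    haveI : AlgebraicGeometry.Etale (Uq q.1 q.2.1 q.2.2).hom := (Uq q.1 q.2.1 q.2.2).prop
    exact (pullback.snd (Uq q.1 q.2.1 q.2.2).hom (pullback.fst f η)).isOpenMap _ (Etq q.1 q.2.1 q.2.2).2
  have hCcov : C ⊆ ⋃ q : ι₀, (pullback.snd (Uq q.1 q.2.1 q.2.2).hom (pullback.fst f η)).base ''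
      (Etq q.1 q.2.1 q.2.2 : Set _) := by
    intro p hp
    by_contra hn
    obtain ⟨q, ⟨hqC, hqn⟩, hq⟩ := nonempty_inter_closedPoints (Z := C ∩ (⋃ q : ι₀, _ '' _)ᶜ) ⟨p, hp, hn⟩
      (hC.1.isLocallyClosed.inter (isOpen_iUnion hopen).isClosed_compl.isLocallyClosed)
    exact hqn (Set.mem_iUnion.2 ⟨⟨q, hqC, hq⟩, hmemq q hqC hq⟩)
  obtain ⟨S, hS⟩ := (compactSpace_of_properOver_point _ hC).elim_finite_subcover _ hopen hCcov
  haveI : Nonempty J := IsFiltered.nonempty
  let jS : ι₀ → J := fun q => jq q.1 q.2.1 q.2.2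
  obtain ⟨m₀, hm₀⟩ : ∃ m : J, ∀ {i : J}, i ∈ S.image jS → Nonempty (i ⟶ m) := IsFiltered.sup_objs_exists _
  let toM : ∀ q ∈ S, jq q.1 q.2.1 q.2.2 ⟶ m₀ := fun q hq => (hm₀ (Finset.mem_image_of_mem jS hq)).some
  let U' : ↥S → X.Etale := fun q => Uq q.1.1 q.1.2.1 q.1.2.2
  let E' : ∀ q : ↥S, (pullback (U' q).hom (pullback.fst f η)).Opens := fun q => Etq q.1.1 q.1.2.1 q.1.2.2
  let s' : ∀ q : ↥S, EtCoh.sect (D.obj m₀) (U' q) := fun q =>
    (D.map (toM q.1 q.2)).hom.app (op (U' q)) (sq q.1.1 q.1.2.1 q.1.2.2)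
  have hval' : ∀ (q : ↥S) (z : PtsOver f η) (a : Spec (CommRingCat.of Ω) ⟶ (U' q).left) (ha : a ≫ (U' q).hom = z.1),
      pullback.lift a (fibreSect f z) (ha.trans (pullback.lift_fst _ _ _).symm) default ∈ E' q →
        (EtCoh.stalk z.1).map (colimit.ι D m₀) (germ (D.obj m₀) (s' q) z.1 a ha) = val z := by
    intro q z a ha hm
    rw [← germ_app, ← ConcreteCategory.comp_apply, ← Functor.map_comp, colimit.w]
    exact hvalq q.1.1 q.1.2.1 q.1.2.2 z a ha hm
  -- one stage for all the agreements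
  have hagree : ∀ q q' : ↥S, ∃ k : Under m₀, ∀ (z : PtsOver f η)
      (a : Spec (CommRingCat.of Ω) ⟶ (U' q).left) (ha : a ≫ (U' q).hom = z.1)
      (b : Spec (CommRingCat.of Ω) ⟶ (U' q').left) (hb : b ≫ (U' q').hom = z.1),
      pullback.lift a (fibreSect f z) (ha.trans (pullback.lift_fst _ _ _).symm) default ∈ E' q →
      pullback.lift b (fibreSect f z) (hb.trans (pullback.lift_fst _ _ _).symm) default ∈ E' q' →
        (EtCoh.stalk z.1).map (D.map k.hom) (germ (D.obj m₀) (s' q) z.1 a ha) =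
          (EtCoh.stalk z.1).map (D.map k.hom) (germ (D.obj m₀) (s' q') z.1 b hb) := by
    intro q q'
    haveI : IsAffine (E' q).toScheme := haff q.1.1 q.1.2.1 q.1.2.2
    haveI : IsAffine (E' q').toScheme := haff q'.1.1 q'.1.2.1 q'.1.2.2
    haveI : AlgebraicGeometry.Etale (U' q).hom := (U' q).prop
    haveI : AlgebraicGeometry.Etale (U' q').hom := (U' q').prop
    haveI : QuasiSeparatedSpace ↥(pullback f η) := quasiSeparatedSpace_of_quasiSeparated (pullback.snd f η)
    let g := (E' q).ι ≫ pullback.snd (U' q).hom (pullback.fst f η)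
    let g' := (E' q').ι ≫ pullback.snd (U' q').hom (pullback.fst f η)
    haveI : QuasiCompact g' := quasiCompact_of_compactSpace g'
    let R := pullback g g'
    haveI : CompactSpace R := QuasiCompact.compactSpace_of_compactSpace (pullback.fst g g')
    let str := pullback.fst g g' ≫ g
    haveI : LocallyOfFiniteType str := inferInstance
    haveI : JacobsonSpace R := LocallyOfFiniteType.jacobsonSpace (str ≫ pullback.snd f η)
    let ra := pullback.fst g g' ≫ (E' q).ι ≫ pullback.fst (U' q).hom (pullback.fst f η)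
    let rb := pullback.snd g g' ≫ (E' q').ι ≫ pullback.fst (U' q').hom (pullback.fst f η)
    have hra : ra ≫ (U' q).hom = str ≫ pullback.fst f η := by
      simp only [ra, str, g, Category.assoc]
      exact congrArg (fun x => pullback.fst ((E' q).ι ≫ pullback.snd (U' q).hom (pullback.fst f η)) g' ≫ (E' q).ι ≫ x)
        pullback.condition
    have hrb : rb ≫ (U' q').hom = str ≫ pullback.fst f η := by
      refine Eq.trans ?_ (congrArg (· ≫ pullback.fst f η) (pullback.condition (f := g) (g := g')).symm)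
      simp only [rb, g', Category.assoc, pullback.condition]
    let r : R ⟶ (prodEt (U' q) (U' q')).left := pullback.lift ra rb (hra.trans hrb.symm)
    let L : Under m₀ → R.Opens := fun k => r ⁻¹ᵁ agree (D.obj k.right)
      ((D.map k.hom).hom.app (op (U' q)) (s' q)) ((D.map k.hom).hom.app (op (U' q')) (s' q'))
    have hLpt : ∀ (k : Under m₀) {Ω' : Type u} [Field Ω'] [IsSepClosed Ω'] (l : Spec (CommRingCat.of Ω') ⟶ R)
        (ζ : Spec (CommRingCat.of Ω') ⟶ X) (ha : (l ≫ ra) ≫ (U' q).hom = ζ) (hb : (l ≫ rb) ≫ (U' q').hom = ζ),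
        pt₀ l ∈ L k ↔ (EtCoh.stalk ζ).map (D.map k.hom) (germ (D.obj m₀) (s' q) ζ (l ≫ ra) ha) =
          (EtCoh.stalk ζ).map (D.map k.hom) (germ (D.obj m₀) (s' q') ζ (l ≫ rb) hb) := by
      intro k Ω' _ _ l ζ ha hb
      rw [germ_app, germ_app]
      refine Iff.trans (iff_of_eq ?_) (mem_agree_iff _ _ _ ζ (l ≫ ra) ha (l ≫ rb) hb)
      show (r.base (l.base default) ∈ agree (D.obj k.right) ((D.map k.hom).hom.app (op (U' q)) (s' q))
        ((D.map k.hom).hom.app (op (U' q')) (s' q'))) = _
      rw [← Scheme.Hom.comp_apply]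
      refine congrArg (· ∈ agree (D.obj k.right) ((D.map k.hom).hom.app (op (U' q)) (s' q))
        ((D.map k.hom).hom.app (op (U' q')) (s' q'))) (congrArg pt₀ (pullback.hom_ext ?_ ?_))
      · exact (Category.assoc _ _ _).trans ((congrArg (l ≫ ·) (pullback.lift_fst _ _ _)).trans
          (pullback.lift_fst _ _ _).symm)
      · exact (Category.assoc _ _ _).trans ((congrArg (l ≫ ·) (pullback.lift_snd _ _ _)).trans
          (pullback.lift_snd _ _ _).symm)
    obtain ⟨k, hk⟩ := exists_stage_of_closedPoints (isCompact_univ (X := R)) isOpen_univ.isLocallyClosed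
      (J := Under m₀) L (fun {k k'} a => by
        intro p hp
        obtain ⟨Ω', _, _, l, hl⟩ := exists_geom_point (X := R) p
        have ha : (l ≫ ra) ≫ (U' q).hom = l ≫ str ≫ pullback.fst f η :=
          (Category.assoc _ _ _).trans (congrArg (l ≫ ·) hra)
        have hb : (l ≫ rb) ≫ (U' q').hom = l ≫ str ≫ pullback.fst f η :=
          (Category.assoc _ _ _).trans (congrArg (l ≫ ·) hrb)
        rw [← hl] at hp ⊢
        refine (hLpt k' l _ ha hb).2 ?_
        have := (hLpt k l _ ha hb).1 hp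
        have e : D.map k'.hom = D.map k.hom ≫ D.map a.right := by
          rw [← D.map_comp]; exact congrArg D.map (Under.w a).symm
        rw [e, Functor.map_comp, ConcreteCategory.comp_apply, ConcreteCategory.comp_apply, this])
      (fun p _ hpc => by
        obtain ⟨l, z, hlp, hl⟩ := exists_rational f str p hpc
        have hg' : (l ≫ pullback.snd g g') ≫ g' = fibreSect f z := by
          rw [Category.assoc, ← pullback.condition]; exact hl
        have ha : (l ≫ ra) ≫ (U' q).hom = z.1 := by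
          rw [Category.assoc, hra, ← Category.assoc, hl, pullback.lift_fst]
        have hb : (l ≫ rb) ≫ (U' q').hom = z.1 := by
          rw [Category.assoc, hrb, ← Category.assoc, hl, pullback.lift_fst]
        have hma : pullback.lift (l ≫ ra) (fibreSect f z) (ha.trans (pullback.lift_fst _ _ _).symm) default ∈ E' q := by
          refine Set.mem_of_eq_of_mem ?_ ((pullback.fst g g').base (l.base default)).2
          refine Eq.trans ?_ ((Scheme.Hom.comp_apply (l ≫ pullback.fst g g') (E' q).ι default).trans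
            (congrArg (E' q).ι.base (Scheme.Hom.comp_apply _ _ _)))
          refine congrArg pt₀ (pullback.hom_ext ?_ ?_)
          · simp only [pullback.lift_fst, ra, Category.assoc]
          · rw [pullback.lift_snd, ← hl]
            simp only [str, g, Category.assoc]
        have hmb : pullback.lift (l ≫ rb) (fibreSect f z) (hb.trans (pullback.lift_fst _ _ _).symm) default ∈ E' q' := by
          refine Set.mem_of_eq_of_mem ?_ ((pullback.snd g g').base (l.base default)).2
          refine Eq.trans ?_ ((Scheme.Hom.comp_apply (l ≫ pullback.snd g g') (E' q').ι default).trans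
            (congrArg (E' q').ι.base (Scheme.Hom.comp_apply _ _ _)))
          refine congrArg pt₀ (pullback.hom_ext ?_ ?_)
          · simp only [pullback.lift_fst, rb, Category.assoc]
          · rw [pullback.lift_snd, ← hg']
            simp only [g', Category.assoc]
        obtain ⟨k, p₁, p₂, h12⟩ := stalk_exists_eq_stage D z.1 _ _
          ((hval' q z _ ha hma).trans (hval' q' z _ hb hmb).symm)
        refine ⟨Under.mk (p₁ ≫ IsFiltered.coeqHom p₁ p₂), hlp ▸ (hLpt _ l z.1 ha hb).2 ?_⟩
        show (EtCoh.stalk z.1).map (D.map (p₁ ≫ IsFiltered.coeqHom p₁ p₂)) _ =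
          (EtCoh.stalk z.1).map (D.map (p₁ ≫ IsFiltered.coeqHom p₁ p₂)) _
        conv_rhs => rw [IsFiltered.coeq_condition p₁ p₂]
        rw [D.map_comp, D.map_comp, Functor.map_comp, Functor.map_comp, ConcreteCategory.comp_apply,
          ConcreteCategory.comp_apply, h12])
    refine ⟨k, fun z a ha b hb hma hmb => ?_⟩
    have hla : ∀ (O : ↥S) (c : Spec (CommRingCat.of Ω) ⟶ (U' O).left) (hc : c ≫ (U' O).hom = z.1),
        pullback.lift c (fibreSect f z) (hc.trans (pullback.lift_fst _ _ _).symm) default ∈ E' O →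
        ∃ l : Spec (CommRingCat.of Ω) ⟶ (E' O).toScheme, l ≫ (E' O).ι =
          pullback.lift c (fibreSect f z) (hc.trans (pullback.lift_fst _ _ _).symm) := fun O c hc hm =>
      ⟨IsOpenImmersion.lift (E' O).ι _ (by
        rintro _ ⟨w, rfl⟩
        refine (Scheme.Opens.range_ι _).ge ?_
        rw [Subsingleton.elim (α := Spec (CommRingCat.of Ω)) w default]
        exact hm), IsOpenImmersion.lift_fac _ _ _⟩
    obtain ⟨la, hla'⟩ := hla q a ha hma
    obtain ⟨lb, hlb'⟩ := hla q' b hb hmb
    have hlg : la ≫ g = fibreSect f z := by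
      rw [← Category.assoc, hla', pullback.lift_snd]
    have hlg' : lb ≫ g' = fibreSect f z := by
      rw [← Category.assoc, hlb', pullback.lift_snd]
    let l : Spec (CommRingCat.of Ω) ⟶ R := pullback.lift la lb (hlg.trans hlg'.symm)
    have hl₁ : l ≫ ra = a := by
      simp only [l, ra, pullback.lift_fst_assoc]
      rw [← Category.assoc, hla', pullback.lift_fst]
    have hl₂ : l ≫ rb = b := by
      simp only [l, rb, pullback.lift_snd_assoc]
      rw [← Category.assoc, hlb', pullback.lift_fst]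
    have := (hLpt k l z.1 (by rw [hl₁]; exact ha) (by rw [hl₂]; exact hb)).1 (hk (Set.mem_univ _))
    convert this using 3 <;> first | exact hl₁.symm | exact hl₂.symm
  choose kq hkq using hagree
  obtain ⟨k₀, hk₀⟩ := IsFiltered.sup_objs_exists ((Finset.univ : Finset (↥S × ↥S)).image fun p => kq p.1 p.2)
  obtain ⟨M, e, -⟩ : ∃ (M : J) (e : m₀ ⟶ M), ∀ q q', Nonempty (kq q q' ⟶ Under.mk e) :=
    ⟨k₀.right, k₀.hom, fun q q' => ⟨(hk₀ (Finset.mem_image_of_mem (fun p : ↥S × ↥S => kq p.1 p.2)
      (Finset.mem_univ (q, q')))).some ≫ eqToHom rfl⟩⟩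
  have hk₀' : ∀ q q', Nonempty (kq q q' ⟶ k₀) := fun q q' =>
    hk₀ (Finset.mem_image_of_mem (fun p : ↥S × ↥S => kq p.1 p.2) (Finset.mem_univ (q, q')))
  let Has : PtsOver f η → Prop := fun z => ∃ (q : ↥S) (a : Spec (CommRingCat.of Ω) ⟶ (U' q).left)
    (ha : a ≫ (U' q).hom = z.1), fibrePt f z.2 ∈ C ∧
      pullback.lift a (fibreSect f z) (ha.trans (pullback.lift_fst _ _ _).symm) default ∈ E' q
  let c : ∀ z : PtsOver f η, (EtCoh.stalk z.1).obj (D.obj k₀.right) := fun z =>
    if h : Has z then (EtCoh.stalk z.1).map (D.map k₀.hom)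
      (germ (D.obj m₀) (s' h.choose) z.1 h.choose_spec.choose h.choose_spec.choose_spec.choose) else 0
  have hceq : ∀ (z : PtsOver f η) (q : ↥S) (a : Spec (CommRingCat.of Ω) ⟶ (U' q).left) (ha : a ≫ (U' q).hom = z.1),
      pullback.lift a (fibreSect f z) (ha.trans (pullback.lift_fst _ _ _).symm) default ∈ E' q →
        c z = (EtCoh.stalk z.1).map (D.map k₀.hom) (germ (D.obj m₀) (s' q) z.1 a ha) := by
    intro z q a ha hm
    by_cases hzC : fibrePt f z.2 ∈ C
    · have h : Has z := ⟨q, a, ha, hzC, hm⟩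
      rw [show c z = (EtCoh.stalk z.1).map (D.map k₀.hom)
        (germ (D.obj m₀) (s' h.choose) z.1 h.choose_spec.choose h.choose_spec.choose_spec.choose) from dif_pos h]
      obtain ⟨arr⟩ := hk₀' h.choose q
      have e1 : D.map k₀.hom = D.map (kq h.choose q).hom ≫ D.map arr.right := by
        rw [← D.map_comp]; exact congrArg D.map (Under.w arr).symm
      rw [e1, Functor.map_comp, ConcreteCategory.comp_apply, ConcreteCategory.comp_apply,
        hkq h.choose q z _ h.choose_spec.choose_spec.choose a ha h.choose_spec.choose_spec.choose_spec.2 hm]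
    · have h : ¬ Has z := fun hh => by
        obtain ⟨_, _, _, hC', _⟩ := hh
        exact hzC hC'
      rw [show c z = 0 from dif_neg h]
      rw [show germ (D.obj m₀) (s' q) z.1 a ha = (EtCoh.stalk z.1).map (D.map (toM q.1 q.2))
        (germ _ (sq q.1.1 q.1.2.1 q.1.2.2) z.1 a ha) from (germ_app _ _ _ _ _).symm,
        hzeroq q.1.1 q.1.2.1 q.1.2.2 z a ha hm hzC, map_zero, map_zero]
  have hHas : ∀ z : PtsOver f η, fibrePt f z.2 ∈ C → ∃ (q : ↥S) (a : Spec (CommRingCat.of Ω) ⟶ (U' q).left)
      (ha : a ≫ (U' q).hom = z.1),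
        pullback.lift a (fibreSect f z) (ha.trans (pullback.lift_fst _ _ _).symm) default ∈ E' q := by
    intro z hz
    obtain ⟨q, hq, p, hp, hpz⟩ := Set.mem_iUnion₂.1 (hS hz)
    haveI : AlgebraicGeometry.Etale (Uq q.1 q.2.1 q.2.2).hom := (Uq q.1 q.2.1 q.2.2).prop
    obtain ⟨l, hl, hlp⟩ := Scheme.exists_fac_of_etale_of_isSepClosed
      (pullback.snd (Uq q.1 q.2.1 q.2.2).hom (pullback.fst f η)) (fibreSect f z) p hpz
    have ha : (l ≫ pullback.fst (Uq q.1 q.2.1 q.2.2).hom (pullback.fst f η)) ≫ (Uq q.1 q.2.1 q.2.2).hom = z.1 := by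
      rw [Category.assoc, pullback.condition, ← Category.assoc, hl, pullback.lift_fst]
    refine ⟨⟨q, hq⟩, _, ha, Set.mem_of_eq_of_mem ?_ hp⟩
    refine Eq.trans ?_ hlp
    exact congrArg pt₀ (pullback.hom_ext (pullback.lift_fst _ _ _) ((pullback.lift_snd _ _ _).trans hl.symm))
  have hc0 : ∀ z : PtsOver f η, fibrePt f z.2 ∉ C → c z = 0 := fun z hz =>
    dif_neg fun hh => by
      obtain ⟨_, _, _, hC', _⟩ := hh
      exact hz hC'
  have hloc : LocGiven f η (D.obj k₀.right) c := by
    intro z₀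
    by_cases hz : fibrePt f z₀.2 ∈ C
    · obtain ⟨q, a, ha, hm⟩ := hHas z₀ hz
      refine ⟨U' q, a, ha, (D.map k₀.hom).hom.app (op (U' q)) (s' q), E' q, hm, fun z b hb hmb => ?_⟩
      rw [hceq z q b hb hmb, germ_app]
    · let O : (pullback (EtCoh.top X).hom (pullback.fst f η)).Opens :=
        pullback.snd (EtCoh.top X).hom (pullback.fst f η) ⁻¹ᵁ ⟨Cᶜ, hC.1.isOpen_compl⟩
      have hO : ∀ (z : PtsOver f η) (a : Spec (CommRingCat.of Ω) ⟶ (EtCoh.top X).left)
          (ha : a ≫ (EtCoh.top X).hom = z.1),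
          pullback.lift a (fibreSect f z) (ha.trans (pullback.lift_fst _ _ _).symm) default ∈ O ↔
            fibrePt f z.2 ∉ C := fun z a ha => by
        show (pullback.snd (EtCoh.top X).hom (pullback.fst f η)).base _ ∈ Cᶜ ↔ _
        rw [← Scheme.Hom.comp_apply, pullback.lift_snd]
        rfl
      refine ⟨EtCoh.top X, z₀.1, Category.comp_id _, 0, O, (hO z₀ z₀.1 (Category.comp_id _)).2 hz,
        fun z a ha hm => ?_⟩
      rw [hc0 z ((hO z a ha).1 hm)]
      exact map_zero _
  have hsupp : ProperlySupported f η (D.obj k₀.right) c :=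
    ⟨C, hC, fun z hz => by by_contra hn; exact hz (hc0 z hn)⟩
  obtain ⟨x, hx⟩ := exists_evalAt_of_locGiven f η (D.obj k₀.right) c hloc hsupp
  refine ⟨k₀.right, x, sub_eq_zero.1 (eq_zero_of_evalAt_lft f η F _ fun z => ?_)⟩
  rw [map_sub, sub_eq_zero, evalAt_natural, hx]
  refine Eq.trans ?_ (evalAt_germ' f η F z V v t).symm
  show (EtCoh.stalk z.1).map (colimit.ι D k₀.right) (c z) = val z
  by_cases hz : fibrePt f z.2 ∈ C
  · obtain ⟨q, a, ha, hm⟩ := hHas z hz
    rw [hceq z q a ha hm, ← ConcreteCategory.comp_apply, ← Functor.map_comp, colimit.w]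
    exact hval' q z a ha hm
  · rw [hc0 z hz, map_zero, hval z hz]

/-- injectivity at a geometric point -/
theorem exists_stage_zero {Ω : Type u} [Field Ω] [IsAlgClosed Ω] (η : Spec (CommRingCat.of Ω) ⟶ Y) {i : J}
    (x : (EtCoh.stalk η).obj ((shriek f).obj (D.obj i)))
    (hx : (EtCoh.stalk η).map ((shriek f).map (colimit.ι D i)) x = 0) :
    ∃ (k : J) (p : i ⟶ k), (EtCoh.stalk η).map ((shriek f).map (D.map p)) x = 0 := by
  classical
  obtain ⟨V, v, t, rfl⟩ := (Scheme.pointSmallEtale η).toPresheafFiber_jointly_surjective x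
  let vl : Spec (CommRingCat.of Ω) ⟶ V.left := v.left
  have hvl : vl ≫ V.hom = η := CategoryTheory.Over.w v
  let W := (EtCoh.bc f).obj V
  let Φ := fibreTo f v
  let C : Set ↥(pullback f η) := Φ.base ⁻¹' EtShriek.sectSupp (D.obj i) W t.1
  have hΦ₁ : Φ ≫ EtShriek.prV f V = pullback.snd f η ≫ vl := pullback.lift_fst _ _ _
  have hΦ₂ : Φ ≫ pullback.snd V.hom f = pullback.fst f η := pullback.lift_snd _ _ _
  have sqΦ : IsPullback Φ (pullback.snd f η) (EtShriek.prV f V) vl := by
    refine IsPullback.of_right ?_ hΦ₁ (IsPullback.of_hasPullback V.hom f).flip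
    rw [hΦ₂, hvl]
    exact IsPullback.of_hasPullback f η
  have hC : ClSub.IsProperOver (pullback.snd f η) C := QCoh.IsProperOver.baseChange sqΦ (PS_of_section f t)
  have hΦ : ∀ z : PtsOver f η, fibreSect f z ≫ Φ = (bcPt f η z V v).left := fun z => by
    refine pullback.hom_ext ?_ ?_
    · refine (Category.assoc _ _ _).trans ((congrArg (fibreSect f z ≫ ·) hΦ₁).trans ?_)
      rw [pullback.lift_snd_assoc, Category.id_comp]
      exact (pullback.lift_fst _ _ _).symm
    · refine (Category.assoc _ _ _).trans ((congrArg (fibreSect f z ≫ ·) hΦ₂).trans ?_)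
      exact (pullback.lift_fst _ _ _).trans (pullback.lift_snd _ _ _).symm
  haveI : JacobsonSpace ↥(pullback f η) := LocallyOfFiniteType.jacobsonSpace (pullback.snd f η)
  let L : Under i → (pullback f η).Opens := fun k =>
    Φ ⁻¹ᵁ eqLocus (D.obj k.right) (W := W) ((D.map k.hom).hom.app (op W) t.1) 0
  obtain ⟨k, hk⟩ := exists_stage_of_closedPoints (compactSpace_of_properOver_point _ hC) hC.1.isLocallyClosed
    (J := Under i) L (fun {k k'} a => by
      intro p hp
      obtain ⟨Ω', _, _, w, hw⟩ := exists_geom_point (X := W.left) (Φ.base p)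
      show Φ.base p ∈ eqLocus (D.obj k'.right) (W := W) ((D.map k'.hom).hom.app (op W) t.1) 0
      have hp' : Φ.base p ∈ eqLocus (D.obj k.right) (W := W) ((D.map k.hom).hom.app (op W) t.1) 0 := hp
      rw [← hw] at hp' ⊢
      rw [mem_eqLocus_iff _ _ _ (w ≫ W.hom) w rfl] at hp' ⊢
      have e : D.map k'.hom = D.map k.hom ≫ D.map a.right := by
        rw [← D.map_comp]; exact congrArg D.map (Under.w a).symm
      rw [← germ_app, e, Functor.map_comp, ConcreteCategory.comp_apply, germ_app (D.map k.hom) t.1, hp']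
      exact ((congrArg _ (map_zero _)).trans (map_zero _)).trans (map_zero _).symm)
    (fun p hp hpc => by
      obtain ⟨ξ, hξ, hξp⟩ := exists_fibre_point f p hpc
      let z : PtsOver f η := ⟨ξ, hξ⟩
      have h0 := congrArg (evalAt f η (colimit D) z) hx
      rw [evalAt_natural, map_zero] at h0
      have h0' : (EtCoh.stalk z.1).map (colimit.ι D i) (germ (D.obj i) t.1 z.1 (bcPt f η z V v).left
          (CategoryTheory.Over.w (bcPt f η z V v))) = (EtCoh.stalk z.1).map (colimit.ι D i) 0 :=
        ((congrArg _ (evalAt_germ' f η (D.obj i) z V v t)).symm.trans h0).trans (map_zero _).symm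
      obtain ⟨k, p₁, p₂, h12⟩ := stalk_exists_eq_stage D z.1 _ _ h0'
      refine ⟨Under.mk p₁, ?_⟩
      show Φ.base p ∈ eqLocus (D.obj k) (W := W) ((D.map p₁).hom.app (op W) t.1) 0
      rw [← hξp]
      refine Set.mem_of_eq_of_mem ?_ ((mem_eqLocus_iff _ _ _ z.1 (bcPt f η z V v).left
        (CategoryTheory.Over.w (bcPt f η z V v))).2 (by
          rw [← germ_app, h12, map_zero]; exact (map_zero _).symm))
      exact (Scheme.Hom.comp_apply _ _ _).symm.trans (congrArg pt₀ (hΦ z)))
  refine ⟨k.right, k.hom, eq_zero_of_evalAt_lft f η _ _ fun z => ?_⟩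
  rw [evalAt_natural]
  refine (congrArg _ (evalAt_germ' f η (D.obj i) z V v t)).trans ?_
  by_cases hz : fibrePt f z.2 ∈ C
  · rw [germ_app]
    refine ((mem_eqLocus_iff _ _ _ z.1 (bcPt f η z V v).left
      (CategoryTheory.Over.w (bcPt f η z V v))).1 (Set.mem_of_eq_of_mem ?_ (hk hz))).trans (map_zero _)
    exact ((Scheme.Hom.comp_apply _ _ _).symm.trans (congrArg pt₀ (hΦ z))).symm
  · have : germ (D.obj i) t.1 z.1 (bcPt f η z V v).left (CategoryTheory.Over.w (bcPt f η z V v)) = 0 := by
      refine (germ_eq_zero_iff' (D.obj i) t.1 z.1 _ _).2 fun hm => hz ?_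
      show Φ.base _ ∈ EtShriek.sectSupp (D.obj i) W t.1
      refine Set.mem_of_eq_of_mem ?_ hm
      exact (Scheme.Hom.comp_apply _ _ _).symm.trans (congrArg pt₀ (hΦ z))
    rw [this, map_zero]

end filtered

theorem shriek_preservesFilteredColimits [IsSeparated f] :
    PreservesFilteredColimitsOfSize.{u, u} (shriek f) := by
  haveI := shriek_additive f
  refine ⟨fun J _ _ => ⟨fun {D} => ?_⟩⟩
  haveI : IsIso (colimit.post D (shriek f)) := by
    refine (isIso_iff_stalks _).2 fun Ω _ _ ξ => ?_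
    refine (ConcreteCategory.isIso_iff_bijective _).2 (bijective_stalk_of_alg ξ _ ?_)
    let η := algPt ξ
    let φ := (EtCoh.stalk η).map (colimit.post D (shriek f))
    haveI : (EtCoh.stalk η).IsLeftAdjoint := (Scheme.pointSmallEtale η).skyscraperSheafAdjunction.isLeftAdjoint
    have hι : ∀ j (d : (EtCoh.stalk η).obj ((shriek f).obj (D.obj j))),
        φ ((EtCoh.stalk η).map (colimit.ι (D ⋙ shriek f) j) d) =
          (EtCoh.stalk η).map ((shriek f).map (colimit.ι D j)) d := fun j d => by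
      rw [← ConcreteCategory.comp_apply, ← Functor.map_comp, colimit.ι_post]
      rfl
    refine ⟨(injective_iff_map_eq_zero φ.hom).2 fun x hx => ?_, fun y => ?_⟩
    · obtain ⟨i, d, rfl⟩ := Concrete.isColimit_exists_rep ((D ⋙ shriek f) ⋙ EtCoh.stalk η)
        (isColimitOfPreserves (EtCoh.stalk η) (colimit.isColimit (D ⋙ shriek f))) x
      obtain ⟨k, p, hp⟩ := exists_stage_zero f D η d ((hι i d).symm.trans hx)
      show (EtCoh.stalk η).map (colimit.ι (D ⋙ shriek f) i) d = 0
      rw [← colimit.w (D ⋙ shriek f) p, Functor.map_comp, ConcreteCategory.comp_apply]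
      exact (congrArg _ hp).trans (map_zero _)
    · obtain ⟨j, x, hx⟩ := exists_stage_preimage f D η y
      exact ⟨(EtCoh.stalk η).map (colimit.ι (D ⋙ shriek f) j) x, (hι j x).trans hx⟩
  exact preservesColimit_of_isIso_post (shriek f) D

theorem lowerShriek_leftExact_filtered [IsSeparated f] :
    PreservesFiniteLimits (EtShriek.lowerShriek f) ∧
      PreservesFilteredColimitsOfSize.{u, u} (EtShriek.lowerShriek f) := by
  haveI := shriek_preservesFilteredColimits f
  refine ⟨lowerShriek_preservesFiniteLimits f, ⟨fun J _ _ => ?_⟩⟩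
  exact preservesColimitsOfShape_of_natIso (shriekIso f).symm

end Groth.Agent.Shriek
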