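import Groth.Agent.Shriek.LocGiven
import Groth.Agent.Shriek.Comp
import Groth.Agent.Shriek.Etale
import Mathlib

/-! realising locally given families through a compactification -/

set_option autoImplicit false

universe u

open CategoryTheory CategoryTheory.Limits AlgebraicGeometry Opposite

noncomputable section

set_option backward.isDefEq.respectTransparency false
set_option backward.isDefEq.respectTransparency.types false

namespace Groth.Agent.Shriek

open Groth.Agent.EtFound Groth.Agent.H0PBC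

variable {P Zb S : Scheme.{u}} (j : P ⟶ Zb) [IsOpenImmersion j] (fb : Zb ⟶ S) [IsProper fb]
  {Ω : Type u} [Field Ω] [IsAlgClosed Ω] (η : Spec (CommRingCat.of Ω) ⟶ S) (G : EtCoh.Ab P)

theorem bcPt_comp (z : PtsOver (j ≫ fb) η) (V : S.Etale) (v : (Scheme.pointSmallEtale η).fiber.obj V) :
    (bcPt (j ≫ fb) η z V v).left ≫ (bcC j fb V).hom.left =
      (bcPt j (z.1 ≫ j) ⟨z.1, rfl⟩ ((EtCoh.bc fb).obj V)
        (bcPt fb η ⟨z.1 ≫ j, (Category.assoc _ _ _).trans z.2⟩ V v)).left := by
  refine pullback.hom_ext ?_ ?_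
  · refine pullback.hom_ext ?_ ?_
    · refine (Category.assoc _ _ _).trans ?_
      refine Eq.trans ?_ (congrArg (· ≫ EtShriek.prV fb V) (pullback.lift_fst _ _ _)).symm
      refine (Category.assoc _ _ _).trans ?_
      refine (congrArg ((bcPt (j ≫ fb) η z V v).left ≫ ·) (bcC_prV j fb V)).trans ?_
      exact (pullback.lift_fst _ _ _).trans (pullback.lift_fst _ _ _).symm
    · have e2 : ∀ (q : Spec (CommRingCat.of Ω) ⟶ ((EtCoh.bc j).obj ((EtCoh.bc fb).obj V)).left),
          q ≫ ((EtCoh.bc j).obj ((EtCoh.bc fb).obj V)).hom = z.1 →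
          (q ≫ EtShriek.prV j ((EtCoh.bc fb).obj V)) ≫ pullback.snd V.hom fb = z.1 ≫ j := fun q hq => by
        refine (Category.assoc _ _ _).trans ?_
        refine (congrArg (q ≫ ·) pullback.condition).trans ?_
        exact (Category.assoc _ _ _).symm.trans (congrArg (· ≫ j) hq)
      refine (e2 _ ?_).trans (e2 _ ?_).symm
      · refine (Category.assoc _ _ _).trans ?_
        exact (congrArg ((bcPt (j ≫ fb) η z V v).left ≫ ·) (MorphismProperty.Over.w (bcC j fb V).hom)).trans
          (CategoryTheory.Over.w (bcPt (j ≫ fb) η z V v))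
      · exact CategoryTheory.Over.w (bcPt j _ ⟨z.1, rfl⟩ ((EtCoh.bc fb).obj V)
          (bcPt fb η ⟨z.1 ≫ j, (Category.assoc _ _ _).trans z.2⟩ V v))
  · refine (Category.assoc _ _ _).trans ?_
    exact ((congrArg ((bcPt (j ≫ fb) η z V v).left ≫ ·) (MorphismProperty.Over.w (bcC j fb V).hom)).trans
      (CategoryTheory.Over.w (bcPt (j ≫ fb) η z V v))).trans
      (CategoryTheory.Over.w (bcPt j _ ⟨z.1, rfl⟩ ((EtCoh.bc fb).obj V)
        (bcPt fb η ⟨z.1 ≫ j, (Category.assoc _ _ _).trans z.2⟩ V v))).symm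

/-- the point of the fibre of a composite over a point of the open piece -/
abbrev compPt {zb : PtsOver fb η} (w : PtsOver j zb.1) : PtsOver (j ≫ fb) η :=
  ⟨w.1, by rw [← Category.assoc, w.2, zb.2]⟩

theorem realise_compactified (c : ∀ z : PtsOver (j ≫ fb) η, (EtCoh.stalk z.1).obj G)
    (hc : LocGiven (j ≫ fb) η G c) (hs : ProperlySupported (j ≫ fb) η G c) :
    ∃ d, ∀ z, evalAt (j ≫ fb) η G z d = c z := by
  classical
  obtain ⟨C, hC, hCc⟩ := hs
  haveI := locallyQuasiFinite_of_etale j
  haveI : ∀ zb : Spec (CommRingCat.of Ω) ⟶ Zb, Subsingleton (PtsOver j zb) := fun zb =>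
    ⟨fun a b => Subtype.ext ((cancel_mono j).1 (a.2.trans b.2.symm))⟩
  choose cb hcb using fun zb : PtsOver fb η => exists_evalAt_single' j zb.1 G (fun w => c (compPt j fb η w))
  let m : pullback (j ≫ fb) η ⟶ pullback fb η :=
    pullback.lift (pullback.fst _ _ ≫ j) (pullback.snd _ _) (by rw [Category.assoc]; exact pullback.condition)
  have hm₂ : m ≫ pullback.snd fb η = pullback.snd (j ≫ fb) η := pullback.lift_snd _ _ _
  have hCb : IsClosed (m.base '' C) := by
    haveI : LocallyOfFiniteType m := by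
      haveI : LocallyOfFiniteType (m ≫ pullback.snd fb η) := by rw [hm₂]; infer_instance
      exact locallyOfFiniteType_of_comp m (pullback.snd fb η)
    rw [← hm₂] at hC
    exact (isProperOver_of_comp m (pullback.snd fb η) hC).2.1
  have hmpt : ∀ {zb : PtsOver fb η} (w : PtsOver j zb.1),
      m.base (fibrePt (j ≫ fb) (compPt j fb η w).2) = fibrePt fb zb.2 := fun {zb} w => by
    refine (Scheme.Hom.comp_apply _ _ _).symm.trans (congrArg (fun q : Spec (CommRingCat.of Ω) ⟶ pullback fb η =>
      q.base default) (pullback.hom_ext ?_ ?_))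
    · rw [Category.assoc, pullback.lift_fst, pullback.lift_fst_assoc, pullback.lift_fst]
      exact w.2
    · rw [Category.assoc, hm₂, pullback.lift_snd, pullback.lift_snd]
  have hloc : LocGiven fb η ((shriek j).obj G) cb := by
    intro zb₀
    by_cases h : pt₀ zb₀.1 ∈ Set.range j.base
    · obtain ⟨z₁, hz₁⟩ : ∃ z₁, z₁ ≫ j = zb₀.1 := ⟨IsOpenImmersion.lift j zb₀.1 (by
        rintro _ ⟨b, rfl⟩
        rw [Subsingleton.elim b default]
        exact h), IsOpenImmersion.lift_fac _ _ _⟩
      let w₀ : PtsOver j zb₀.1 := ⟨z₁, hz₁⟩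
      obtain ⟨U, a₀, ha₀, s, Et, hmem, hEt⟩ := hc (compPt j fb η w₀)
      let Ub : Zb.Etale := (EtShriek.compEtale j).obj U
      let q := pullback.snd Ub.hom (pullback.fst fb η)
      let n₂ : pullback Ub.hom (pullback.fst fb η) ⟶ pullback (j ≫ fb) η :=
        pullback.lift (pullback.fst Ub.hom (pullback.fst fb η) ≫ U.hom) (q ≫ pullback.snd fb η) (by
          refine (Category.assoc _ _ _).trans ?_
          rw [← Category.assoc U.hom j fb]
          refine (Category.assoc _ _ _).symm.trans ((congrArg (· ≫ fb) pullback.condition).trans ?_)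
          rw [Category.assoc, pullback.condition, ← Category.assoc])
      let n : pullback Ub.hom (pullback.fst fb η) ⟶ pullback U.hom (pullback.fst (j ≫ fb) η) :=
        pullback.lift (pullback.fst Ub.hom (pullback.fst fb η)) n₂ (pullback.lift_fst _ _ _).symm
      have hn : ∀ (zb : PtsOver fb η) (w : PtsOver j zb.1) (a : Spec (CommRingCat.of Ω) ⟶ U.left)
          (ha : a ≫ U.hom = w.1) (ha' : a ≫ Ub.hom = zb.1),
          pullback.lift a (fibreSect fb zb) (ha'.trans (pullback.lift_fst _ _ _).symm) ≫ n =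
            pullback.lift a (fibreSect (j ≫ fb) (compPt j fb η w)) (ha.trans (pullback.lift_fst _ _ _).symm) := by
        intro zb w a ha ha'
        have hlift : ∀ {T : Scheme.{u}} (x : T ⟶ pullback Ub.hom (pullback.fst fb η)),
            x ≫ n ≫ pullback.fst _ _ = x ≫ pullback.fst _ _ ∧
              x ≫ n ≫ pullback.snd _ _ ≫ pullback.fst _ _ = (x ≫ pullback.fst _ _) ≫ U.hom ∧
              x ≫ n ≫ pullback.snd _ _ ≫ pullback.snd _ _ = (x ≫ pullback.snd _ _) ≫ pullback.snd fb η := fun x =>
          ⟨congrArg (x ≫ ·) (pullback.lift_fst _ _ _),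
            (congrArg (x ≫ ·) ((pullback.lift_snd_assoc _ _ _ _).trans (pullback.lift_fst _ _ _))).trans
              (Category.assoc _ _ _).symm,
            (congrArg (x ≫ ·) ((pullback.lift_snd_assoc _ _ _ _).trans (pullback.lift_snd _ _ _))).trans
              (Category.assoc _ _ _).symm⟩
        obtain ⟨e1, e2, e3⟩ := hlift (pullback.lift a (fibreSect fb zb) (ha'.trans (pullback.lift_fst _ _ _).symm))
        refine pullback.hom_ext ?_ (pullback.hom_ext ?_ ?_)
        · exact (Category.assoc _ _ _).trans ((e1.trans (pullback.lift_fst _ _ _)).trans (pullback.lift_fst _ _ _).symm)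
        · simp only [Category.assoc]
          refine (e2.trans ((congrArg (· ≫ U.hom) (pullback.lift_fst _ _ _)).trans ha)).trans ?_
          exact ((pullback.lift_snd_assoc _ _ _ _).trans (pullback.lift_fst _ _ _)).symm
        · simp only [Category.assoc]
          refine (e3.trans ((congrArg (· ≫ pullback.snd fb η) (pullback.lift_snd _ _ _)).trans
            (pullback.lift_snd _ _ _))).trans ?_
          exact ((pullback.lift_snd_assoc _ _ _ _).trans (pullback.lift_snd _ _ _)).symm
      have ha₀' : a₀ ≫ Ub.hom = zb₀.1 := by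
        show a₀ ≫ U.hom ≫ j = zb₀.1
        rw [← Category.assoc, ha₀]
        exact hz₁
      refine ⟨Ub, a₀, ha₀', mkSect j (graphSect j G s) (PS_graphSect j G s), n ⁻¹ᵁ Et, ?_, ?_⟩
      · show n.base _ ∈ Et
        refine Set.mem_of_eq_of_mem ?_ hmem
        exact (Scheme.Hom.comp_apply _ _ _).symm.trans
          (congrArg (fun q : Spec (CommRingCat.of Ω) ⟶ _ => q.base default) (hn zb₀ w₀ a₀ ha₀ ha₀'))
      · intro zb a ha hmema
        refine sub_eq_zero.1 (eq_zero_of_evalAt_lft j zb.1 G _ fun w => ?_)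
        rw [map_sub, hcb zb w, sub_eq_zero]
        have haw : a ≫ U.hom = w.1 := (cancel_mono j).1 ((Category.assoc _ _ _).trans (ha.trans w.2.symm))
        refine (evalAt_germ' j zb.1 G w Ub (CategoryTheory.Over.homMk a ha) _).trans ?_
        refine Eq.trans ?_ (hEt (compPt j fb η w) a haw ?_)
        · conv_rhs => rw [← graphSect_gam j G s]
          refine (germ_map G (gam j U) (graphSect j G s) w.1 a haw _ _ ?_).symm
          refine pullback.hom_ext ?_ ?_
          · exact (Category.assoc _ _ _).trans ((congrArg (a ≫ ·) (gam_prV j U)).trans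
              ((Category.comp_id a).trans (pullback.lift_fst _ _ _).symm))
          · exact (Category.assoc _ _ _).trans ((congrArg (a ≫ ·) (pullback.lift_snd _ _ _)).trans
              (haw.trans (pullback.lift_snd _ _ _).symm))
        · refine Set.mem_of_eq_of_mem ?_ (show n.base _ ∈ Et from hmema)
          exact (congrArg (fun q : Spec (CommRingCat.of Ω) ⟶ _ => q.base default) (hn zb w a haw ha)).symm.trans
            (Scheme.Hom.comp_apply _ _ _)
    · let O : (pullback (EtCoh.top Zb).hom (pullback.fst fb η)).Opens :=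
        pullback.snd (EtCoh.top Zb).hom (pullback.fst fb η) ⁻¹ᵁ ⟨(m.base '' C)ᶜ, hCb.isOpen_compl⟩
      have hO : ∀ (zb : PtsOver fb η) (a : Spec (CommRingCat.of Ω) ⟶ (EtCoh.top Zb).left)
          (ha : a ≫ (EtCoh.top Zb).hom = zb.1),
          pullback.lift a (fibreSect fb zb) (ha.trans (pullback.lift_fst _ _ _).symm) default ∈ O ↔
            fibrePt fb zb.2 ∉ m.base '' C := fun zb a ha => by
        show (pullback.snd (EtCoh.top Zb).hom (pullback.fst fb η)).base _ ∈ (m.base '' C)ᶜ ↔ _
        rw [← Scheme.Hom.comp_apply, pullback.lift_snd]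
        rfl
      refine ⟨EtCoh.top Zb, zb₀.1, Category.comp_id _, 0, O, (hO zb₀ zb₀.1 (Category.comp_id _)).2 ?_, fun zb a ha hmema => ?_⟩
      · rintro ⟨x, -, hx⟩
        refine h ⟨(pullback.fst (j ≫ fb) η).base x, ?_⟩
        have h1 := congrArg (pullback.fst fb η).base hx
        rw [← Scheme.Hom.comp_apply, pullback.lift_fst, Scheme.Hom.comp_apply] at h1
        refine h1.trans ((Scheme.Hom.comp_apply _ _ _).symm.trans ?_)
        rw [pullback.lift_fst]
      · refine (map_zero _).trans (eq_zero_of_evalAt_lft j zb.1 G _ fun w => ?_).symm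
        rw [hcb]
        by_contra hw
        exact (hO zb a ha).1 hmema ⟨_, hCc _ hw, hmpt w⟩
  obtain ⟨p, hp⟩ := exists_preimage_proper fb ((shriek j).obj G) cb hloc
  obtain ⟨V, v, σ, rfl⟩ := (Scheme.pointSmallEtale η).toPresheafFiber_jointly_surjective p
  haveI : IsProper (EtShriek.prV fb V) := MorphismProperty.pullback_fst _ _ ‹_›
  let ts : EtCoh.sect ((shriek fb).obj ((shriek j).obj G)) V :=
    mkSect fb σ ⟨isClosed_sectSupp ((shriek j).obj G) σ, by infer_instance⟩
  refine ⟨(Scheme.pointSmallEtale η).toPresheafFiber V v ((shriek (j ≫ fb)).obj G).obj (compEquiv j fb G V ts),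
    fun z => ?_⟩
  let zb : PtsOver fb η := ⟨z.1 ≫ j, (Category.assoc _ _ _).trans z.2⟩
  let w : PtsOver j zb.1 := ⟨z.1, rfl⟩
  have hσ : (Scheme.pointSmallEtale zb.1).toPresheafFiber ((EtCoh.bc fb).obj V) (bcPt fb η zb V v)
      ((shriek j).obj G).obj σ = cb zb :=
    (pushStalkAt_germ_apply fb zb.2 ((shriek j).obj G) v σ).symm.trans (hp zb)
  refine (evalAt_germ' (j ≫ fb) η G z V v _).trans ?_
  refine (germ_map G (bcC j fb V).hom σ.1 z.1 _ (CategoryTheory.Over.w (bcPt (j ≫ fb) η z V v))
    (bcPt j zb.1 w ((EtCoh.bc fb).obj V) (bcPt fb η zb V v)).left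
    (CategoryTheory.Over.w (bcPt j zb.1 w _ (bcPt fb η zb V v))) (bcPt_comp j fb η z V v)).trans ?_
  refine (evalAt_germ' j zb.1 G w _ (bcPt fb η zb V v) σ).symm.trans ?_
  rw [hσ, hcb]

end Groth.Agent.Shriek
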