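import Groth.Agent.Shriek.FibreInj
import Groth.Agent.H0PBC.Datum
import Groth.Agent.LocCohLib.ExciseSect
import Mathlib

/-! descending sections along proper surjective morphisms -/

set_option autoImplicit false

universe u

open CategoryTheory CategoryTheory.Limits AlgebraicGeometry Opposite

noncomputable section

set_option backward.isDefEq.respectTransparency false
set_option backward.isDefEq.respectTransparency.types false

namespace Groth.Agent.Shriek

open LocCohLib.ExciseSect Groth.Agent.EtFound Groth.Agent.H0PBC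

variable {P X : Scheme.{u}} (π : P ⟶ X) (F : EtCoh.Ab X)

theorem pullSect_res {U V : X.Etale} (k : V ⟶ U) (s : EtCoh.sect F U) :
    pullSect π F (F.obj.map k.op s) =
      ((EtCoh.pull π).obj F).obj.map ((EtCoh.bc π).map k).op (pullSect π F s) :=
  NatTrans.naturality_apply (((EtCoh.bc π).sheafAdjunctionContinuous AddCommGrpCat.{u + 1}
    X.smallEtaleTopology P.smallEtaleTopology).unit.app F).hom k.op s

theorem pullSect_sub {U : X.Etale} (s t : EtCoh.sect F U) :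
    pullSect π F (s - t) = pullSect π F s - pullSect π F t :=
  map_sub ((((EtCoh.bc π).sheafAdjunctionContinuous AddCommGrpCat.{u + 1}
    X.smallEtaleTopology P.smallEtaleTopology).unit.app F).hom.app (op U)).hom s t

theorem pullSect_zero {U : X.Etale} : pullSect π F (0 : EtCoh.sect F U) = 0 :=
  map_zero ((((EtCoh.bc π).sheafAdjunctionContinuous AddCommGrpCat.{u + 1}
    X.smallEtaleTopology P.smallEtaleTopology).unit.app F).hom.app (op U)).hom

theorem bcPt_map_left {Ω : Type u} [Field Ω] [IsSepClosed Ω] {ζ : Spec (CommRingCat.of Ω) ⟶ X}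
    (ξ : PtsOver π ζ) {U V : X.Etale} (k : V ⟶ U) (v : (Scheme.pointSmallEtale ζ).fiber.obj V) :
    (bcPt π ζ ξ V v).left ≫ ((EtCoh.bc π).map k).left =
      (bcPt π ζ ξ U ((Scheme.pointSmallEtale ζ).fiber.map k v)).left :=
  congrArg CommaMorphism.left (bcPt_map π ζ ξ k v)

variable {W : X.Etale} (τ : EtCoh.sect ((EtCoh.pull π).obj F) ((EtCoh.bc π).obj W))

/-- where a section upstairs comes from below -/
def descLocus : W.left.Opens :=
  ⟨⋃ (W' : X.Etale) (k : W' ⟶ W) (s : EtCoh.sect F W')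
      (_ : ((EtCoh.pull π).obj F).obj.map ((EtCoh.bc π).map k).op τ = pullSect π F s), Set.range k.left.base,
    isOpen_iUnion fun _ => isOpen_iUnion fun k => isOpen_iUnion fun _ => isOpen_iUnion fun _ => by
      haveI := EtFound.etale_left k
      exact (Scheme.Hom.isOpenMap k.left).isOpen_range⟩

theorem mem_descLocus_of_kill {W' : X.Etale} (k : W' ⟶ W)
    (h : ((EtCoh.pull π).obj F).obj.map ((EtCoh.bc π).map k).op τ = 0) (x : W'.left) :
    k.left.base x ∈ descLocus π F τ := by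
  refine Set.mem_iUnion.2 ⟨W', Set.mem_iUnion.2 ⟨k, Set.mem_iUnion.2 ⟨0, Set.mem_iUnion.2 ⟨?_, x, rfl⟩⟩⟩⟩
  rw [h, pullSect_zero]

variable [LocallyOfFiniteType π] [UniversallyClosed (EtShriek.prV π W)]
  {Ω : Type u} [Field Ω] [IsAlgClosed Ω] (ζ : Spec (CommRingCat.of Ω) ⟶ X)
  (u : (Scheme.pointSmallEtale ζ).fiber.obj W)

theorem mem_descLocus (y : (EtCoh.stalk ζ).obj F)
    (h : ∀ ξ : PtsOver π ζ, germ ((EtCoh.pull π).obj F) τ ξ.1 (bcPt π ζ ξ W u).left
      (CategoryTheory.Over.w (bcPt π ζ ξ W u)) = toPullStalk π F ξ.1 ζ ξ.2 y) :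
    pt₀ u.left ∈ descLocus π F τ := by
  obtain ⟨W₁, u₁, s₁, rfl⟩ := (Scheme.pointSmallEtale ζ).toPresheafFiber_jointly_surjective y
  let W₂ : X.Etale := prodEt W W₁
  let ul : Spec (CommRingCat.of Ω) ⟶ W.left := u.left
  let ul₁ : Spec (CommRingCat.of Ω) ⟶ W₁.left := u₁.left
  let u₂ : (Scheme.pointSmallEtale ζ).fiber.obj W₂ := CategoryTheory.Over.homMk
    (pullback.lift ul ul₁ ((CategoryTheory.Over.w u).trans (CategoryTheory.Over.w u₁).symm)) (by
      show _ ≫ pullback.fst W.hom W₁.hom ≫ W.hom = ζ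
      rw [pullback.lift_fst_assoc]
      exact CategoryTheory.Over.w u)
  have hu : (Scheme.pointSmallEtale ζ).fiber.map (prodEtFst W W₁) u₂ = u :=
    CategoryTheory.Over.OverMorphism.ext (pullback.lift_fst _ _ _)
  have hu₁ : (Scheme.pointSmallEtale ζ).fiber.map (prodEtSnd W W₁) u₂ = u₁ :=
    CategoryTheory.Over.OverMorphism.ext (pullback.lift_snd _ _ _)
  let G := (EtCoh.pull π).obj F
  let δ : EtCoh.sect G ((EtCoh.bc π).obj W₂) :=
    G.obj.map ((EtCoh.bc π).map (prodEtFst W W₁)).op τ - pullSect π F (F.obj.map (prodEtSnd W W₁).op s₁)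
  haveI : UniversallyClosed (EtShriek.prV π W₂) :=
    MorphismProperty.of_isPullback (P := @UniversallyClosed) (EtCoh.isPullback_bc_map π (prodEtFst W W₁)) ‹_›
  have hsupp : ∀ p ∈ EtShriek.sectSupp G _ δ, (EtShriek.prV π W₂).base p ≠ pt₀ u₂.left := by
    intro p hp hpu
    obtain ⟨ξ, hξ, hm⟩ := Groth.Agent.BigSiteLib.DescSec.exists_liftPt_mem π u₂ (isClosed_sectSupp G δ) p hp hpu
    refine (germ_eq_zero_iff G (bcPt π ζ ⟨ξ, hξ⟩ W₂ u₂) δ).1 ?_ hm
    show germ G δ ξ (bcPt π ζ ⟨ξ, hξ⟩ W₂ u₂).left (CategoryTheory.Over.w (bcPt π ζ ⟨ξ, hξ⟩ W₂ u₂)) = 0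
    refine (map_sub _ _ _).trans (sub_eq_zero.2 ?_)
    refine ((germ_map G ((EtCoh.bc π).map (prodEtFst W W₁)) τ ξ _ _ _
      (CategoryTheory.Over.w (bcPt π ζ ⟨ξ, hξ⟩ W u)) ?_).trans (h ⟨ξ, hξ⟩)).trans ?_
    · exact (bcPt_map_left π ⟨ξ, hξ⟩ (prodEtFst W W₁) u₂).trans (by rw [hu])
    · refine Eq.trans ?_ (germ_pullSect π F ξ ζ hξ (F.obj.map (prodEtSnd W W₁).op s₁) _ _
        u₂.left (CategoryTheory.Over.w u₂) (pullback.lift_fst _ _ _)).symm
      refine congrArg (toPullStalk π F ξ ζ hξ) ?_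
      refine ((Scheme.pointSmallEtale ζ).toPresheafFiber_w_apply (prodEtSnd W W₁) u₂ F.obj s₁).trans ?_ |>.symm
      rw [hu₁]
      rfl
  let N : W₂.left.Opens := ⟨((EtShriek.prV π W₂).base '' EtShriek.sectSupp G _ δ)ᶜ,
    ((EtShriek.prV π W₂).isClosedMap _ (isClosed_sectSupp G δ)).isOpen_compl⟩
  have hN : pt₀ u₂.left ∈ N := by
    rintro ⟨p, hp, e⟩
    exact hsupp p hp e
  let k := opnι W₂ N ≫ prodEtFst W W₁
  refine Set.mem_iUnion.2 ⟨opn W₂ N, Set.mem_iUnion.2 ⟨k, Set.mem_iUnion.2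
    ⟨F.obj.map (opnι W₂ N ≫ prodEtSnd W W₁).op s₁, Set.mem_iUnion.2 ⟨?_, ⟨⟨_, hN⟩, ?_⟩⟩⟩⟩⟩
  · simp only [k, op_comp, Functor.map_comp, ConcreteCategory.comp_apply]
    rw [pullSect_res π F (opnι W₂ N), ← sub_eq_zero, ← map_sub]
    refine eq_zero_of_supp G _ ?_
    rw [sectSupp_map_eq]
    refine Set.eq_empty_iff_forall_notMem.2 fun q hq => ?_
    have e := congrArg (fun g => g.base q) (EtCoh.isPullback_bc_map π (opnι W₂ N)).w
    simp only [Scheme.Hom.comp_apply] at e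
    exact ((EtShriek.prV π (opn W₂ N)).base q).2 ⟨_, hq, e⟩
  · refine (congrArg (prodEtFst W W₁).left.base (rfl : (opnι W₂ N).left.base ⟨_, hN⟩ = pt₀ u₂.left)).trans ?_
    exact (Scheme.Hom.comp_apply _ _ _).symm.trans (congrArg (fun w => pt₀ w.left) hu)

omit [UniversallyClosed (EtShriek.prV π W)]

theorem exists_descend [Surjective (EtShriek.prV π W)] :
    ∃ σ : EtCoh.sect F (opn W (descLocus π F τ)),
      pullSect π F σ = ((EtCoh.pull π).obj F).obj.map ((EtCoh.bc π).map (opnι W (descLocus π F τ))).op τ := by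
  let B := descLocus π F τ
  let G := (EtCoh.pull π).obj F
  have hB : ∀ x : B.toScheme, ∃ (W' : X.Etale) (k : W' ⟶ opn W B) (s : EtCoh.sect F W'),
      G.obj.map ((EtCoh.bc π).map (k ≫ opnι W B)).op τ = pullSect π F s ∧ x ∈ Set.range k.left.base := by
    intro x
    obtain ⟨W', hW'⟩ := Set.mem_iUnion.1 x.2
    obtain ⟨k, hk⟩ := Set.mem_iUnion.1 hW'
    obtain ⟨s, hs⟩ := Set.mem_iUnion.1 hk
    obtain ⟨hτ, z, hz⟩ := Set.mem_iUnion.1 hs
    have hr : Set.range k.left.base ⊆ Set.range B.ι.base := by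
      rintro _ ⟨b, rfl⟩
      rw [Scheme.Opens.range_ι]
      exact Set.mem_iUnion.2 ⟨W', Set.mem_iUnion.2 ⟨k, Set.mem_iUnion.2 ⟨s, Set.mem_iUnion.2 ⟨hτ, b, rfl⟩⟩⟩⟩
    let k' : W' ⟶ opn W B := MorphismProperty.Over.homMk (IsOpenImmersion.lift B.ι k.left hr) (by
      show IsOpenImmersion.lift B.ι k.left hr ≫ B.ι ≫ W.hom = W'.hom
      rw [IsOpenImmersion.lift_fac_assoc]
      exact MorphismProperty.Over.w k) trivial
    have hk' : k' ≫ opnι W B = k := MorphismProperty.Over.Hom.ext (IsOpenImmersion.lift_fac _ _ _)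
    refine ⟨W', k', s, by rw [hk']; exact hτ, z, B.ι.isOpenEmbedding.injective ?_⟩
    exact (Scheme.Hom.comp_apply (IsOpenImmersion.lift B.ι k.left hr) B.ι z).symm.trans
      ((congrArg (fun g : W'.left ⟶ W.left => g.base z) (IsOpenImmersion.lift_fac B.ι k.left hr)).trans hz)
  choose W' k s hks hx using hB
  obtain ⟨σ, hσ⟩ := exists_glue F k (fun x => ⟨x, hx x⟩) s fun x y K _ _ ξ a ha b hb hab => by
    refine (mem_agree_iff F (s x) (s y) ξ a ha b hb).1 ?_
    let Ωa := AlgebraicClosure K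
    let l : Spec (CommRingCat.of Ωa) ⟶ Spec (CommRingCat.of K) :=
      Spec.map (CommRingCat.ofHom (algebraMap K Ωa))
    let ζ := l ≫ ξ
    have ha' : (l ≫ a) ≫ (W' x).hom = ζ := (Category.assoc _ _ _).trans (congrArg (l ≫ ·) ha)
    have hb' : (l ≫ b) ≫ (W' y).hom = ζ := (Category.assoc _ _ _).trans (congrArg (l ≫ ·) hb)
    suffices hgerm : germ F (s x) ζ (l ≫ a) ha' = germ F (s y) ζ (l ≫ b) hb' by
      have := (mem_agree_iff F (s x) (s y) ζ _ ha' _ hb').2 hgerm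
      refine Set.mem_of_eq_of_mem ?_ this
      have e : pullback.lift (l ≫ a) (l ≫ b) (ha'.trans hb'.symm) = l ≫ pullback.lift a b (ha.trans hb.symm) :=
        pullback.hom_ext (by simp) (by simp)
      rw [e, Scheme.Hom.comp_apply, Subsingleton.elim (l default) default]
    have hwW : ((l ≫ a) ≫ (k x ≫ opnι W B).left) ≫ W.hom = ζ := by
      rw [Category.assoc, MorphismProperty.Over.w (k x ≫ opnι W B)]; exact ha'
    let w : (Scheme.pointSmallEtale ζ).fiber.obj W := CategoryTheory.Over.homMk _ hwW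
    obtain ⟨p, hp⟩ := (EtShriek.prV π W).surjective (pt₀ w.left)
    obtain ⟨ξ', hξ', -⟩ := Groth.Agent.BigSiteLib.DescSec.exists_liftPt_mem π w isClosed_univ p (Set.mem_univ p) hp
    refine toPullStalk_injective π F ξ' ζ hξ' ?_
    let wx : (Scheme.pointSmallEtale ζ).fiber.obj (W' x) := CategoryTheory.Over.homMk (l ≫ a) ha'
    let wy : (Scheme.pointSmallEtale ζ).fiber.obj (W' y) := CategoryTheory.Over.homMk (l ≫ b) hb'
    rw [← germ_pullSect π F ξ' ζ hξ' (s x) (bcPt π ζ ⟨ξ', hξ'⟩ (W' x) wx).left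
        (CategoryTheory.Over.w (bcPt π ζ ⟨ξ', hξ'⟩ (W' x) wx)) (l ≫ a) ha' (pullback.lift_fst _ _ _),
      ← germ_pullSect π F ξ' ζ hξ' (s y) (bcPt π ζ ⟨ξ', hξ'⟩ (W' y) wy).left
        (CategoryTheory.Over.w (bcPt π ζ ⟨ξ', hξ'⟩ (W' y) wy)) (l ≫ b) hb' (pullback.lift_fst _ _ _),
      ← hks x, ← hks y]
    refine (germ_map G _ τ ξ' _ _ (bcPt π ζ ⟨ξ', hξ'⟩ W w).left (CategoryTheory.Over.w (bcPt π ζ ⟨ξ', hξ'⟩ W w))
      (bcPt_map_left π ⟨ξ', hξ'⟩ (k x ≫ opnι W B) wx)).trans (germ_map G _ τ ξ' _ _ _ _ ?_).symm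
    refine (bcPt_map_left π ⟨ξ', hξ'⟩ (k y ≫ opnι W B) wy).trans (congrArg (fun v => (bcPt π ζ ⟨ξ', hξ'⟩ W v).left) ?_)
    refine CategoryTheory.Over.OverMorphism.ext ?_
    show (l ≫ b) ≫ (k y).left ≫ (opnι W B).left = (l ≫ a) ≫ (k x).left ≫ (opnι W B).left
    simp only [Category.assoc]
    rw [reassoc_of% hab]
  refine ⟨σ, sub_eq_zero.1 (eq_zero_of_supp G _ (Set.eq_empty_iff_forall_notMem.2 fun q hq => ?_))⟩
  obtain ⟨z, hz⟩ := hx ((EtShriek.prV π (opn W B)).base q)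
  obtain ⟨q', hq', -⟩ := Scheme.Pullback.exists_preimage_pullback (f := EtShriek.prV π (opn W B))
    (g := (k ((EtShriek.prV π (opn W B)).base q)).left) q z hz.symm
  let kx := k ((EtShriek.prV π (opn W B)).base q)
  have sq := EtCoh.isPullback_bc_map π kx
  have hm : sq.isoPullback.inv.base q' ∈ EtShriek.sectSupp G _ (G.obj.map ((EtCoh.bc π).map kx).op
      (pullSect π F σ - G.obj.map ((EtCoh.bc π).map (opnι W B)).op τ)) := by
    rw [sectSupp_map_eq, Set.mem_preimage, ← Scheme.Hom.comp_apply, IsPullback.isoPullback_inv_fst, hq']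
    exact hq
  have h0 : G.obj.map ((EtCoh.bc π).map kx).op
      (pullSect π F σ - G.obj.map ((EtCoh.bc π).map (opnι W B)).op τ) = 0 := by
    rw [map_sub, ← pullSect_res π F kx, hσ, ← ConcreteCategory.comp_apply, ← Functor.map_comp, ← op_comp,
      ← Functor.map_comp, ← hks, sub_self]
  rw [h0, sectSupp_zero] at hm
  exact hm

end Groth.Agent.Shriek
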