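import Groth.Agent.Shriek.Sheaf
import Groth.Agent.EtFound.Germ
import Groth.Agent.EtFound.ExtZeroConstr
import Mathlib

/-! evaluation of stalks of direct images with proper support at the points of the fibre -/

set_option autoImplicit false

universe u

open CategoryTheory CategoryTheory.Limits AlgebraicGeometry Opposite

noncomputable section

set_option backward.isDefEq.respectTransparency false
set_option backward.isDefEq.respectTransparency.types false

namespace Groth.Agent.Shriek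

open LocCohLib.ExciseSect Groth.Agent.EtFound

variable {X : Scheme.{u}} {Ω : Type u} [Field Ω] [IsSepClosed Ω]

/-- the scheme point under a geometric point -/
abbrev pt₀ {U : Scheme.{u}} (p : Spec (CommRingCat.of Ω) ⟶ U) : U := p.base (default : Spec (CommRingCat.of Ω))

theorem germ_eq_zero_iff (F : EtCoh.Ab X) {ζ : Spec (CommRingCat.of Ω) ⟶ X} {U : X.Etale}
    (u : (Scheme.pointSmallEtale ζ).fiber.obj U) (s : EtCoh.sect F U) :
    (Scheme.pointSmallEtale ζ).toPresheafFiber U u F.obj s = 0 ↔ pt₀ u.left ∉ EtShriek.sectSupp F U s := by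
  refine ⟨fun h hs => ?_, fun h => ?_⟩
  · obtain ⟨W, g, w, hw, hws⟩ :=
      ((Scheme.pointSmallEtale ζ).toPresheafFiber_eq_iff' U u s 0).1 (h.trans (map_zero _).symm)
    refine hs W g ⟨pt₀ w.left, ?_⟩ (hws.trans (map_zero _))
    rw [← hw]
    exact (Scheme.Hom.comp_apply _ _ _).symm
  · obtain ⟨W, g, ⟨w, hw⟩, h0⟩ := exists_kill F s _ h
    obtain ⟨v, hv, -⟩ := exists_lift_point g u w hw
    rw [← hv, ← (Scheme.pointSmallEtale ζ).toPresheafFiber_w_apply g v F.obj s, h0, map_zero]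

variable {Y : Scheme.{u}} (f : X ⟶ Y) (ξ : Spec (CommRingCat.of Ω) ⟶ Y)

/-- the point of a base change over a point of the base and one of `X` -/
def bcPt (z : PtsOver f ξ) (V : Y.Etale) (v : (Scheme.pointSmallEtale ξ).fiber.obj V) :
    (Scheme.pointSmallEtale z.1).fiber.obj ((EtCoh.bc f).obj V) :=
  CategoryTheory.Over.homMk
    (pullback.lift (v.left : Spec (CommRingCat.of Ω) ⟶ V.left) z.1 ((CategoryTheory.Over.w v).trans z.2.symm))
    (pullback.lift_snd _ _ _)

theorem bcPt_map (z : PtsOver f ξ) {V V' : Y.Etale} (g : V' ⟶ V) (v : (Scheme.pointSmallEtale ξ).fiber.obj V') :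
    (Scheme.pointSmallEtale z.1).fiber.map ((EtCoh.bc f).map g) (bcPt f ξ z V' v) =
      bcPt f ξ z V ((Scheme.pointSmallEtale ξ).fiber.map g v) := by
  refine CategoryTheory.Over.OverMorphism.ext (pullback.hom_ext ?_ ?_)
  · show (pullback.lift _ _ _ ≫ ((EtCoh.bc f).map g).left) ≫ pullback.fst V.hom f =
      pullback.lift ((v.left : Spec (CommRingCat.of Ω) ⟶ V'.left) ≫ g.left) _ _ ≫ pullback.fst V.hom f
    rw [Category.assoc, (EtCoh.isPullback_bc_map f g).w, pullback.lift_fst_assoc, pullback.lift_fst]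
  · have e : ((EtCoh.bc f).map g).left ≫ pullback.snd V.hom f = pullback.snd V'.hom f :=
      MorphismProperty.Over.w ((EtCoh.bc f).map g)
    show (pullback.lift _ _ _ ≫ ((EtCoh.bc f).map g).left) ≫ pullback.snd V.hom f =
      pullback.lift ((v.left : Spec (CommRingCat.of Ω) ⟶ V'.left) ≫ g.left) _ _ ≫ pullback.snd V.hom f
    rw [Category.assoc, e, pullback.lift_snd, pullback.lift_snd]

variable [LocallyOfFiniteType f] (F : EtCoh.Ab X)

/-- evaluation of the stalk at a point of the fibre -/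
def evalAt (z : PtsOver f ξ) : (EtCoh.stalk ξ).obj ((shriek f).obj F) ⟶ (EtCoh.stalk z.1).obj F :=
  (Scheme.pointSmallEtale ξ).presheafFiberDesc
    (fun V v => ((shriekToPush f).app F).hom.app (op V) ≫
      (Scheme.pointSmallEtale z.1).toPresheafFiber ((EtCoh.bc f).obj V) (bcPt f ξ z V v) F.obj)
    (fun {V V'} g v => by
      refine (Category.assoc _ _ _).symm.trans
        ((congrArg (· ≫ _) (((shriekToPush f).app F).hom.naturality g.op)).trans ?_)
      refine (Category.assoc _ _ _).trans (congrArg (_ ≫ ·) ?_)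
      refine ((Scheme.pointSmallEtale z.1).toPresheafFiber_w ((EtCoh.bc f).map g) (bcPt f ξ z V v) F.obj).trans ?_
      rw [bcPt_map])

theorem evalAt_germ (z : PtsOver f ξ) (V : Y.Etale) (v : (Scheme.pointSmallEtale ξ).fiber.obj V)
    (t : EtCoh.sect ((shriek f).obj F) V) :
    evalAt f ξ F z ((Scheme.pointSmallEtale ξ).toPresheafFiber V v ((shriek f).obj F).obj t) =
      (Scheme.pointSmallEtale z.1).toPresheafFiber ((EtCoh.bc f).obj V) (bcPt f ξ z V v) F.obj t.1 := by
  exact ConcreteCategory.congr_hom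
    (GrothendieckTopology.Point.toPresheafFiber_presheafFiberDesc _ _ _ V v) t

/-- the geometric points of the fibre reach all of its points -/
def PointsReach : Prop :=
  ∀ (V : Y.Etale) (v : (Scheme.pointSmallEtale ξ).fiber.obj V) (p : ((EtCoh.bc f).obj V).left),
    (EtShriek.prV f V).base p = pt₀ v.left → ∃ z : PtsOver f ξ, pt₀ (bcPt f ξ z V v).left = p

theorem prV_bcPt (z : PtsOver f ξ) (V : Y.Etale) (v : (Scheme.pointSmallEtale ξ).fiber.obj V) :
    (EtShriek.prV f V).base (pt₀ (bcPt f ξ z V v).left) = pt₀ v.left := by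
  rw [← Scheme.Hom.comp_apply]
  exact congrArg (fun q : Spec (CommRingCat.of Ω) ⟶ V.left => q.base default) (pullback.lift_fst _ _ _)

theorem eq_zero_of_evalAt (H : PointsReach f ξ) (d : (EtCoh.stalk ξ).obj ((shriek f).obj F))
    (h : ∀ z, evalAt f ξ F z d = 0) : d = 0 := by
  obtain ⟨V, v, t, rfl⟩ := (Scheme.pointSmallEtale ξ).toPresheafFiber_jointly_surjective d
  refine (germ_eq_zero_iff _ v t).2 fun hv => ?_
  rw [supp_shriek] at hv
  obtain ⟨p, hp, hpv⟩ := hv
  obtain ⟨z, hz⟩ := H V v p hpv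
  exact (germ_eq_zero_iff F (bcPt f ξ z V v) t.1).1 ((evalAt_germ f ξ F z V v t).symm.trans (h z)) (hz ▸ hp)

theorem pointsReach_of_etale [AlgebraicGeometry.Etale f] : PointsReach f ξ := by
  intro V v p hp
  haveI : AlgebraicGeometry.Etale (EtShriek.prV f V) := MorphismProperty.pullback_fst _ _ ‹_›
  obtain ⟨l, h1, h2⟩ := Scheme.exists_fac_of_etale_of_isSepClosed (EtShriek.prV f V)
    (v.left : Spec (CommRingCat.of Ω) ⟶ V.left) p hp
  have hl : (l ≫ pullback.snd V.hom f) ≫ f = ξ := by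
    rw [Category.assoc, ← pullback.condition, ← Category.assoc]
    exact (congrArg (· ≫ V.hom) h1).trans (CategoryTheory.Over.w v)
  refine ⟨⟨l ≫ pullback.snd V.hom f, hl⟩, ?_⟩
  have e : (bcPt f ξ ⟨l ≫ pullback.snd V.hom f, hl⟩ V v).left = l :=
    pullback.hom_ext ((pullback.lift_fst _ _ _).trans h1.symm) (pullback.lift_snd _ _ _)
  exact (congrArg pt₀ e).trans h2

theorem finite_evalAt [AlgebraicGeometry.Etale f] (d : (EtCoh.stalk ξ).obj ((shriek f).obj F)) :
    {z | evalAt f ξ F z d ≠ 0}.Finite := by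
  obtain ⟨V, v, t, rfl⟩ := (Scheme.pointSmallEtale ξ).toPresheafFiber_jointly_surjective d
  obtain ⟨hcl, hp⟩ := PS_of_section f t
  let pr := EtShriek.prV f V
  haveI : AlgebraicGeometry.Etale pr := MorphismProperty.pullback_fst _ _ ‹_›
  let k := (Scheme.IdealSheafData.vanishingIdeal ⟨_, hcl⟩).subschemeι
  haveI : IsProper (k ≫ pr) := hp
  let T : Set ((EtCoh.bc f).obj V).left :=
    k.base '' ((k ≫ pr).base ⁻¹' {pt₀ v.left})
  have hT : IsCompact T :=
    ((k ≫ pr).isProperMap.isCompact_preimage isCompact_singleton).image k.continuous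
  obtain ⟨V₀, hV₀, hv₀, -⟩ := exists_isAffineOpen_mem_and_subset (show pt₀ v.left ∈ (⊤ : V.left.Opens) from trivial)
  let ι := {O : ((EtCoh.bc f).obj V).left.affineOpens // O.1 ≤ pr ⁻¹ᵁ V₀}
  obtain ⟨s, hs⟩ := hT.elim_finite_subcover (fun O : ι => (O.1.1 : Set ((EtCoh.bc f).obj V).left))
    (fun O => O.1.1.2) (by
      rintro x ⟨y, hy, rfl⟩
      have hx : k.base y ∈ pr ⁻¹ᵁ V₀ := by
        show pr.base (k.base y) ∈ V₀
        rw [← Scheme.Hom.comp_apply, show (k ≫ pr).base y = _ from hy]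
        exact hv₀
      obtain ⟨O, hO, hxO, hle⟩ := exists_isAffineOpen_mem_and_subset hx
      exact Set.mem_iUnion.2 ⟨⟨⟨O, hO⟩, hle⟩, hxO⟩)
  have hr₀ : Set.range (v.left : Spec (CommRingCat.of Ω) ⟶ V.left).base ⊆ Set.range V₀.ι.base := by
    rintro _ ⟨a, rfl⟩
    rw [Scheme.Opens.range_ι, Subsingleton.elim (α := Spec (CommRingCat.of Ω)) a default]
    exact hv₀
  let w := IsOpenImmersion.lift V₀.ι (v.left : Spec (CommRingCat.of Ω) ⟶ V.left) hr₀
  let g : ∀ O : ι, O.1.1.toScheme ⟶ V₀.toScheme := fun O => pr.resLE V₀ O.1.1 O.2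
  haveI : ∀ O : ι, AlgebraicGeometry.Etale (g O) := fun O => IsZariskiLocalAtSource.resLE _ ‹_›
  haveI : ∀ O : ι, IsAffine O.1.1.toScheme := fun O => O.1.2
  haveI : IsAffine V₀.toScheme := hV₀
  haveI : ∀ O : ι, Finite (PtsOver (g O) w) := fun O => finite_ptsOver (g O) w
  refine Set.Finite.subset ((s : Set ι).toFinite.biUnion fun O _ =>
    (Set.finite_range fun a : PtsOver (g O) w => a.1 ≫ O.1.1.ι ≫ pullback.snd V.hom f).preimage
      (f := fun z : PtsOver f ξ => z.1) Subtype.val_injective.injOn) ?_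
  intro z hz
  have hsupp : pt₀ (bcPt f ξ z V v).left ∈ EtShriek.sectSupp F _ t.1 := by
    by_contra hn
    exact hz ((evalAt_germ f ξ F z V v t).trans ((germ_eq_zero_iff F _ _).2 hn))
  have hmem : pt₀ (bcPt f ξ z V v).left ∈ T := by
    obtain ⟨y, hy⟩ := (QCoh.range_vanishing hcl).ge hsupp
    refine ⟨y, ?_, hy⟩
    show (k ≫ pr).base y = _
    rw [Scheme.Hom.comp_apply]
    exact (congrArg pr.base hy).trans (prV_bcPt f ξ z V v)
  obtain ⟨O, hO, hzO⟩ := Set.mem_iUnion₂.1 (hs hmem)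
  refine Set.mem_iUnion₂.2 ⟨O, hO, ?_⟩
  have hr : Set.range ((bcPt f ξ z V v).left : Spec (CommRingCat.of Ω) ⟶ _).base ⊆ Set.range O.1.1.ι.base := by
    rintro _ ⟨a, rfl⟩
    rw [Scheme.Opens.range_ι, Subsingleton.elim (α := Spec (CommRingCat.of Ω)) a default]
    exact hzO
  refine ⟨⟨IsOpenImmersion.lift O.1.1.ι _ hr, ?_⟩, ?_⟩
  · rw [← cancel_mono V₀.ι, Category.assoc, Scheme.Hom.resLE_comp_ι, IsOpenImmersion.lift_fac_assoc,
      IsOpenImmersion.lift_fac]
    exact pullback.lift_fst _ _ _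
  · show IsOpenImmersion.lift O.1.1.ι _ hr ≫ O.1.1.ι ≫ pullback.snd V.hom f = z.1
    rw [IsOpenImmersion.lift_fac_assoc]
    exact pullback.lift_snd _ _ _

end Groth.Agent.Shriek
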