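import Groth.Agent.Shriek.Eval
import Groth.Agent.H0PBC.Pull
import Groth.Agent.H0PBC.PushInj
import Groth.Agent.BigSiteLib.EtDescSec.ProperDescent
import Mathlib

/-! stalks of sections with proper support embed in the stalks along the geometric fibre -/

set_option autoImplicit false

universe u

open CategoryTheory CategoryTheory.Limits AlgebraicGeometry Opposite

noncomputable section

set_option backward.isDefEq.respectTransparency false
set_option backward.isDefEq.respectTransparency.types false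

namespace Groth.Agent.Shriek

open Groth.Agent.EtFound Groth.Agent.H0PBC

variable {X : Scheme.{u}} {Ω : Type u} [Field Ω] [IsSepClosed Ω]

theorem germ_eq_zero_iff' (F : EtCoh.Ab X) {U : X.Etale} (s : EtCoh.sect F U) (ξ : Spec (CommRingCat.of Ω) ⟶ X)
    (a : Spec (CommRingCat.of Ω) ⟶ U.left) (ha : a ≫ U.hom = ξ) :
    germ F s ξ a ha = 0 ↔ pt₀ a ∉ EtShriek.sectSupp F U s :=
  germ_eq_zero_iff F (U := U) (CategoryTheory.Over.homMk a ha) s

variable {Y : Scheme.{u}} (f : X ⟶ Y) [LocallyOfFiniteType f]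
  {Ω' : Type u} [Field Ω'] [IsAlgClosed Ω'] (η : Spec (CommRingCat.of Ω') ⟶ Y) (F : EtCoh.Ab X)

theorem evalAt_germ' (z : PtsOver f η) (V : Y.Etale) (v : (Scheme.pointSmallEtale η).fiber.obj V)
    (t : EtCoh.sect ((shriek f).obj F) V) :
    evalAt f η F z ((Scheme.pointSmallEtale η).toPresheafFiber V v ((shriek f).obj F).obj t) =
      germ F t.1 z.1 (bcPt f η z V v).left (CategoryTheory.Over.w (bcPt f η z V v)) :=
  evalAt_germ f η F z V v t

/-- germs of sections with proper support are detected on the geometric fibre -/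
theorem eq_zero_of_evalAt_lft (d : (EtCoh.stalk η).obj ((shriek f).obj F))
    (h : ∀ z, evalAt f η F z d = 0) : d = 0 := by
  obtain ⟨V, v, t, rfl⟩ := (Scheme.pointSmallEtale η).toPresheafFiber_jointly_surjective d
  refine (germ_eq_zero_iff _ v t).2 fun hv => ?_
  rw [supp_shriek] at hv
  obtain ⟨p, hp, hpv⟩ := hv
  obtain ⟨ξ, hξ, hm⟩ := Groth.Agent.BigSiteLib.DescSec.exists_liftPt_mem f v (PS_of_section f t).1 p hp hpv
  exact (germ_eq_zero_iff F (bcPt f η ⟨ξ, hξ⟩ V v) t.1).1
    ((evalAt_germ f η F ⟨ξ, hξ⟩ V v t).symm.trans (h ⟨ξ, hξ⟩)) hm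

end Groth.Agent.Shriek
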