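import Groth.Agent.Shriek.Trace
import Groth.Agent.EtFound.FiniteStalk
import Mathlib

/-! stalks of direct images with proper support along locally quasi-finite separated morphisms -/

set_option autoImplicit false

universe u

open CategoryTheory CategoryTheory.Limits AlgebraicGeometry Opposite

noncomputable section

set_option backward.isDefEq.respectTransparency false
set_option backward.isDefEq.respectTransparency.types false

namespace Groth.Agent.Shriek

open LocCohLib.ExciseSect Groth.Agent.EtFound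

theorem locallyQuasiFinite_of_etale {P Q : Scheme.{u}} (p : P ⟶ Q) [AlgebraicGeometry.Etale p] :
    LocallyQuasiFinite p := by
  rw [HasRingHomProperty.iff_appLE (P := @LocallyQuasiFinite)]
  intro U₀ W₀ e'
  have := HasRingHomProperty.appLE @AlgebraicGeometry.Etale p inferInstance U₀ W₀ e'
  algebraize [(p.appLE U₀.1 W₀.1 e').hom]
  exact (inferInstance : Algebra.QuasiFinite Γ(Q, U₀.1) Γ(P, W₀.1))

variable {X Y : Scheme.{u}} (f : X ⟶ Y) [LocallyOfFiniteType f] [LocallyQuasiFinite f]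
  {Ω : Type u} [Field Ω] [IsAlgClosed Ω] (η : Spec (CommRingCat.of Ω) ⟶ Y) (F : EtCoh.Ab X)

theorem exists_finite_model {V : Y.Etale} (t : EtCoh.sect ((shriek f).obj F) V) :
    ∃ (T : Scheme.{u}) (k : T ⟶ ((EtCoh.bc f).obj V).left), IsClosedImmersion k ∧
      IsFinite (k ≫ EtShriek.prV f V) ∧
      Set.range k.base = EtShriek.sectSupp F ((EtCoh.bc f).obj V) t.1 := by
  obtain ⟨hcl, hp⟩ := PS_of_section f t
  let k := (Scheme.IdealSheafData.vanishingIdeal ⟨_, hcl⟩).subschemeι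
  haveI : IsProper (k ≫ EtShriek.prV f V) := hp
  haveI : LocallyQuasiFinite (EtShriek.prV f V) := MorphismProperty.pullback_fst _ _ ‹_›
  exact ⟨_, k, inferInstance, IsFinite.of_isProper_of_locallyQuasiFinite _, QCoh.range_vanishing hcl⟩

theorem eq_zero_of_evalAt_lqf (d : (EtCoh.stalk η).obj ((shriek f).obj F))
    (h : ∀ z, evalAt f η F z d = 0) : d = 0 := by
  obtain ⟨V, v, t, rfl⟩ := (Scheme.pointSmallEtale η).toPresheafFiber_jointly_surjective d
  refine (germ_eq_zero_iff _ v t).2 fun hv => ?_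
  rw [supp_shriek] at hv
  obtain ⟨p, hp, hpv⟩ := hv
  obtain ⟨T, k, hk, hfin, hr⟩ := exists_finite_model f F t
  obtain ⟨y, rfl⟩ := hr.ge hp
  obtain ⟨l, hl, hly⟩ := exists_fac_of_integral (k ≫ EtShriek.prV f V)
    (v.left : Spec (CommRingCat.of Ω) ⟶ V.left) y ((Scheme.Hom.comp_apply _ _ _).trans hpv)
  let q := l ≫ k
  have hq : q ≫ EtShriek.prV f V = v.left := by rw [Category.assoc]; exact hl
  have hz : (q ≫ pullback.snd V.hom f) ≫ f = η := by
    rw [Category.assoc, ← pullback.condition, ← Category.assoc]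
    exact (congrArg (· ≫ V.hom) hq).trans (CategoryTheory.Over.w v)
  let z : PtsOver f η := ⟨q ≫ pullback.snd V.hom f, hz⟩
  have e : (bcPt f η z V v).left = q :=
    pullback.hom_ext ((pullback.lift_fst _ _ _).trans hq.symm) (pullback.lift_snd _ _ _)
  have hq0 : pt₀ (bcPt f η z V v).left = k.base y :=
    (congrArg pt₀ e).trans ((Scheme.Hom.comp_apply _ _ _).trans (congrArg k.base hly))
  refine (germ_eq_zero_iff F (bcPt f η z V v) t.1).1 ((evalAt_germ f η F z V v t).symm.trans (h z)) ?_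
  rw [hq0]
  exact hp

theorem finite_evalAt_lqf (d : (EtCoh.stalk η).obj ((shriek f).obj F)) :
    {z | evalAt f η F z d ≠ 0}.Finite := by
  obtain ⟨V, v, t, rfl⟩ := (Scheme.pointSmallEtale η).toPresheafFiber_jointly_surjective d
  obtain ⟨T, k, hk, hfin, hr⟩ := exists_finite_model f F t
  haveI := EtFound.finite_points (k ≫ EtShriek.prV f V) (v.left : Spec (CommRingCat.of Ω) ⟶ V.left)
  refine ((Set.finite_range fun l : {l : Spec (CommRingCat.of Ω) ⟶ T //
      l ≫ (k ≫ EtShriek.prV f V) = (v.left : Spec (CommRingCat.of Ω) ⟶ V.left)} =>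
        l.1 ≫ k ≫ pullback.snd V.hom f).preimage
      (f := fun z : PtsOver f η => z.1) Subtype.val_injective.injOn).subset ?_
  intro z hz
  have hsupp : pt₀ (bcPt f η z V v).left ∈ Set.range k.base := by
    rw [hr]
    by_contra hn
    exact hz ((evalAt_germ f η F z V v t).trans ((germ_eq_zero_iff F _ _).2 hn))
  obtain ⟨y, hy⟩ := hsupp
  obtain ⟨l, hl, -⟩ := exists_fac_of_integral k
    ((bcPt f η z V v).left : Spec (CommRingCat.of Ω) ⟶ ((EtCoh.bc f).obj V).left) y hy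
  refine ⟨⟨l, ?_⟩, ?_⟩
  · rw [← Category.assoc, hl]
    exact pullback.lift_fst _ _ _
  · show l ≫ k ≫ pullback.snd V.hom f = z.1
    rw [← Category.assoc, hl]
    exact pullback.lift_snd _ _ _

variable [IsSeparated f]

theorem exists_evalAt_single (z : PtsOver f η) (x : (EtCoh.stalk z.1).obj F) :
    ∃ d, evalAt f η F z d = x ∧ ∀ z', z' ≠ z → evalAt f η F z' d = 0 := by
  obtain ⟨z, hzη⟩ := z
  obtain ⟨Ue, u, a, rfl⟩ := (Scheme.pointSmallEtale z).toPresheafFiber_jointly_surjective x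
  obtain ⟨O, hO, hu, -⟩ :=
    exists_isAffineOpen_mem_and_subset (show pt₀ u.left ∈ (⊤ : Ue.left.Opens) from trivial)
  let W₀ : X.Etale := opn Ue O
  haveI : AlgebraicGeometry.Etale W₀.hom := W₀.prop
  obtain ⟨u', hu', -⟩ := exists_lift_point (opnι Ue O) u ⟨_, hu⟩ rfl
  let g : W₀.left ⟶ Y := W₀.hom ≫ f
  haveI : IsAffine W₀.left := hO
  haveI : IsSeparated g := by
    haveI : IsSeparated (g ≫ terminal.from Y) := by
      have e0 : g ≫ terminal.from Y = terminal.from W₀.left := terminal.hom_ext _ _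
      have h1 : IsSeparated (terminal.from W₀.left) := Scheme.IsSeparated.isSeparated_terminal_from
      exact e0.symm ▸ h1
    exact IsSeparated.of_comp g (terminal.from Y)
  haveI := locallyQuasiFinite_of_etale W₀.hom
  haveI : LocallyQuasiFinite g := inferInstanceAs (LocallyQuasiFinite (W₀.hom ≫ f))
  haveI : LocallyOfFiniteType g := inferInstanceAs (LocallyOfFiniteType (W₀.hom ≫ f))
  let ul : Spec (CommRingCat.of Ω) ⟶ W₀.left := u'.left
  obtain ⟨U₁, c, hc, -, V, -, p, -, hfin, hp⟩ :=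
    exists_etale_isCompl_of_quasiFiniteAt g (x := pt₀ ul) rfl (g.quasiFiniteAt _)
  haveI := hc
  haveI : AlgebraicGeometry.Etale (pullback.fst g c) := MorphismProperty.pullback_fst _ _ hc
  obtain ⟨q, hq, hqp⟩ := Scheme.exists_fac_of_etale_of_isSepClosed (pullback.fst g c) ul p.1 hp
  have hqV : Set.range q.base ⊆ Set.range V.ι.base := by
    rintro _ ⟨b, rfl⟩
    rw [Scheme.Opens.range_ι, Subsingleton.elim b default]
    exact hqp.symm ▸ p.2
  let q₁ := IsOpenImmersion.lift V.ι q hqV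
  let h : V.toScheme ⟶ U₁ := V.ι ≫ pullback.snd g c
  haveI : IsFinite h := hfin
  let π : V.toScheme ⟶ X := V.ι ≫ pullback.fst g c ≫ W₀.hom
  haveI : AlgebraicGeometry.Etale π := inferInstanceAs (AlgebraicGeometry.Etale (V.ι ≫ pullback.fst g c ≫ W₀.hom))
  haveI := EtFound.jCont π
  have hq₁π : q₁ ≫ π = z := by
    show q₁ ≫ V.ι ≫ pullback.fst g c ≫ W₀.hom = z
    rw [IsOpenImmersion.lift_fac_assoc, ← Category.assoc, hq]
    exact CategoryTheory.Over.w u'
  subst hq₁π
  let G := (EtShriek.restrAlong π).obj F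
  let η₁ : Spec (CommRingCat.of Ω) ⟶ U₁ := q₁ ≫ h
  have hη₁ : η₁ ≫ c = η := by
    rw [← hzη]
    show (q₁ ≫ V.ι ≫ pullback.snd g c) ≫ c = (q₁ ≫ V.ι ≫ pullback.fst g c ≫ W₀.hom) ≫ f
    simp only [Category.assoc]
    rw [← pullback.condition (f := g) (g := c)]
  let Ptop : X.Etale := (EtShriek.compEtale π).obj (EtCoh.top V.toScheme)
  let mU : Ptop ⟶ Ue := MorphismProperty.Over.homMk (V.ι ≫ pullback.fst g c ≫ O.ι) (by
    show (V.ι ≫ pullback.fst g c ≫ O.ι) ≫ Ue.hom = 𝟙 _ ≫ π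
    rw [Category.id_comp, Category.assoc, Category.assoc]
    rfl) trivial
  let xP := (Scheme.pointSmallEtale q₁).toPresheafFiber (EtCoh.top V.toScheme)
    (CategoryTheory.Over.homMk q₁ (Category.comp_id _)) G.obj (F.obj.map mU.op a)
  have hxP : restrStalkMap π q₁ F xP = (Scheme.pointSmallEtale (q₁ ≫ π)).toPresheafFiber Ue u F.obj a := by
    refine (restrStalkMap_germ_apply π q₁ F _ _ _).trans ?_
    refine ((Scheme.pointSmallEtale (q₁ ≫ π)).toPresheafFiber_w_apply mU _ F.obj a).trans ?_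
    refine congrArg (fun w => (Scheme.pointSmallEtale (q₁ ≫ π)).toPresheafFiber Ue w F.obj a)
      (CategoryTheory.Over.OverMorphism.ext ?_)
    show q₁ ≫ V.ι ≫ pullback.fst g c ≫ O.ι = u.left
    rw [IsOpenImmersion.lift_fac_assoc, ← Category.assoc, hq, ← hu']
    rfl
  classical
  obtain ⟨p₀, hp₀⟩ := (pushStalkAt_bijective (η := η₁) h G).2 fun ξ =>
    if e : ξ.1 = q₁ then e ▸ xP else 0
  obtain ⟨V₂, v₂, S, rfl⟩ := (Scheme.pointSmallEtale η₁).toPresheafFiber_jointly_surjective p₀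
  have hval : ∀ ξ : {ξ : Spec (CommRingCat.of Ω) ⟶ V.toScheme // ξ ≫ h = η₁},
      (Scheme.pointSmallEtale ξ.1).toPresheafFiber ((EtCoh.bc h).obj V₂) (liftPt h ξ.2 v₂) G.obj S =
        if e : ξ.1 = q₁ then e ▸ xP else 0 := fun ξ =>
    (pushStalkAt_germ_apply h ξ.2 G v₂ S).symm.trans (congrFun hp₀ ξ)
  haveI : AlgebraicGeometry.Etale V₂.hom := V₂.prop
  let V₃ : Y.Etale := (EtShriek.compEtale c).obj V₂
  let v₃ : (Scheme.pointSmallEtale η).fiber.obj V₃ := extLiftPt ⟨η₁, hη₁⟩ V₂ v₂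
  let W₂ : X.Etale := (EtShriek.compEtale π).obj ((EtCoh.bc h).obj V₂)
  let M : X.Etale := (EtCoh.bc f).obj V₃
  let m : W₂ ⟶ M := MorphismProperty.Over.homMk
    (pullback.lift (pullback.fst V₂.hom h) (pullback.snd V₂.hom h ≫ π) (by
      show pullback.fst V₂.hom h ≫ V₂.hom ≫ c = (pullback.snd V₂.hom h ≫ π) ≫ f
      rw [reassoc_of% (pullback.condition (f := V₂.hom) (g := h))]
      simp only [h, π, Category.assoc]
      rw [← pullback.condition (f := g) (g := c)]))
    (pullback.lift_snd _ _ _) trivial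
  have hm₁ : m.left ≫ EtShriek.prV f V₃ = pullback.fst V₂.hom h := pullback.lift_fst _ _ _
  let fstW : W₂.left ⟶ V₃.left := pullback.fst V₂.hom h
  haveI : IsFinite fstW := MorphismProperty.pullback_fst _ _ ‹_›
  haveI : IsSeparated (EtShriek.prV f V₃) := MorphismProperty.pullback_fst _ _ ‹_›
  haveI : IsSeparated (m.left ≫ EtShriek.prV f V₃) := hm₁.symm ▸ inferInstanceAs (IsSeparated fstW)
  haveI : IsSeparated m.left := IsSeparated.of_comp m.left (EtShriek.prV f V₃)
  haveI : LocallyOfFiniteType (m.left ≫ EtShriek.prV f V₃) := hm₁.symm ▸ inferInstanceAs (LocallyOfFiniteType fstW)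
  haveI := etale_left m
  have hSp : ClSub.IsProperOver (m.left ≫ EtShriek.prV f V₃) (EtShriek.sectSupp F W₂ S) := by
    rw [hm₁]
    refine ⟨isClosed_sectSupp F _, ?_⟩
    show IsProper (_ ≫ fstW)
    infer_instance
  obtain ⟨hSm, hSi⟩ := isProperOver_of_comp m.left (EtShriek.prV f V₃) hSp
  obtain ⟨t, ht, htg⟩ := exists_trace F m S hSm
  have htP : PS F f V₃ t := QCoh.IsProperOver.subset hSi (isClosed_sectSupp F t) ht
  refine ⟨(Scheme.pointSmallEtale η).toPresheafFiber V₃ v₃ ((shriek f).obj F).obj (mkSect f t htP), ?_⟩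
  have hlift : ∀ {z' : PtsOver f η} (w : (Scheme.pointSmallEtale z'.1).fiber.obj W₂),
      (Scheme.pointSmallEtale z'.1).fiber.map m w = bcPt f η z' V₃ v₃ →
      ∃ (ξ : {ξ : Spec (CommRingCat.of Ω) ⟶ V.toScheme // ξ ≫ h = η₁}),
        ξ.1 ≫ π = z'.1 ∧ w.left = ((liftPt h ξ.2 v₂).left : Spec (CommRingCat.of Ω) ⟶ W₂.left) := by
    intro z' w hw
    have h1 : (w.left : Spec (CommRingCat.of Ω) ⟶ W₂.left) ≫ fstW = v₂.left := by
      have := congrArg (fun y => y.left ≫ EtShriek.prV f V₃) hw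
      refine (congrArg (w.left ≫ ·) hm₁.symm).trans ?_
      exact ((Category.assoc _ _ _).symm.trans this).trans (pullback.lift_fst _ _ _)
    have h2 : ((w.left : Spec (CommRingCat.of Ω) ⟶ W₂.left) ≫ pullback.snd V₂.hom h) ≫ h = η₁ := by
      rw [Category.assoc, ← pullback.condition, ← Category.assoc]
      exact (congrArg (· ≫ V₂.hom) h1).trans (CategoryTheory.Over.w v₂)
    refine ⟨⟨_, h2⟩, ?_, pullback.hom_ext (h1.trans (pullback.lift_fst _ _ _).symm)
      (pullback.lift_snd _ _ _).symm⟩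
    exact (Category.assoc _ _ _).trans (CategoryTheory.Over.w w)
  have hsuppW : ∀ (ξ : {ξ : Spec (CommRingCat.of Ω) ⟶ V.toScheme // ξ ≫ h = η₁}), ξ.1 ≠ q₁ →
      pt₀ ((liftPt h ξ.2 v₂).left : Spec (CommRingCat.of Ω) ⟶ W₂.left) ∉ EtShriek.sectSupp F W₂ S := by
    intro ξ hne
    have h0 := hval ξ
    rw [dif_neg hne] at h0
    have := (germ_eq_zero_iff G _ S).1 h0
    rwa [sectSupp_restrAlong] at this
  constructor
  · rw [evalAt_germ]
    have hη₁' : q₁ ≫ h = η₁ := rfl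
    let w₀ : (Scheme.pointSmallEtale (q₁ ≫ π)).fiber.obj W₂ :=
      extLiftPt ⟨q₁, rfl⟩ ((EtCoh.bc h).obj V₂) (liftPt h hη₁' v₂)
    have hw₀ : (Scheme.pointSmallEtale (q₁ ≫ π)).fiber.map m w₀ = bcPt f η ⟨q₁ ≫ π, hzη⟩ V₃ v₃ := by
      refine CategoryTheory.Over.OverMorphism.ext (pullback.hom_ext ?_ ?_)
      · refine Eq.trans ?_ (pullback.lift_fst _ _ _).symm
        refine (Category.assoc _ _ _).trans ((congrArg (_ ≫ ·) hm₁).trans ?_)
        exact pullback.lift_fst _ _ _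
      · refine Eq.trans ?_ (pullback.lift_snd _ _ _).symm
        exact CategoryTheory.Over.w ((Scheme.pointSmallEtale (q₁ ≫ π)).fiber.map m w₀)
    rw [← hw₀]
    refine (htg Ω _ _ _ w₀ fun w hw hne => ?_).trans ?_
    · obtain ⟨ξ, -, hξ⟩ := hlift (z' := ⟨q₁ ≫ π, hzη⟩) w (hw.trans hw₀)
      rw [hξ]
      refine hsuppW ξ fun e => hne (CategoryTheory.Over.OverMorphism.ext ?_)
      rw [hξ]
      obtain ⟨ξ, hξ'⟩ := ξ
      subst e
      rfl
    · refine Eq.trans ?_ hxP
      have h1 := hval ⟨q₁, hη₁'⟩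
      rw [dif_pos rfl] at h1
      exact (restrStalkMap_germ_apply π q₁ F _ _ S).symm.trans (congrArg (restrStalkMap π q₁ F) h1)
  · intro z' hz'
    rw [evalAt_germ, germ_eq_zero_iff]
    intro hmem
    obtain ⟨y, hy, hye⟩ := ht hmem
    obtain ⟨w, hw, hwy⟩ := exists_lift_point m (bcPt f η z' V₃ v₃) y hye
    obtain ⟨ξ, hξπ, hξ⟩ := hlift w hw
    have hne : ξ.1 ≠ q₁ := fun e => hz' (Subtype.ext (hξπ.symm.trans (congrArg (· ≫ π) e)))
    refine hsuppW ξ hne ?_
    rw [← hξ]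
    exact Set.mem_of_eq_of_mem (s := EtShriek.sectSupp F W₂ S) hwy hy

end Groth.Agent.Shriek
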