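import Groth.Agent.Shriek.FibreInj
import Groth.Agent.Shriek.Lqf
import Groth.Agent.H0PBC.Existence
import Mathlib

/-! families on geometric fibres given by local sections, with proper support -/

set_option autoImplicit false

universe u

open CategoryTheory CategoryTheory.Limits AlgebraicGeometry Opposite

noncomputable section

set_option backward.isDefEq.respectTransparency false
set_option backward.isDefEq.respectTransparency.types false

namespace Groth.Agent.Shriek

open Groth.Agent.EtFound Groth.Agent.H0PBC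

variable {X Y : Scheme.{u}} (f : X ⟶ Y) {Ω : Type u} [Field Ω] [IsAlgClosed Ω]
  (η : Spec (CommRingCat.of Ω) ⟶ Y) (F : EtCoh.Ab X)

/-- a family on the points of the geometric fibre given by local sections -/
def LocGiven (c : ∀ z : PtsOver f η, (EtCoh.stalk z.1).obj F) : Prop :=
  ∀ z₀ : PtsOver f η, ∃ (U : X.Etale) (a₀ : Spec (CommRingCat.of Ω) ⟶ U.left) (ha₀ : a₀ ≫ U.hom = z₀.1)
    (s : EtCoh.sect F U) (Et : (pullback U.hom (pullback.fst f η)).Opens),
    pullback.lift a₀ (fibreSect f z₀) (ha₀.trans (pullback.lift_fst _ _ _).symm) default ∈ Et ∧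
    ∀ (z : PtsOver f η) (a : Spec (CommRingCat.of Ω) ⟶ U.left) (ha : a ≫ U.hom = z.1),
      pullback.lift a (fibreSect f z) (ha.trans (pullback.lift_fst _ _ _).symm) default ∈ Et →
        germ F s z.1 a ha = c z

/-- the support of a family is in a closed part of the fibre proper over the point -/
def ProperlySupported (c : ∀ z : PtsOver f η, (EtCoh.stalk z.1).obj F) : Prop :=
  ∃ C : Set ↥(pullback f η), ClSub.IsProperOver (pullback.snd f η) C ∧
    ∀ z : PtsOver f η, c z ≠ 0 → fibrePt f z.2 ∈ C

theorem exists_evalAt_single' {X Y : Scheme.{u}} (j : X ⟶ Y) [LocallyOfFiniteType j] [IsSeparated j]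
    [LocallyQuasiFinite j] {Ω : Type u} [Field Ω] [IsAlgClosed Ω] (η : Spec (CommRingCat.of Ω) ⟶ Y) (F : EtCoh.Ab X)
    [Subsingleton (PtsOver j η)] (g : ∀ z : PtsOver j η, (EtCoh.stalk z.1).obj F) :
    ∃ d, ∀ z, evalAt j η F z d = g z := by
  by_cases h : Nonempty (PtsOver j η)
  · obtain ⟨z⟩ := h
    obtain ⟨d, hd, -⟩ := exists_evalAt_single j η F z (g z)
    exact ⟨d, fun z' => Subsingleton.elim z z' ▸ hd⟩
  · exact ⟨0, fun z => absurd ⟨z⟩ h⟩

end Groth.Agent.Shriek
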