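import Groth.Agent.Shriek.Comp
import Mathlib

/-! auxiliary facts on pullbacks and on closed subsets proper over a base -/

set_option autoImplicit false

universe u

open CategoryTheory CategoryTheory.Limits AlgebraicGeometry Opposite

noncomputable section

set_option backward.isDefEq.respectTransparency false
set_option backward.isDefEq.respectTransparency.types false

namespace Groth.Agent.Shriek

variable {A B C D E : Scheme.{u}} {a : A ⟶ B} {b : A ⟶ C} {c : B ⟶ D} {d : C ⟶ D} (i : D ⟶ E) [Mono i]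

theorem isPullback_cancel_mono_right (h : IsPullback a b (c ≫ i) (d ≫ i)) : IsPullback a b c d := by
  have hw : a ≫ c = b ≫ d := (cancel_mono i).1 (by rw [Category.assoc, Category.assoc]; exact h.w)
  refine ⟨⟨hw⟩, ⟨PullbackCone.IsLimit.mk hw
    (fun s => h.lift s.fst s.snd (by rw [← Category.assoc, s.condition, Category.assoc]))
    (fun s => h.lift_fst _ _ _) (fun s => h.lift_snd _ _ _) (fun s m h1 h2 => h.hom_ext ?_ ?_)⟩⟩
  · rw [h1, IsPullback.lift_fst]
  · rw [h2, IsPullback.lift_snd]

theorem isPullback_comp_mono_right (h : IsPullback a b c d) : IsPullback a b (c ≫ i) (d ≫ i) := by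
  have hw : a ≫ c ≫ i = b ≫ d ≫ i := by rw [← Category.assoc, h.w, Category.assoc]
  refine ⟨⟨hw⟩, ⟨PullbackCone.IsLimit.mk hw
    (fun s => h.lift s.fst s.snd ((cancel_mono i).1 (by rw [Category.assoc, Category.assoc]; exact s.condition)))
    (fun s => h.lift_fst _ _ _) (fun s => h.lift_snd _ _ _) (fun s m h1 h2 => h.hom_ext ?_ ?_)⟩⟩
  · rw [h1, IsPullback.lift_fst]
  · rw [h2, IsPullback.lift_snd]

section

variable {X S : Scheme.{u}} (p : X ⟶ S) {Z : Set X}

theorem isClosed_image_of_properOver (hZ : ClSub.IsProperOver p Z) : IsClosed (p.base '' Z) := by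
  obtain ⟨hc, hp⟩ := hZ
  let k := (Scheme.IdealSheafData.vanishingIdeal ⟨Z, hc⟩).subschemeι
  haveI : IsProper (k ≫ p) := hp
  have h := (k ≫ p).isClosedMap _ isClosed_univ
  rwa [Set.image_univ, Scheme.Hom.comp_base, TopCat.coe_comp, Set.range_comp, QCoh.range_vanishing] at h

theorem isProperOver_preimage_openImmersion [LocallyOfFiniteType p] {U : Scheme.{u}} (j : U ⟶ X) [IsOpenImmersion j]
    (hZ : ClSub.IsProperOver p Z) (hZU : Z ⊆ Set.range j.base) : ClSub.IsProperOver (j ≫ p) (j.base ⁻¹' Z) := by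
  obtain ⟨hc, hp⟩ := hZ
  let k := (Scheme.IdealSheafData.vanishingIdeal ⟨Z, hc⟩).subschemeι
  haveI : IsProper (k ≫ p) := hp
  let k' := IsOpenImmersion.lift j k (by rw [QCoh.range_vanishing]; exact hZU)
  have hk : k' ≫ j = k := IsOpenImmersion.lift_fac _ _ _
  haveI : IsClosedImmersion k' := by
    haveI : IsClosedImmersion (k' ≫ j) := by rw [hk]; infer_instance
    exact IsClosedImmersion.of_comp k' j
  haveI : IsProper (k' ≫ j ≫ p) := by rw [← Category.assoc, hk]; infer_instance
  have hr : Set.range k'.base = j.base ⁻¹' Z := by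
    refine Set.ext fun x => ⟨?_, fun hx => ?_⟩
    · rintro ⟨y, rfl⟩
      show j.base (k'.base y) ∈ Z
      rw [← Scheme.Hom.comp_apply, hk]
      exact (QCoh.range_vanishing hc).le ⟨y, rfl⟩
    · obtain ⟨y, hy⟩ := (QCoh.range_vanishing hc).ge hx
      refine ⟨y, j.isOpenEmbedding.injective ?_⟩
      rw [← Scheme.Hom.comp_apply, hk]
      exact hy
  rw [← hr]
  exact (QCoh.isProperOver_iff k').2 inferInstance

theorem compactSpace_of_properOver_point {k : Type u} [Field k] {P : Scheme.{u}} (q : P ⟶ Spec (CommRingCat.of k))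
    {C : Set P} (hC : ClSub.IsProperOver q C) : IsCompact C := by
  obtain ⟨hc, hp⟩ := hC
  let i := (Scheme.IdealSheafData.vanishingIdeal ⟨C, hc⟩).subschemeι
  haveI : IsProper (i ≫ q) := hp
  haveI := QuasiCompact.compactSpace_of_compactSpace (i ≫ q)
  rw [← QCoh.range_vanishing hc]
  exact isCompact_range i.continuous

end

end Groth.Agent.Shriek
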