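import Groth.Agent.Shriek.Compactified
import Groth.Agent.Shriek.DescendProper
import Groth.Agent.Shriek.RealiseAux
import Groth.Agent.ChowGen.Assemble
import Groth.Agent.H0PBC.Lifts
import Mathlib

/-! every locally given, properly supported family comes from the direct image with proper support -/

set_option autoImplicit false

universe u

open CategoryTheory CategoryTheory.Limits AlgebraicGeometry Opposite

noncomputable section

set_option backward.isDefEq.respectTransparency false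
set_option backward.isDefEq.respectTransparency.types false

namespace Groth.Agent.Shriek

open LocCohLib.ExciseSect Groth.Agent.EtFound Groth.Agent.H0PBC

theorem toPullStalk_zero {P X : Scheme.{u}} (π : P ⟶ X) (F : EtCoh.Ab X) {K : Type u} [Field K] [IsSepClosed K]
    (ξ : Spec (CommRingCat.of K) ⟶ P) (ζ : Spec (CommRingCat.of K) ⟶ X) (hξ : ξ ≫ π = ζ) :
    toPullStalk π F ξ ζ hξ 0 = 0 := by
  subst hξ
  exact map_zero _

variable {X Y : Scheme.{u}} (f : X ⟶ Y) [IsSeparated f] [LocallyOfFiniteType f]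
  {Ω : Type u} [Field Ω] [IsAlgClosed Ω] (η : Spec (CommRingCat.of Ω) ⟶ Y) (F : EtCoh.Ab X)

theorem exists_opens_chart {C : Set ↥(pullback f η)} (hC : ClSub.IsProperOver (pullback.snd f η) C)
    (W₀ : Y.Opens) (hη : η default ∈ W₀) :
    ∃ U : X.Opens, IsCompact (U : Set X) ∧ U ≤ f ⁻¹ᵁ W₀ ∧ (pullback.fst f η).base '' C ⊆ U := by
  classical
  have hK : IsCompact ((pullback.fst f η).base '' C) :=
    (compactSpace_of_properOver_point _ hC).image (pullback.fst f η).continuous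
  let ι := {O : X.affineOpens // O.1 ≤ f ⁻¹ᵁ W₀}
  obtain ⟨s, hs⟩ := hK.elim_finite_subcover (fun O : ι => (O.1.1 : Set X)) (fun O => O.1.1.2) (by
    rintro _ ⟨y, -, rfl⟩
    have hy : (pullback.fst f η).base y ∈ f ⁻¹ᵁ W₀ := by
      show f.base ((pullback.fst f η).base y) ∈ W₀
      rw [← Scheme.Hom.comp_apply, pullback.condition, Scheme.Hom.comp_apply,
        Subsingleton.elim ((pullback.snd f η).base y) default]
      exact hη
    obtain ⟨O, hO, hyO, hle⟩ := exists_isAffineOpen_mem_and_subset hy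
    exact Set.mem_iUnion.2 ⟨⟨⟨O, hO⟩, hle⟩, hyO⟩)
  refine ⟨⨆ O ∈ s, O.1.1, ?_, iSup₂_le fun O _ => O.2, ?_⟩
  · rw [TopologicalSpace.Opens.coe_iSup]
    simp only [TopologicalSpace.Opens.coe_iSup]
    exact s.finite_toSet.isCompact_biUnion fun O _ => O.1.2.isCompact
  · refine hs.trans ?_
    simp only [TopologicalSpace.Opens.coe_iSup]
    exact le_rfl

/-- surjectivity of evaluation onto locally given families with proper support -/
theorem exists_evalAt_of_locGiven (c : ∀ z : PtsOver f η, (EtCoh.stalk z.1).obj F) (hc : LocGiven f η F c)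
    (hs : ProperlySupported f η F c) : ∃ d, ∀ z, evalAt f η F z d = c z := by
  classical
  obtain ⟨C, hC, hCc⟩ := hs
  obtain ⟨W₀, hW₀, hη, -⟩ := exists_isAffineOpen_mem_and_subset (U := (⊤ : Y.Opens)) (x := η default) trivial
  obtain ⟨U, hUc, hUW, hKU⟩ := exists_opens_chart f η hC W₀ hη
  haveI : IsAffine W₀.toScheme := hW₀
  haveI : CompactSpace U.toScheme := isCompact_iff_compactSpace.1 hUc
  let fU : U.toScheme ⟶ W₀.toScheme := f.resLE W₀ U hUW
  have hfU : fU ≫ W₀.ι = U.ι ≫ f := Scheme.Hom.resLE_comp_ι _ _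
  haveI : IsSeparated fU := by
    haveI : IsSeparated (fU ≫ W₀.ι) := by rw [hfU]; infer_instance
    exact IsSeparated.of_comp fU W₀.ι
  haveI : LocallyOfFiniteType fU := by
    haveI : LocallyOfFiniteType (fU ≫ W₀.ι) := by rw [hfU]; infer_instance
    exact locallyOfFiniteType_of_comp fU W₀.ι
  haveI : QuasiCompact fU := quasiCompact_of_compactSpace fU
  obtain ⟨n, X', π, j, hj, hw, hπ, hsurj⟩ := ChowGen.exists_chow fU
  haveI := hj
  haveI := hπ
  haveI := hsurj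
  haveI := TwistFlat.isProper_toBase n (Y := W₀.toScheme)
  haveI : QuasiCompact j := by
    haveI : QuasiCompact (j ≫ CohB1.ProjSpaceOver.toBase n W₀.toScheme) := by rw [hw]; infer_instance
    exact QuasiCompact.of_comp j (CohB1.ProjSpaceOver.toBase n W₀.toScheme)
  obtain ⟨Zb, jb, fb, hjb, hfb, hw'⟩ : ∃ (Zb : Scheme.{u}) (jb : X' ⟶ Zb) (fb : Zb ⟶ W₀.toScheme),
      IsOpenImmersion jb ∧ IsProper fb ∧ jb ≫ fb = π ≫ fU :=
    ⟨_, j.toImage, j.imageι ≫ CohB1.ProjSpaceOver.toBase n W₀.toScheme, inferInstance, inferInstance,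
      by rw [Scheme.Hom.toImage_imageι_assoc, hw]⟩
  haveI := hjb
  haveI := hfb
  let πX : X' ⟶ X := π ≫ U.ι
  have hπX : πX ≫ f = (jb ≫ fb) ≫ W₀.ι := by
    rw [hw', Category.assoc, Category.assoc, hfU]
  obtain ⟨η₀, hη₀⟩ : ∃ η₀, η₀ ≫ W₀.ι = η := ⟨IsOpenImmersion.lift W₀.ι η (by
    rintro _ ⟨y, rfl⟩
    rw [Scheme.Opens.range_ι, Subsingleton.elim y default]
    exact hη), IsOpenImmersion.lift_fac _ _ _⟩
  let G := (EtCoh.pull πX).obj F
  have hpt : ∀ z : PtsOver (jb ≫ fb) η₀, (z.1 ≫ πX) ≫ f = η := fun z => by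
    rw [Category.assoc, hπX, ← Category.assoc, z.2, hη₀]
  let c' : ∀ z : PtsOver (jb ≫ fb) η₀, (EtCoh.stalk z.1).obj G := fun z =>
    toPullStalk πX F z.1 (z.1 ≫ πX) rfl (c ⟨z.1 ≫ πX, hpt z⟩)
  -- the map of fibres
  let φ : pullback (jb ≫ fb) η₀ ⟶ pullback f η :=
    pullback.lift (pullback.fst _ _ ≫ πX) (pullback.snd _ _) ((Category.assoc _ _ _).trans
      ((congrArg (pullback.fst (jb ≫ fb) η₀ ≫ ·) hπX).trans ((Category.assoc _ _ _).symm.trans
        ((congrArg (· ≫ W₀.ι) pullback.condition).trans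
          ((Category.assoc _ _ _).trans (congrArg (pullback.snd (jb ≫ fb) η₀ ≫ ·) hη₀))))))
  have hφs : φ ≫ pullback.snd f η = pullback.snd (jb ≫ fb) η₀ := pullback.lift_snd _ _ _
  have hφpt : ∀ z : PtsOver (jb ≫ fb) η₀, fibreSect (jb ≫ fb) z ≫ φ = fibreSect f ⟨z.1 ≫ πX, hpt z⟩ := fun z =>
    pullback.hom_ext (by rw [Category.assoc, pullback.lift_fst, pullback.lift_fst_assoc, pullback.lift_fst])
      (by rw [Category.assoc, hφs, pullback.lift_snd, pullback.lift_snd])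
  have hloc : LocGiven (jb ≫ fb) η₀ G c' := by
    intro z₀
    obtain ⟨Ue, a₀, ha₀, s, Et, hmem, hEt⟩ := hc ⟨z₀.1 ≫ πX, hpt z₀⟩
    let U' : X'.Etale := (EtCoh.bc πX).obj Ue
    have hψ : (pullback.fst U'.hom (pullback.fst (jb ≫ fb) η₀) ≫ EtShriek.prV πX Ue) ≫ Ue.hom =
        (pullback.snd U'.hom (pullback.fst (jb ≫ fb) η₀) ≫ φ) ≫ pullback.fst f η := by
      refine (Category.assoc _ _ _).trans ((congrArg (_ ≫ ·) pullback.condition).trans ?_)
      refine ((Category.assoc _ _ _).symm.trans (congrArg (· ≫ πX) pullback.condition)).trans ?_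
      simp only [Category.assoc, φ, pullback.lift_fst]
    let ψ : pullback U'.hom (pullback.fst (jb ≫ fb) η₀) ⟶ pullback Ue.hom (pullback.fst f η) :=
      pullback.lift (pullback.fst _ _ ≫ EtShriek.prV πX Ue) (pullback.snd _ _ ≫ φ) hψ
    have hψpt : ∀ (z : PtsOver (jb ≫ fb) η₀) (a : Spec (CommRingCat.of Ω) ⟶ U'.left) (ha : a ≫ U'.hom = z.1)
        (ha' : (a ≫ EtShriek.prV πX Ue) ≫ Ue.hom = z.1 ≫ πX),
        pullback.lift a (fibreSect (jb ≫ fb) z) (ha.trans (pullback.lift_fst _ _ _).symm) ≫ ψ =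
          pullback.lift (a ≫ EtShriek.prV πX Ue) (fibreSect f ⟨z.1 ≫ πX, hpt z⟩)
            (ha'.trans (pullback.lift_fst _ _ _).symm) := fun z a ha ha' => by
      refine pullback.hom_ext ?_ ?_
      · refine (Category.assoc _ _ _).trans ((congrArg (_ ≫ ·) (pullback.lift_fst _ _ _)).trans ?_)
        exact ((Category.assoc _ _ _).symm.trans (congrArg (· ≫ EtShriek.prV πX Ue) (pullback.lift_fst _ _ _))).trans
          (pullback.lift_fst _ _ _).symm
      · refine (Category.assoc _ _ _).trans ((congrArg (_ ≫ ·) (pullback.lift_snd _ _ _)).trans ?_)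
        exact (((Category.assoc _ _ _).symm.trans (congrArg (· ≫ φ) (pullback.lift_snd _ _ _))).trans (hφpt z)).trans
          (pullback.lift_snd _ _ _).symm
    have hover : ∀ {z : Spec (CommRingCat.of Ω) ⟶ X'} (a : Spec (CommRingCat.of Ω) ⟶ U'.left), a ≫ U'.hom = z →
        (a ≫ EtShriek.prV πX Ue) ≫ Ue.hom = z ≫ πX := fun a ha =>
      (Category.assoc _ _ _).trans ((congrArg (a ≫ ·) pullback.condition).trans
        ((Category.assoc _ _ _).symm.trans (congrArg (· ≫ πX) ha)))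
    let a₀' : Spec (CommRingCat.of Ω) ⟶ U'.left := pullback.lift a₀ z₀.1 ha₀
    have ha₀' : a₀' ≫ U'.hom = z₀.1 := pullback.lift_snd _ _ _
    refine ⟨U', a₀', ha₀', pullSect πX F s, ψ ⁻¹ᵁ Et, ?_, fun z a ha hm => ?_⟩
    · show ψ.base _ ∈ Et
      refine Set.mem_of_eq_of_mem ?_ hmem
      refine (Scheme.Hom.comp_apply _ _ _).symm.trans (congrArg (fun q : Spec (CommRingCat.of Ω) ⟶ _ => q.base default)
        ((hψpt z₀ a₀' ha₀' (hover a₀' ha₀')).trans ?_))
      exact pullback.hom_ext ((pullback.lift_fst _ _ _).trans ((pullback.lift_fst _ _ _).trans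
        (pullback.lift_fst _ _ _).symm)) ((pullback.lift_snd _ _ _).trans (pullback.lift_snd _ _ _).symm)
    · refine (germ_pullSect πX F z.1 (z.1 ≫ πX) rfl s a ha _ (hover a ha) rfl).trans ?_
      refine congrArg (toPullStalk πX F z.1 (z.1 ≫ πX) rfl) (hEt ⟨z.1 ≫ πX, hpt z⟩ _ (hover a ha) ?_)
      refine Set.mem_of_eq_of_mem ?_ (show ψ.base _ ∈ Et from hm)
      exact (congrArg (fun q : Spec (CommRingCat.of Ω) ⟶ _ => q.base default)
        (hψpt z a ha (hover a ha))).symm.trans (Scheme.Hom.comp_apply _ _ _)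
  have hsupp : ProperlySupported (jb ≫ fb) η₀ G c' := by
    let φ₂ : pullback (U.ι ≫ f) η ⟶ pullback f η :=
      pullback.lift (pullback.fst _ _ ≫ U.ι) (pullback.snd _ _) ((Category.assoc _ _ _).trans pullback.condition)
    have sq₂ : IsPullback φ₂ (pullback.fst (U.ι ≫ f) η) (pullback.fst f η) U.ι :=
      (IsPullback.of_bot (h₂₁ := pullback.fst f η) (v₂₁ := pullback.snd f η) (v₂₂ := f) (h₃₁ := η)
        (by rw [pullback.lift_snd]; exact IsPullback.of_hasPullback (U.ι ≫ f) η)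
        (pullback.lift_fst _ _ _).symm (IsPullback.of_hasPullback f η)).flip
    haveI : IsOpenImmersion φ₂ := MorphismProperty.of_isPullback sq₂.flip (inferInstanceAs (IsOpenImmersion U.ι))
    have hCr : C ⊆ Set.range φ₂.base := fun x hx => by
      have hxU : (pullback.fst f η).base x ∈ Set.range U.ι.base := by
        rw [Scheme.Opens.range_ι]; exact hKU ⟨x, hx, rfl⟩
      obtain ⟨y, hy⟩ := hxU
      obtain ⟨t, ht, -⟩ := Scheme.Pullback.exists_preimage_pullback (f := pullback.fst f η) (g := U.ι) x y hy.symm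
      exact ⟨sq₂.isoPullback.inv.base t, by
        rw [← Scheme.Hom.comp_apply, IsPullback.isoPullback_inv_fst]; exact ht⟩
    have hC₂ := isProperOver_preimage_openImmersion (pullback.snd f η) φ₂ hC hCr
    rw [pullback.lift_snd] at hC₂
    let φ₁ : pullback (jb ≫ fb) η₀ ⟶ pullback (U.ι ≫ f) η :=
      pullback.lift (pullback.fst _ _ ≫ π) (pullback.snd _ _) (by
        refine (Category.assoc _ _ _).trans ?_
        rw [← Category.assoc π U.ι f]
        exact (congrArg (pullback.fst (jb ≫ fb) η₀ ≫ ·) hπX).trans ((Category.assoc _ _ _).symm.trans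
          ((congrArg (· ≫ W₀.ι) pullback.condition).trans
            ((Category.assoc _ _ _).trans (congrArg (pullback.snd (jb ≫ fb) η₀ ≫ ·) hη₀)))))
    haveI : IsProper φ₁ := by
      have sq : IsPullback (pullback.fst (jb ≫ fb) η₀) φ₁ π (pullback.fst (U.ι ≫ f) η) := by
        refine IsPullback.of_bot (v₂₁ := pullback.snd (U.ι ≫ f) η) (v₂₂ := U.ι ≫ f) (h₃₁ := η) ?_
          (pullback.lift_fst _ _ _).symm (IsPullback.of_hasPullback _ η)
        have h1 : π ≫ U.ι ≫ f = (jb ≫ fb) ≫ W₀.ι := (Category.assoc π U.ι f).symm.trans hπX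
        rw [pullback.lift_snd, h1]
        have h2 := isPullback_comp_mono_right W₀.ι (IsPullback.of_hasPullback (jb ≫ fb) η₀)
        rw [hη₀] at h2
        exact h2
      exact MorphismProperty.of_isPullback sq ‹IsProper π›
    refine ⟨φ₁.base ⁻¹' (φ₂.base ⁻¹' C), QCoh.IsProperOver.preimage (pullback.lift_snd _ _ _) hC₂, fun z hz => ?_⟩
    have hcz : c ⟨z.1 ≫ πX, hpt z⟩ ≠ 0 := fun h => hz (by
      show toPullStalk πX F z.1 (z.1 ≫ πX) rfl (c ⟨z.1 ≫ πX, hpt z⟩) = 0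
      rw [h]; exact map_zero _)
    have hφ12 : φ₁ ≫ φ₂ = φ := pullback.hom_ext
      (by rw [Category.assoc, pullback.lift_fst, pullback.lift_fst_assoc, pullback.lift_fst, Category.assoc])
      (by rw [Category.assoc, pullback.lift_snd, pullback.lift_snd, pullback.lift_snd])
    show φ₂.base (φ₁.base _) ∈ C
    rw [← Scheme.Hom.comp_apply, hφ12]
    refine Set.mem_of_eq_of_mem ?_ (hCc _ hcz)
    exact (Scheme.Hom.comp_apply _ _ _).symm.trans
      (congrArg (fun q : Spec (CommRingCat.of Ω) ⟶ _ => q.base default) (hφpt z))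
  obtain ⟨d', hd'⟩ := realise_compactified jb fb η₀ G c' hloc hsupp
  obtain ⟨V, v, t', rfl⟩ := (Scheme.pointSmallEtale η₀).toPresheafFiber_jointly_surjective d'
  let VY : Y.Etale := (EtShriek.compEtale W₀.ι).obj V
  let vl : Spec (CommRingCat.of Ω) ⟶ V.left := v.left
  have hvl : vl ≫ V.hom = η₀ := CategoryTheory.Over.w v
  let vY : (Scheme.pointSmallEtale η).fiber.obj VY := CategoryTheory.Over.homMk vl (by
    show vl ≫ V.hom ≫ W₀.ι = η
    rw [← Category.assoc, hvl, hη₀])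
  let Wb : X.Etale := (EtCoh.bc f).obj VY
  let p₁ : Wb.left ⟶ V.left := EtShriek.prV f VY
  let p₂ : Wb.left ⟶ X := pullback.snd VY.hom f
  have hp₁₂ : p₁ ≫ V.hom ≫ W₀.ι = p₂ ≫ f := pullback.condition
  let O : Wb.left.Opens := p₂ ⁻¹ᵁ U
  let W : X.Etale := opn Wb O
  let wU : O.toScheme ⟶ U.toScheme := IsOpenImmersion.lift U.ι (O.ι ≫ p₂) (by
    rintro _ ⟨q, rfl⟩
    rw [Scheme.Opens.range_ι, Scheme.Hom.comp_apply]
    exact q.2)
  have hwU : wU ≫ U.ι = O.ι ≫ p₂ := IsOpenImmersion.lift_fac _ _ _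
  let p : ((EtCoh.bc πX).obj W).left ⟶ O.toScheme := EtShriek.prV πX W
  let q₂ : ((EtCoh.bc πX).obj W).left ⟶ X' := pullback.snd W.hom πX
  have hpq : p ≫ O.ι ≫ p₂ = q₂ ≫ π ≫ U.ι := pullback.condition
  have sqW : IsPullback p q₂ wU π := by
    refine isPullback_cancel_mono_right U.ι ?_
    rw [hwU]
    exact IsPullback.of_hasPullback W.hom πX
  haveI : IsProper (EtShriek.prV πX W) := MorphismProperty.of_isPullback sqW.flip ‹IsProper π›
  haveI : Surjective (EtShriek.prV πX W) := MorphismProperty.of_isPullback sqW.flip ‹Surjective π›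
  let P' := ((EtCoh.bc (jb ≫ fb)).obj V).left
  let r₁ : P' ⟶ V.left := EtShriek.prV (jb ≫ fb) V
  let r₂ : P' ⟶ X' := pullback.snd V.hom (jb ≫ fb)
  have hr₁₂ : r₁ ≫ V.hom = r₂ ≫ jb ≫ fb := pullback.condition
  have he : (p ≫ O.ι ≫ p₁) ≫ V.hom = q₂ ≫ jb ≫ fb := (cancel_mono W₀.ι).1 (by
    simp only [Category.assoc]
    rw [hp₁₂, ← Category.assoc O.ι, ← Category.assoc p, hpq]
    simp only [Category.assoc]
    rw [← Category.assoc π U.ι f]
    show q₂ ≫ πX ≫ f = _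
    rw [hπX]
    simp only [Category.assoc])
  let eₗ : ((EtCoh.bc πX).obj W).left ⟶ P' := pullback.lift (p ≫ O.ι ≫ p₁) q₂ he
  have heₗ₁ : eₗ ≫ r₁ = p ≫ O.ι ≫ p₁ := pullback.lift_fst _ _ _
  have heₗ₂ : eₗ ≫ r₂ = q₂ := pullback.lift_snd _ _ _
  haveI : IsIso eₗ := by
    let b : P' ⟶ Wb.left := pullback.lift r₁ (r₂ ≫ πX) (by
      show r₁ ≫ V.hom ≫ W₀.ι = (r₂ ≫ πX) ≫ f
      rw [← Category.assoc, hr₁₂, Category.assoc, Category.assoc, Category.assoc, hπX]
      simp only [Category.assoc])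
    have hb₁ : b ≫ p₁ = r₁ := pullback.lift_fst _ _ _
    have hb₂ : b ≫ p₂ = r₂ ≫ πX := pullback.lift_snd _ _ _
    let bO : P' ⟶ O.toScheme := IsOpenImmersion.lift O.ι b (by
      rintro _ ⟨q, rfl⟩
      rw [Scheme.Opens.range_ι]
      show p₂.base (b.base q) ∈ U
      rw [← Scheme.Hom.comp_apply, hb₂, ← Category.assoc, Scheme.Hom.comp_apply]
      exact ((r₂ ≫ π).base q).2)
    have hbO : bO ≫ O.ι = b := IsOpenImmersion.lift_fac _ _ _
    let inv : P' ⟶ ((EtCoh.bc πX).obj W).left := pullback.lift bO r₂ (by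
      show bO ≫ O.ι ≫ p₂ = r₂ ≫ πX
      rw [← Category.assoc, hbO, hb₂])
    have hi₁ : inv ≫ p = bO := pullback.lift_fst _ _ _
    have hi₂ : inv ≫ q₂ = r₂ := pullback.lift_snd _ _ _
    refine ⟨inv, sqW.hom_ext ?_ ?_, pullback.hom_ext ?_ ?_⟩
    · rw [Category.assoc, hi₁, Category.id_comp, ← cancel_mono O.ι, Category.assoc, hbO]
      refine pullback.hom_ext ?_ ?_
      · show (eₗ ≫ b) ≫ p₁ = (p ≫ O.ι) ≫ p₁
        rw [Category.assoc, hb₁, heₗ₁, Category.assoc]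
      · show (eₗ ≫ b) ≫ p₂ = (p ≫ O.ι) ≫ p₂
        rw [Category.assoc, hb₂, ← Category.assoc, heₗ₂, Category.assoc, hpq]
    · rw [Category.assoc, hi₂, Category.id_comp, heₗ₂]
    · show (inv ≫ eₗ) ≫ r₁ = 𝟙 P' ≫ r₁
      rw [Category.assoc, heₗ₁, ← Category.assoc inv, hi₁, ← Category.assoc bO, hbO, hb₁, Category.id_comp]
    · show (inv ≫ eₗ) ≫ r₂ = 𝟙 P' ≫ r₂
      rw [Category.assoc, heₗ₂, hi₂, Category.id_comp]
  let e : (EtCoh.bc πX).obj W ⟶ (EtCoh.bc (jb ≫ fb)).obj V := MorphismProperty.Over.homMk eₗ heₗ₂ trivial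
  let τ : EtCoh.sect G ((EtCoh.bc πX).obj W) := G.obj.map e.op t'.1
  -- the support downstairs
  haveI : IsSeparated p₁ := MorphismProperty.pullback_fst _ _ ‹IsSeparated f›
  haveI : LocallyOfFiniteType p₁ := MorphismProperty.pullback_fst _ _ ‹LocallyOfFiniteType f›
  haveI : LocallyOfFiniteType r₁ :=
    MorphismProperty.pullback_fst _ _ (inferInstanceAs (LocallyOfFiniteType (jb ≫ fb)))
  haveI : LocallyOfFiniteType p := inferInstanceAs (LocallyOfFiniteType (EtShriek.prV πX W))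
  have hτ : ClSub.IsProperOver (p ≫ O.ι ≫ p₁) (EtShriek.sectSupp G _ τ) := by
    rw [sectSupp_map_eq]
    exact QCoh.IsProperOver.preimage (f := eₗ) heₗ₁ (PS_of_section (jb ≫ fb) t')
  let Z : Set Wb.left := O.ι.base '' (p.base '' EtShriek.sectSupp G _ τ)
  have hZ : ClSub.IsProperOver p₁ Z := (isProperOver_of_comp O.ι p₁ (isProperOver_of_comp p (O.ι ≫ p₁) hτ).2).2
  -- values at the points over the piece
  have hlift : ∀ z : PtsOver f η, pt₀ (bcPt f η z VY vY).left ∈ O →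
      ∃ uW : (Scheme.pointSmallEtale z.1).fiber.obj W,
        (uW.left : Spec (CommRingCat.of Ω) ⟶ O.toScheme) ≫ O.ι = (bcPt f η z VY vY).left := by
    intro z hz
    refine ⟨CategoryTheory.Over.homMk (IsOpenImmersion.lift O.ι (bcPt f η z VY vY).left (by
      rintro _ ⟨y, rfl⟩
      refine (Scheme.Opens.range_ι O).ge ?_
      rw [Subsingleton.elim (α := Spec (CommRingCat.of Ω)) y default]
      exact hz)) ?_, IsOpenImmersion.lift_fac _ _ _⟩
    show IsOpenImmersion.lift O.ι (bcPt f η z VY vY).left _ ≫ O.ι ≫ Wb.hom = z.1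
    rw [IsOpenImmersion.lift_fac_assoc]
    exact CategoryTheory.Over.w (bcPt f η z VY vY)
  have hkey' : ∀ (z : Spec (CommRingCat.of Ω) ⟶ X) (hz : z ≫ f = η) (uW : (Scheme.pointSmallEtale z).fiber.obj W),
      (uW.left : Spec (CommRingCat.of Ω) ⟶ O.toScheme) ≫ O.ι = (bcPt f η ⟨z, hz⟩ VY vY).left →
      ∀ (ξ : Spec (CommRingCat.of Ω) ⟶ X') (hξ : ξ ≫ πX = z), germ G τ ξ (bcPt πX z ⟨ξ, hξ⟩ W uW).left
        (CategoryTheory.Over.w (bcPt πX z ⟨ξ, hξ⟩ W uW)) = toPullStalk πX F ξ z hξ (c ⟨z, hz⟩) := by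
    intro z hz uW huW ξ hξ
    subst hξ
    have hz' : ξ ≫ jb ≫ fb = η₀ := (cancel_mono W₀.ι).1 (by
      rw [Category.assoc, ← hπX, ← Category.assoc, hz, hη₀])
    let z' : PtsOver (jb ≫ fb) η₀ := ⟨ξ, hz'⟩
    let bp : Spec (CommRingCat.of Ω) ⟶ ((EtCoh.bc πX).obj W).left := (bcPt πX _ ⟨ξ, rfl⟩ W uW).left
    have hb₁ : bp ≫ p = (uW.left : Spec (CommRingCat.of Ω) ⟶ O.toScheme) := pullback.lift_fst _ _ _
    have hb₂ : bp ≫ q₂ = ξ := pullback.lift_snd _ _ _
    refine (germ_map G e t'.1 ξ bp (CategoryTheory.Over.w (bcPt πX _ ⟨ξ, rfl⟩ W uW))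
      (bcPt (jb ≫ fb) η₀ z' V v).left (CategoryTheory.Over.w (bcPt (jb ≫ fb) η₀ z' V v)) ?_).trans ?_
    · refine pullback.hom_ext ?_ ?_
      · show (bp ≫ eₗ) ≫ r₁ = (bcPt (jb ≫ fb) η₀ z' V v).left ≫ r₁
        rw [Category.assoc, heₗ₁, ← Category.assoc, hb₁, ← Category.assoc]
        refine (congrArg (· ≫ p₁) huW).trans ((pullback.lift_fst _ _ _).trans ?_)
        exact (pullback.lift_fst vl ξ (hvl.trans hz'.symm)).symm
      · show (bp ≫ eₗ) ≫ r₂ = (bcPt (jb ≫ fb) η₀ z' V v).left ≫ r₂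
        rw [Category.assoc, heₗ₂, hb₂]
        exact (pullback.lift_snd vl ξ (hvl.trans hz'.symm)).symm
    · exact (evalAt_germ' (jb ≫ fb) η₀ G z' V v t').symm.trans (hd' z')
  have hkey : ∀ (z : PtsOver f η) (uW : (Scheme.pointSmallEtale z.1).fiber.obj W),
      (uW.left : Spec (CommRingCat.of Ω) ⟶ O.toScheme) ≫ O.ι = (bcPt f η z VY vY).left →
      ∀ ξ : PtsOver πX z.1, germ G τ ξ.1 (bcPt πX z.1 ξ W uW).left
        (CategoryTheory.Over.w (bcPt πX z.1 ξ W uW)) = toPullStalk πX F ξ.1 z.1 ξ.2 (c z) :=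
    fun z uW huW ξ => hkey' z.1 z.2 uW huW ξ.1 ξ.2
  have hexlift : ∀ {Ω' : Type u} [Field Ω'] [IsAlgClosed Ω'] (ζ : Spec (CommRingCat.of Ω') ⟶ X)
      (uW : (Scheme.pointSmallEtale ζ).fiber.obj W), Nonempty (PtsOver πX ζ) := by
    intro Ω' _ _ ζ uW
    obtain ⟨y, hy⟩ := (EtShriek.prV πX W).surjective (pt₀ uW.left)
    obtain ⟨ξ, hξ, -⟩ :=
      Groth.Agent.BigSiteLib.DescSec.exists_liftPt_mem πX uW isClosed_univ y (Set.mem_univ y) hy
    exact ⟨⟨ξ, hξ⟩⟩
  let B := descLocus πX F τ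
  obtain ⟨σ, hσ⟩ := exists_descend πX F τ
  -- the support of the descended section
  have hσsupp : ∀ q ∈ EtShriek.sectSupp F (opn W B) σ, O.ι.base (B.ι.base q) ∈ Z := by
    intro q hq
    obtain ⟨Ω', _, _, a, ha⟩ := exists_geom_point (X := B.toScheme) q
    let ζ : Spec (CommRingCat.of Ω') ⟶ X := a ≫ (opn W B).hom
    let uB : (Scheme.pointSmallEtale ζ).fiber.obj (opn W B) := CategoryTheory.Over.homMk a rfl
    obtain ⟨⟨ξ, hξ⟩⟩ := hexlift ζ ((Scheme.pointSmallEtale ζ).fiber.map (opnι W B) uB)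
    have hne : germ F σ ζ a rfl ≠ 0 := fun h => (germ_eq_zero_iff' F σ ζ a rfl).1 h (by
      show a default ∈ _
      rw [ha]; exact hq)
    let ab := bcPt πX ζ ⟨ξ, hξ⟩ (opn W B) uB
    have hne' : germ G (pullSect πX F σ) ξ ab.left (CategoryTheory.Over.w ab) ≠ 0 := by
      rw [germ_pullSect πX F ξ ζ hξ σ ab.left _ a rfl (pullback.lift_fst _ _ _)]
      intro h
      exact hne (toPullStalk_injective πX F ξ ζ hξ (h.trans (toPullStalk_zero πX F ξ ζ hξ).symm))
    rw [hσ] at hne'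
    have hmem := not_not.1 (mt (germ_eq_zero_iff' G _ ξ ab.left (CategoryTheory.Over.w ab)).2 hne')
    rw [sectSupp_map_eq] at hmem
    refine ⟨_, ⟨_, hmem, rfl⟩, congrArg O.ι.base ?_⟩
    rw [← ha, ← Scheme.Hom.comp_apply, ← Scheme.Hom.comp_apply, ← Scheme.Hom.comp_apply]
    refine congrArg (fun g : Spec (CommRingCat.of Ω') ⟶ O.toScheme => g.base default) ?_
    refine (congrArg (ab.left ≫ ·) (EtCoh.isPullback_bc_map πX (opnι W B)).w).trans ?_
    exact (Category.assoc _ _ _).symm.trans (congrArg (· ≫ B.ι) (pullback.lift_fst _ _ _))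
  -- shrink
  let OB : Wb.left.Opens := ⟨O.ι.base '' (B : Set W.left), O.ι.isOpenEmbedding.isOpenMap _ B.2⟩
  have hbad : ClSub.IsProperOver p₁ (Z ∩ (OB : Set Wb.left)ᶜ) :=
    QCoh.IsProperOver.subset hZ (hZ.1.inter OB.2.isClosed_compl) Set.inter_subset_left
  let N : V.left.Opens := ⟨(p₁.base '' (Z ∩ (OB : Set Wb.left)ᶜ))ᶜ,
    (isClosed_image_of_properOver p₁ hbad).isOpen_compl⟩
  have hN : pt₀ vl ∈ N := by
    rintro ⟨x, hx, hxv⟩
    obtain ⟨z, hz, hmz⟩ :=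
      Groth.Agent.BigSiteLib.DescSec.exists_liftPt_mem f vY hbad.1 x hx hxv
    have hxZ : pt₀ (bcPt f η ⟨z, hz⟩ VY vY).left ∈ Z ∩ (OB : Set Wb.left)ᶜ := hmz
    obtain ⟨⟨o, -, ho⟩, hnB⟩ := hxZ
    obtain ⟨uW, huW⟩ := hlift ⟨z, hz⟩ ((Scheme.Opens.range_ι O).le ⟨o, ho⟩)
    refine hnB ⟨pt₀ uW.left, mem_descLocus πX F τ z uW (c ⟨z, hz⟩) (hkey ⟨z, hz⟩ uW huW), ?_⟩
    exact (Scheme.Hom.comp_apply _ _ _).symm.trans (congrArg pt₀ huW)
  let V₁ : Y.Etale := opn VY N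
  let g₁ : V₁ ⟶ VY := opnι VY N
  obtain ⟨v₁, hv₁, -⟩ := exists_lift_point g₁ vY ⟨pt₀ vl, hN⟩ rfl
  let W₁ : X.Etale := (EtCoh.bc f).obj V₁
  let r := (EtCoh.bc f).map g₁
  have sqr := EtCoh.isPullback_bc_map f g₁
  let A : W₁.left.Opens := r.left ⁻¹ᵁ OB
  let Zc : W₁.left.Opens := r.left ⁻¹ᵁ ⟨Zᶜ, hZ.1.isOpen_compl⟩
  let κ := ULift.{u} Bool
  let T : κ → X.Etale := fun b => opn W₁ (cond b.down A Zc)
  let gT : ∀ b : κ, T b ⟶ W₁ := fun b => opnι W₁ (cond b.down A Zc)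
  let lA : A.toScheme ⟶ B.toScheme := IsOpenImmersion.lift (B.ι ≫ O.ι) (A.ι ≫ r.left) (by
    rintro _ ⟨y, rfl⟩
    have hy : r.left.base (A.ι.base y) ∈ OB := y.2
    obtain ⟨w, hw, e⟩ := hy
    refine ⟨⟨w, hw⟩, ?_⟩
    exact (Scheme.Hom.comp_apply _ _ _).trans (e.trans (Scheme.Hom.comp_apply _ _ _).symm))
  have hlA : lA ≫ B.ι ≫ O.ι = A.ι ≫ r.left := IsOpenImmersion.lift_fac _ _ _
  let mA : opn W₁ A ⟶ opn W B := MorphismProperty.Over.homMk lA (by
    show lA ≫ B.ι ≫ O.ι ≫ Wb.hom = A.ι ≫ W₁.hom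
    rw [reassoc_of% hlA]
    exact congrArg (A.ι ≫ ·) (MorphismProperty.Over.w r)) trivial
  let sT : ∀ b : κ, EtCoh.sect F (T b) := fun b => match b with
    | ⟨true⟩ => F.obj.map mA.op σ
    | ⟨false⟩ => 0
  have hsT : ∀ (K : Type u) [Field K] [IsSepClosed K] (ξ : Spec (CommRingCat.of K) ⟶ X)
      (a : Spec (CommRingCat.of K) ⟶ A.toScheme) (ha : a ≫ (opn W₁ A).hom = ξ),
      r.left.base (A.ι.base (a default)) ∉ Z → germ F (F.obj.map mA.op σ) ξ a ha = 0 := by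
    intro K _ _ ξ a ha hn
    refine (germ_eq_zero_iff' F (U := opn W₁ A) _ ξ a ha).2 ?_
    rw [sectSupp_map_eq]
    intro hm
    refine hn (Set.mem_of_eq_of_mem ?_ (hσsupp _ hm))
    rw [← Scheme.Hom.comp_apply, ← Scheme.Hom.comp_apply, ← hlA, Scheme.Hom.comp_apply, Scheme.Hom.comp_apply]
    rfl
  obtain ⟨s₁, hs₁⟩ := exists_glue F gT (fun x => by
      by_cases hx : r.left.base x ∈ Z
      · suffices hA : r.left.base x ∈ OB from ⟨⟨true⟩, ⟨x, hA⟩, rfl⟩
        by_contra hn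
        exact ((EtShriek.prV f V₁).base x).2 ⟨r.left.base x, ⟨hx, hn⟩, by
          rw [← Scheme.Hom.comp_apply]
          exact (congrArg (fun g => g.base x) sqr.w).trans (Scheme.Hom.comp_apply _ _ _)⟩
      · exact ⟨⟨false⟩, ⟨x, hx⟩, rfl⟩) sT
    (fun k l K _ _ ξ a ha b hb hab => by
      obtain ⟨k⟩ := k
      obtain ⟨l⟩ := l
      cases k <;> cases l
      · have hab' : (a : Spec (CommRingCat.of K) ⟶ Zc.toScheme) = b := (cancel_mono Zc.ι).1 hab
        subst hab'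
        rfl
      · refine ((hsT K ξ b hb ?_).trans (map_zero _).symm).symm
        refine fun h => (a default).2 ?_
        refine Set.mem_of_eq_of_mem (congrArg r.left.base ?_) h
        exact (Scheme.Hom.comp_apply _ _ _).symm.trans
          ((congrArg (fun g => g.base default) hab).trans (Scheme.Hom.comp_apply _ _ _))
      · refine (hsT K ξ a ha ?_).trans (map_zero _).symm
        refine fun h => (b default).2 ?_
        refine Set.mem_of_eq_of_mem (congrArg r.left.base ?_) h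
        exact (Scheme.Hom.comp_apply _ _ _).symm.trans
          ((congrArg (fun g => g.base default) hab.symm).trans (Scheme.Hom.comp_apply _ _ _))
      · have hab' : (a : Spec (CommRingCat.of K) ⟶ A.toScheme) = b := (cancel_mono A.ι).1 hab
        subst hab'
        rfl)
  have hPS : PS F f V₁ s₁ := by
    refine QCoh.IsProperOver.subset (QCoh.IsProperOver.baseChange sqr hZ) (isClosed_sectSupp F s₁) fun x hx => ?_
    by_contra hn
    exact hx _ (gT ⟨false⟩) ⟨⟨x, hn⟩, rfl⟩ (hs₁ ⟨false⟩)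
  refine ⟨(Scheme.pointSmallEtale η).toPresheafFiber V₁ v₁ ((shriek f).obj F).obj (mkSect f s₁ hPS), fun z => ?_⟩
  rw [evalAt_germ']
  let x := (bcPt f η z V₁ v₁).left
  have hx : x ≫ r.left = (bcPt f η z VY vY).left := (bcPt_map_left f z g₁ v₁).trans (by rw [hv₁])
  by_cases hxZ : r.left.base (pt₀ x) ∈ Z
  · obtain ⟨uW, huW⟩ := hlift z (by
      obtain ⟨o, -, e⟩ := hxZ
      refine (Scheme.Opens.range_ι O).le ⟨o, e.trans ?_⟩
      exact (Scheme.Hom.comp_apply _ _ _).symm.trans (congrArg pt₀ hx))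
    have hxA : Set.range x.base ⊆ Set.range A.ι.base := by
      rintro _ ⟨y, rfl⟩
      rw [Scheme.Opens.range_ι, Subsingleton.elim (α := Spec (CommRingCat.of Ω)) y default]
      show r.left.base (pt₀ x) ∈ OB
      by_contra hn
      exact ((EtShriek.prV f V₁).base (pt₀ x)).2 ⟨_, ⟨hxZ, hn⟩, by
        rw [← Scheme.Hom.comp_apply]
        exact (congrArg (fun g => g.base (pt₀ x)) sqr.w).trans (Scheme.Hom.comp_apply _ _ _)⟩
    let xA := IsOpenImmersion.lift A.ι x hxA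
    have hxA' : xA ≫ A.ι = x := IsOpenImmersion.lift_fac _ _ _
    have hxA'' : xA ≫ (opn W₁ A).hom = z.1 := by
      show xA ≫ A.ι ≫ W₁.hom = z.1
      rw [← Category.assoc, hxA']
      exact CategoryTheory.Over.w (bcPt f η z V₁ v₁)
    have hxB : (xA ≫ lA) ≫ (opn W B).hom = z.1 := by
      rw [Category.assoc]
      exact (congrArg (xA ≫ ·) (MorphismProperty.Over.w mA)).trans hxA''
    refine (germ_map F (gT ⟨true⟩) s₁ z.1 xA hxA'' x (CategoryTheory.Over.w (bcPt f η z V₁ v₁)) hxA').symm.trans ?_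
    rw [hs₁ ⟨true⟩]
    refine (germ_map F mA σ z.1 xA hxA'' (xA ≫ lA) hxB rfl).trans ?_
    let uB : (Scheme.pointSmallEtale z.1).fiber.obj (opn W B) := CategoryTheory.Over.homMk (xA ≫ lA) hxB
    obtain ⟨⟨ξ, hξ⟩⟩ := hexlift z.1 uW
    refine toPullStalk_injective πX F ξ z.1 hξ ?_
    let ab := bcPt πX z.1 ⟨ξ, hξ⟩ (opn W B) uB
    rw [← germ_pullSect πX F ξ z.1 hξ σ ab.left (CategoryTheory.Over.w ab) (xA ≫ lA) hxB (pullback.lift_fst _ _ _), hσ,
      ← hkey z uW huW ⟨ξ, hξ⟩]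
    refine germ_map G _ τ ξ _ _ _ _ ((bcPt_map_left πX ⟨ξ, hξ⟩ (opnι W B) uB).trans ?_)
    refine congrArg (fun u => (bcPt πX z.1 ⟨ξ, hξ⟩ W u).left) (CategoryTheory.Over.OverMorphism.ext ?_)
    rw [← cancel_mono O.ι]
    show ((xA ≫ lA) ≫ B.ι) ≫ O.ι = _
    rw [Category.assoc, Category.assoc, hlA, ← Category.assoc, hxA', hx]
    exact huW.symm
  · have h0 : germ F s₁ z.1 x (CategoryTheory.Over.w (bcPt f η z V₁ v₁)) = 0 :=
      (germ_eq_zero_iff' F s₁ z.1 x _).2 fun hm => hxZ (by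
        by_contra hn
        exact hm _ (gT ⟨false⟩) ⟨⟨pt₀ x, hn⟩, rfl⟩ (hs₁ ⟨false⟩))
    refine h0.trans ?_
    by_contra hne
    have hxU : pt₀ (bcPt f η z VY vY).left ∈ O := by
      refine hKU ⟨fibrePt f z.2, hCc z (Ne.symm hne), ?_⟩
      refine (Scheme.Hom.comp_apply _ _ _).symm.trans ?_
      rw [pullback.lift_fst]
      exact (congrArg pt₀ (CategoryTheory.Over.w (bcPt f η z VY vY))).symm.trans (Scheme.Hom.comp_apply _ _ _)
    obtain ⟨uW, huW⟩ := hlift z hxU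
    obtain ⟨⟨ξ, hξ⟩⟩ := hexlift z.1 uW
    let bp := bcPt πX z.1 ⟨ξ, hξ⟩ W uW
    have hne' : germ G τ ξ bp.left (CategoryTheory.Over.w bp) ≠ 0 := by
      rw [hkey z uW huW ⟨ξ, hξ⟩]
      intro h
      exact hne (toPullStalk_injective πX F ξ z.1 hξ (h.trans (toPullStalk_zero πX F ξ z.1 hξ).symm)).symm
    have hm := not_not.1 (mt (germ_eq_zero_iff' G τ ξ bp.left (CategoryTheory.Over.w bp)).2 hne')
    refine hxZ ⟨_, ⟨_, hm, rfl⟩, ?_⟩
    refine Eq.trans ?_ (Scheme.Hom.comp_apply x r.left (default : Spec (CommRingCat.of Ω))).symm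
    refine Eq.trans ?_ (congrArg pt₀ hx).symm
    refine Eq.trans ?_ (congrArg pt₀ huW)
    refine Eq.trans ?_ (Scheme.Hom.comp_apply _ _ _).symm
    refine congrArg O.ι.base ((Scheme.Hom.comp_apply _ _ _).symm.trans ?_)
    exact congrArg pt₀ (pullback.lift_fst _ _ _)

end Groth.Agent.Shriek
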