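import Groth.Agent.Shriek.Supp
import Mathlib

/-! the direct image with proper support as a sheaf of sections -/

set_option autoImplicit false

universe u

open CategoryTheory CategoryTheory.Limits AlgebraicGeometry Opposite

noncomputable section

set_option backward.isDefEq.respectTransparency false
set_option backward.isDefEq.respectTransparency.types false

namespace Groth.Agent.Shriek

variable {X Y : Scheme.{u}} (f : X ⟶ Y) [LocallyOfFiniteType f]

/-- sections with proper support, as sheaves -/
def shriek : EtCoh.Ab X ⥤ EtCoh.Ab Y where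
  obj F := ⟨EtShriek.lowerShriekPre f F, isSheaf_lowerShriekPre F f⟩
  map α := ⟨(EtShriek.lowerShriekPreFunctor f).map α⟩
  map_id F := ObjectProperty.hom_ext _ ((EtShriek.lowerShriekPreFunctor f).map_id F)
  map_comp α β := ObjectProperty.hom_ext _ ((EtShriek.lowerShriekPreFunctor f).map_comp α β)

/-- the direct image with proper support is the sheaf of sections with proper support -/
def shriekIso : EtShriek.lowerShriek f ≅ shriek f :=
  (Functor.isoWhiskerLeft (shriek f)
    (asIso (sheafificationAdjunction Y.smallEtaleTopology AddCommGrpCat.{u + 1}).counit)) ≪≫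
    Functor.rightUnitor _

/-- the inclusion into the direct image -/
def shriekToPush : shriek f ⟶ EtCoh.push f where
  app F := ⟨EtShriek.lowerShriekPreι f F⟩
  naturality F G α := ObjectProperty.hom_ext _ (by ext V ⟨s, hs⟩; rfl)

theorem mono_shriekToPush_app (F : EtCoh.Ab X) : Mono ((shriekToPush f).app F) := by
  haveI : ∀ V, Mono (((shriekToPush f).app F).hom.app V) := fun V =>
    (AddCommGrpCat.mono_iff_injective _).2 Subtype.val_injective
  haveI : Mono ((shriekToPush f).app F).hom := NatTrans.mono_of_mono_app _
  exact (sheafToPresheaf _ _).mono_of_mono_map this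

variable {F : EtCoh.Ab X}

theorem PS_of_section {V : Y.Etale} (t : EtCoh.sect ((shriek f).obj F) V) : PS F f V t.1 :=
  (mem_shriekSubgroup_iff F f t.1).1 t.2

/-- a section of proper support as a section of the direct image with proper support -/
def mkSect {V : Y.Etale} (s : EtCoh.sect F ((EtCoh.bc f).obj V)) (h : PS F f V s) :
    EtCoh.sect ((shriek f).obj F) V :=
  ⟨s, (mem_shriekSubgroup_iff F f s).2 h⟩

theorem supp_shriek {V : Y.Etale} (t : EtCoh.sect ((shriek f).obj F) V) :
    EtShriek.sectSupp ((shriek f).obj F) V t =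
      (EtShriek.prV f V).base '' EtShriek.sectSupp F ((EtCoh.bc f).obj V) t.1 := by
  have hs := PS_of_section f t
  obtain ⟨hcl, hp⟩ := hs
  ext y
  constructor
  · intro hy
    by_contra hn
    let k := (Scheme.IdealSheafData.vanishingIdeal ⟨_, hcl⟩).subschemeι
    have hC : IsClosed ((EtShriek.prV f V).base '' EtShriek.sectSupp F ((EtCoh.bc f).obj V) t.1) := by
      haveI : IsProper (k ≫ EtShriek.prV f V) := hp
      have := (k ≫ EtShriek.prV f V).isClosedMap _ isClosed_univ
      rwa [Set.image_univ, Scheme.Hom.comp_base, TopCat.coe_comp, Set.range_comp, QCoh.range_vanishing] at this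
    let O : V.left.Opens := ⟨_, hC.isOpen_compl⟩
    let g := LocCohLib.ExciseSect.opnι V O
    refine hy _ g ⟨⟨y, hn⟩, rfl⟩ (Subtype.ext ?_)
    show F.obj.map ((EtCoh.bc f).map g).op t.1 = 0
    refine eq_zero_of_supp F _ ?_
    rw [sectSupp_map_eq]
    refine Set.eq_empty_iff_forall_notMem.2 fun x hx => ?_
    have e := congrArg (fun q => q.base x) (EtCoh.isPullback_bc_map f g).w
    simp only [Scheme.Hom.comp_apply] at e
    exact ((EtShriek.prV f (LocCohLib.ExciseSect.opn V O)).base x).2 ⟨_, hx, e⟩
  · rintro ⟨x, hx, rfl⟩ W g ⟨w, hw⟩ h0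
    have sq := EtCoh.isPullback_bc_map f g
    obtain ⟨z, hz, -⟩ := Scheme.Pullback.exists_preimage_pullback
      (f := EtShriek.prV f V) (g := g.left) x w hw.symm
    have hz' : sq.isoPullback.inv.base z ∈
        EtShriek.sectSupp F ((EtCoh.bc f).obj W) (F.obj.map ((EtCoh.bc f).map g).op t.1) := by
      rw [sectSupp_map_eq, Set.mem_preimage, ← Scheme.Hom.comp_apply, IsPullback.isoPullback_inv_fst, hz]
      exact hx
    rw [show F.obj.map ((EtCoh.bc f).map g).op t.1 = 0 from congrArg Subtype.val h0, sectSupp_zero] at hz'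
    exact hz'

end Groth.Agent.Shriek
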